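import Cfsg.Agent.Lib.H6.Co2M.CB.FT0
import Cfsg.Agent.Lib.H6.Co2M.CB.FT1
import Cfsg.Agent.Lib.H6.Co2M.CB.FT2
import Cfsg.Agent.Lib.H6.Co2M.CB.FT3
import Cfsg.Agent.Lib.H6.Co2M.CB.FT4
import Cfsg.Agent.Lib.H6.Co2M.CB.FT5
import Cfsg.Agent.Lib.H6.Co2M.CB.FT6
import Cfsg.Agent.Lib.H6.Co2M.CB.FT7
import Cfsg.Agent.Lib.H6.Co2M.CB.FT8
import Cfsg.Agent.Lib.H6.Co2M.CB.FT9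
import Cfsg.Agent.Lib.H6.Co2M.CB.FT10
import Cfsg.Agent.Lib.H6.Co2M.CB.FT11
import Cfsg.Agent.Lib.H6.Co2M.CB.FT12
import Cfsg.Agent.Lib.H6.Co2M.CB.FT13
import Cfsg.Agent.Lib.H6.Co2M.CB.FT14

set_option autoImplicit false
set_option maxRecDepth 100000
set_option Elab.async false

/-! # Data of the monomial coset enumeration (generated) -/

namespace Cfsg.Agent.Lib.H6.Co2M.CB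

open Cfsg.Agent.Lib.H17.CosetCert (BT WT)
open Cfsg.Agent.Lib.H17.MonoCert

/-- the packed facts -/
def factTree : BT := .node (.node (.node (.node (ft0) (ft1)) (.node (ft2) (ft3))) (.node (.node (ft4) (ft5)) (.node (ft6) (ft7)))) (.node (.node (.node (ft8) (ft9)) (.node (ft10) (ft11))) (.node (.node (ft12) (ft13)) (.node (ft14) (.leaf 0))))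

/-- the fact with a given number -/
noncomputable def F (f : ℕ) : (ℕ × ℕ × ℕ) × List ℤ :=
  Cfsg.Agent.Lib.H6.Co2M.factOfM5 factTree 1024 256 36 68719476736 16 65536 0 f

/-- the words -/
def words : WT := .node (.node (.node (.node (.node (.node (.node (.node (.node (.node (.leaf [0] false) (.leaf [9, 6, 2, 1, 6, 3, 4, 7, 8, 4, 6, 5, 2, 7, 0, 4, 4, 2, 2, 1] true)) (.node (.leaf [9, 6, 6, 5, 3, 6, 5, 0, 8, 2, 2, 7, 7, 1, 3, 0, 2, 7, 4] true) (.nil))) (.node (.node (.leaf [0, 0, 0, 0, 5, 1, 3, 3, 3, 1, 2, 2, 5, 2] true) (.nil)) (.node (.leaf [9, 2, 4, 3, 7, 5, 1, 4, 8, 1, 1, 6, 5, 7, 3, 5, 2, 0, 3, 4] true) (.nil)))) (.node (.node (.node (.leaf [0, 2, 0, 5, 2, 1, 5, 3, 1, 3, 4,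 2, 0, 4] true) (.nil)) (.node (.leaf [9, 6, 3, 4, 1, 1, 5, 2, 8, 7, 4, 3, 4, 1, 5, 2, 1, 5, 5] true) (.nil))) (.node (.node (.leaf [9, 6, 3, 0, 3, 1, 8, 7, 2, 0, 3, 0, 5, 1, 4, 4, 3] true) (.nil)) (.node (.leaf [9, 3, 7, 3, 7, 3, 0, 6, 8, 0, 7, 0, 3, 1, 3, 3, 1, 7, 0, 0] true) (.nil))))) (.node (.node (.node (.node (.leaf [0, 0, 0, 3, 4, 3, 3, 0, 2, 2, 2, 0, 4] true) (.leaf [0, 2, 7, 5, 8, 5, 5, 0, 3, 9, 9, 0, 7, 0, 6, 3] true)) (.node (.leaf [9, 6, 1, 6, 4, 6, 5, 1, 8, 4, 2, 1, 2, 0, 4, 6, 5, 5, 2] true) (.nil))) (.node (.node (.leaf [0, 0, 0, 5, 5, 2, 1, 3, 5, 1, 3, 4, 0, 4] true) (.nil)) (.node (.leaf [9, 5, 7, 7, 5, 6, 1, 5, 8, 1, 3, 4, 0, 6, 0, 0, 7, 7, 2, 7] true) (.nil))))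 (.node (.node (.node (.leaf [0, 0, 2, 0, 3, 1, 3, 0, 0, 3, 1, 2, 2, 2] true) (.nil)) (.node (.leaf [9, 5, 0, 7, 3, 4, 3, 3, 8, 1, 3, 7, 7, 1, 6, 6, 4, 6, 0] true) (.nil))) (.node (.node (.leaf [9, 1, 2, 2, 6, 4, 6, 8, 7, 3, 6, 1, 3, 7, 5, 1, 1, 6] true) (.nil)) (.node (.leaf [9, 5, 0, 4, 3, 5, 6, 6, 8, 5, 3, 4, 6, 1, 7, 0, 7, 2, 7, 7, 1] true) (.nil)))))) (.node (.node (.node (.node (.node (.leaf [0, 0, 2, 0, 0, 2, 0, 0, 2, 0, 0, 2] true) (.leaf [9, 1, 4, 7, 2, 4, 7, 7, 8, 5, 6, 3, 1, 2, 0, 6, 6, 3, 3] true)) (.node (.leaf [9, 6, 2, 0, 2, 7, 1, 1, 8, 5, 2, 6, 5, 1, 4, 3, 3, 3, 6] true) (.nil))) (.node (.node (.leaf [0, 2, 4, 1, 4, 2, 4, 2, 1, 2, 0, 5, 3, 5] true) (.nil)) (.node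 (.leaf [9, 7, 3, 1, 6, 4, 3, 4, 8, 3, 5, 0, 4, 7, 1, 6, 6, 5] true) (.nil)))) (.node (.node (.node (.leaf [0, 3, 5, 1, 4, 2, 5, 1, 5, 1, 3, 3, 5, 3] true) (.nil)) (.node (.leaf [9, 6, 0, 5, 5, 3, 7, 2, 8, 0, 2, 5, 0, 0, 6, 6, 0, 5] true) (.nil))) (.node (.node (.leaf [9, 4, 1, 3, 4, 6, 2, 8, 4, 6, 6, 2, 5, 7, 2, 4, 3, 6] true) (.nil)) (.node (.leaf [9, 2, 0, 0, 6, 6, 3, 6, 8, 5, 5, 0, 0, 3, 6, 5, 2, 5, 6, 6] true) (.nil))))) (.node (.node (.node (.node (.leaf [0, 2, 1, 7, 4, 1, 5, 7, 5, 1, 4, 6, 4] true) (.nil)) (.node (.leaf [9, 6, 6, 3, 5, 5, 0, 2, 8, 2, 1, 1, 1, 7, 7, 3, 1, 5, 7, 5] true) (.nil))) (.node (.node (.leaf [0, 4, 4, 0, 5, 5, 5, 0, 4, 4, 0, 5, 5, 5] true) (.nil))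 (.node (.leaf [9, 3, 6, 4, 0, 4, 6, 5, 8, 1, 3, 4, 2, 4, 7, 7, 5, 1, 7, 3] true) (.nil)))) (.node (.node (.node (.leaf [0, 0, 0, 3, 3, 1, 1, 2, 2, 2, 1, 1, 1, 3] true) (.nil)) (.node (.leaf [9, 4, 6, 3, 6, 6, 5, 3, 8, 5, 2, 2, 1, 2, 6, 5, 5, 1, 6] true) (.nil))) (.node (.node (.leaf [9, 0, 5, 1, 5, 6, 3, 0, 8, 7, 5, 5, 1, 3, 0, 3, 5, 2, 5] true) (.nil)) (.node (.leaf [9, 6, 5, 2, 7, 0, 3, 7, 8, 2, 0, 7, 0, 3, 1, 3, 3, 6, 6, 2] true) (.nil))))))) (.node (.node (.node (.node (.node (.node (.leaf [2, 4, 2, 4, 2, 5, 5, 5, 5] true) (.leaf [9, 1, 2, 5, 0, 3, 5, 7, 8, 2, 4, 1, 2, 4, 3, 4, 0, 3, 3, 6] true)) (.node (.leaf [9, 5, 2, 5, 7, 1, 7, 0, 8, 4, 7, 0, 5, 2, 7, 7, 4, 6, 2] true)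 (.nil))) (.node (.node (.leaf [0, 0, 2, 0, 5, 3, 7, 7, 0, 2, 4, 6, 5, 2] true) (.nil)) (.node (.leaf [9, 6, 5, 1, 6, 2, 2, 4, 8, 3, 0, 5, 1, 6, 3, 5, 5, 3, 4, 1] true) (.nil)))) (.node (.node (.node (.leaf [0, 2, 1, 3, 0, 3, 0, 5, 3, 5, 3, 5, 0, 3] true) (.nil)) (.node (.leaf [9, 6, 4, 7, 3, 3, 6, 2, 8, 1, 3, 3, 3, 6, 0, 0, 3, 4, 0] true) (.nil))) (.node (.node (.leaf [9, 4, 6, 2, 0, 4, 1, 8, 0, 5, 5, 0, 5, 7, 4, 4, 2, 5, 1] true) (.nil)) (.node (.leaf [9, 1, 4, 2, 6, 5, 2, 6, 8, 4, 7, 2, 1, 4, 7, 1, 5] true) (.nil))))) (.node (.node (.node (.node (.leaf [0, 0, 3, 3, 3, 0, 3, 1, 2, 0, 3, 0, 3] true) (.leaf [7, 6] true)) (.node (.leaf [9, 4, 1, 2, 5, 3, 7, 1, 8, 7, 0, 5, 0, 4, 0,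 7, 0, 3, 6, 1] true) (.nil))) (.node (.node (.leaf [0, 2, 0, 5, 5, 1, 2, 1, 5, 2, 4, 0, 2, 5] true) (.nil)) (.node (.leaf [9, 1, 6, 0, 6, 0, 3, 5, 8, 2, 7, 2, 1, 7, 4, 3, 7, 2, 4, 0] true) (.nil)))) (.node (.node (.node (.leaf [0, 3, 3, 4, 1, 4, 6, 0, 6, 3, 7, 1, 7, 5] true) (.nil)) (.node (.leaf [9, 0, 3, 3, 6, 6, 4, 3, 8, 4, 0, 2, 7, 7, 1, 3, 4, 3, 1, 3] true) (.nil))) (.node (.node (.leaf [9, 2, 2, 0, 4, 7, 0, 0, 8, 7, 1, 1, 6, 5, 1, 3, 3, 6] true) (.nil)) (.node (.leaf [9, 3, 3, 3, 1, 3, 1, 7, 8, 3, 5, 0, 2, 1, 5, 1, 1, 2, 6] true) (.nil)))))) (.node (.node (.node (.node (.node (.leaf [0, 4, 2, 2, 5, 3, 0, 4, 2, 2, 5, 3] true) (.leaf [6, 9, 6, 9] true)) (.node (.leaf [9, 3,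 6, 5, 0, 0, 4, 1, 8, 6, 1, 6, 2, 4, 1, 5, 6, 1, 2, 2] true) (.nil))) (.node (.node (.leaf [0, 0, 3, 4, 1, 5, 5, 5, 3, 3, 3, 0, 0, 5] true) (.nil)) (.node (.leaf [9, 0, 4, 6, 2, 0, 7, 4, 8, 7, 5, 2, 1, 6, 0, 0, 7, 3, 7, 5] true) (.nil)))) (.node (.node (.node (.leaf [0, 0, 0, 3, 0, 2, 2, 5, 3, 4, 3, 3, 3, 4] true) (.nil)) (.node (.leaf [9, 5, 0, 7, 0, 2, 1, 3, 8, 5, 1, 6, 0, 3, 4, 2, 5, 1, 2, 1] true) (.nil))) (.node (.node (.leaf [9, 6, 4, 7, 0, 0, 5, 8, 1, 5, 5, 6, 5, 3, 1, 3, 7, 4] true) (.nil)) (.node (.leaf [9, 6, 4, 7, 0, 6, 5, 6, 8, 7, 3, 0, 0, 6, 4, 3, 7, 5, 2, 4] true) (.nil))))) (.node (.node (.node (.node (.leaf [0, 4, 0, 4, 1, 3, 0, 5, 0, 4, 4, 4, 3] true) (.nil)) (.node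 (.leaf [9, 1, 4, 7, 1, 5, 2, 2, 8, 0, 3, 4, 7, 2, 7, 4, 4, 2, 6] true) (.nil))) (.node (.node (.leaf [0, 0, 5, 2, 5, 5, 2, 4, 1, 3, 3, 4, 1, 2] true) (.nil)) (.node (.leaf [9, 6, 6, 6, 4, 2, 7, 5, 8, 4, 2, 7, 1, 6, 6, 1] true) (.nil)))) (.node (.node (.node (.leaf [2, 2, 4, 2, 4, 2, 2, 5, 2, 5, 2, 5, 2, 5] true) (.nil)) (.node (.leaf [9, 3, 6, 1, 6, 4, 7, 3, 8, 4, 2, 5, 0, 6, 2, 2, 0, 2, 4, 7] true) (.nil))) (.node (.node (.leaf [9, 6, 1, 1, 4, 2, 5, 0, 8, 7, 5, 0, 5, 0, 0, 2, 4, 0, 5] true) (.nil)) (.node (.leaf [9, 1, 1, 2, 4, 0, 4, 7, 8, 5, 3, 3, 1, 4, 1, 5, 1, 6] true) (.nil)))))))) (.node (.node (.node (.node (.node (.node (.node (.leaf [4, 4, 4, 4, 4] true) (.leaf [9, 1,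 6, 0, 7, 7, 4, 7, 8, 0, 3, 3, 0, 0, 6, 5, 1, 1] true)) (.node (.leaf [9, 0, 0, 2, 6, 3, 6, 0, 8, 1, 6, 6, 2, 5, 1, 2, 7, 0, 4, 3] true) (.nil))) (.node (.node (.leaf [0, 2, 2, 5, 6, 6, 2, 7, 7, 3, 3, 5, 7, 2] true) (.nil)) (.node (.leaf [9, 7, 7, 3, 4, 0, 2, 4, 8, 7, 5, 3, 1, 5, 2, 6, 6, 6] true) (.nil)))) (.node (.node (.node (.leaf [0, 4, 7, 3, 5, 0, 7, 0, 4, 7, 3, 5, 0, 7] true) (.nil)) (.node (.leaf [9, 1, 4, 3, 6, 5, 5, 2, 8, 5, 0, 3, 6, 0, 6, 4, 3, 5, 3] true) (.nil))) (.node (.node (.leaf [9, 0, 6, 3, 0, 0, 0, 8, 5, 0, 7, 0, 7, 4, 1, 6, 5, 7, 7] true) (.nil)) (.node (.leaf [9, 7, 4, 4, 2, 6, 1, 6, 8, 1, 6, 0, 5, 0, 2, 4, 3, 3, 6, 1, 3] true) (.nil))))) (.node (.node (.node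 (.node (.leaf [0, 4, 7, 2, 4, 0, 5, 7, 1, 6, 1, 6, 4] true) (.leaf [3, 2] true)) (.node (.leaf [9, 0, 5, 2, 7, 1, 6, 1, 8, 2, 0, 7, 4, 6, 6, 4, 0, 2, 7] true) (.nil))) (.node (.node (.leaf [0, 3, 4, 3, 7, 3, 0, 5, 3, 6, 6, 3, 5, 3] true) (.nil)) (.node (.leaf [9, 6, 6, 0, 0, 5, 2, 5, 8, 5, 6, 1, 3, 4, 1, 4, 4, 6, 4] true) (.nil)))) (.node (.node (.node (.leaf [0, 0, 2, 5, 0, 3, 1, 3, 0, 2, 4, 2, 5, 3] true) (.nil)) (.node (.leaf [9, 7, 1, 2, 7, 2, 4, 3, 8, 1, 4, 7, 0, 4, 1, 6, 1, 4] true) (.nil))) (.node (.node (.leaf [9, 4, 1, 1, 6, 5, 7, 8, 5, 6, 2, 0, 2, 4, 7, 4, 4, 0] true) (.nil)) (.node (.leaf [9, 2, 7, 3, 1, 6, 0, 7, 8, 2, 0, 5, 3, 4, 6, 3, 1, 5, 7, 1] true) (.nil))))))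 (.node (.node (.node (.node (.node (.leaf [0, 2, 4, 1, 3, 5, 1, 2, 0, 2, 4, 2] true) (.leaf [9, 2, 7, 7, 3, 7, 7, 7, 8, 4, 0, 5, 7, 4, 3, 5, 2, 7, 7] true)) (.node (.leaf [9, 2, 5, 7, 7, 2, 2, 1, 8, 2, 0, 2, 5, 2, 0, 6, 6, 3, 1, 5] true) (.nil))) (.node (.node (.leaf [0, 3, 4, 3, 4, 2, 5, 5, 1, 3, 4, 1, 5, 5] true) (.nil)) (.node (.leaf [9, 5, 3, 1, 7, 1, 4, 4, 8, 6, 5, 3, 3, 7, 0, 4, 7, 4, 2, 0] true) (.nil)))) (.node (.node (.node (.leaf [0, 0, 2, 1, 3, 0, 3, 0, 0, 3, 0, 2, 0, 3] true) (.nil)) (.node (.leaf [9, 1, 3, 6, 5, 5, 7, 2, 8, 7, 3, 3, 1, 4, 4, 7, 1, 1, 7, 1] true) (.nil))) (.node (.node (.leaf [9, 6, 2, 0, 3, 0, 4, 8, 7, 0, 0, 5, 2, 5, 0, 4, 0, 0] true) (.nil)) (.node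 (.leaf [9, 4, 2, 2, 5, 6, 4, 6, 8, 0, 6, 3, 3, 5, 6, 5, 1, 3, 5, 1] true) (.nil))))) (.node (.node (.node (.node (.leaf [0, 0, 0, 2, 4, 2, 5, 0, 0, 3, 1, 3, 5] true) (.nil)) (.node (.leaf [9, 5, 2, 7, 1, 5, 1, 2, 8, 1, 5, 5, 0, 4, 1, 1, 3, 6, 2, 1] true) (.nil))) (.node (.node (.leaf [0, 0, 5, 2, 4, 3, 3, 0, 0, 5, 3, 5, 5, 2] true) (.nil)) (.node (.leaf [9, 3, 0, 0, 2, 6, 6, 5, 8, 1, 3, 3, 4, 3, 0, 7, 7, 0, 0] true) (.nil)))) (.node (.node (.node (.leaf [0, 0, 4, 4, 0, 2, 5, 0, 4, 3, 4, 0, 5, 3] true) (.nil)) (.node (.leaf [9, 6, 6, 6, 2, 6, 6, 3, 8, 6, 6, 3, 4, 2, 5, 6, 4, 1, 5] true) (.nil))) (.node (.node (.leaf [9, 7, 3, 5, 0, 7, 4, 0, 8, 1, 7, 0, 0, 7, 1, 3, 0, 5, 2, 7] true)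 (.nil)) (.node (.leaf [9, 0, 2, 4, 6, 4, 3, 7, 8, 5, 5, 1, 1, 4, 2, 0, 3, 4, 7] true) (.nil))))))) (.node (.node (.node (.node (.node (.node (.leaf [0, 4, 0, 4, 0, 4, 0, 4, 0, 4] true) (.leaf [9, 6, 1, 4, 3, 0, 7, 7, 8, 6, 4, 3, 0, 5, 1, 1, 2, 4, 1, 2] true)) (.node (.leaf [9, 5, 1, 6, 2, 4, 1, 1, 8, 2, 1, 4, 0, 5, 5, 1, 7, 2, 2, 5] true) (.nil))) (.node (.node (.leaf [0, 2, 4, 2, 0, 5, 3, 5, 3, 1, 3, 5, 1, 2] true) (.nil)) (.node (.leaf [9, 6, 2, 6, 5, 1, 3, 4, 8, 2, 1, 2, 2, 6, 2, 1, 2, 6, 1, 3] true) (.nil)))) (.node (.node (.node (.leaf [0, 0, 0, 3, 3, 3, 1, 2, 0, 2, 2, 0, 3, 3] true) (.nil)) (.node (.leaf [9, 2, 6, 5, 7, 0, 7, 2, 8, 6, 5, 3, 1, 3, 3, 7, 1, 4, 3, 5] true) (.nil)))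 (.node (.node (.leaf [9, 5, 0, 7, 3, 7, 1, 8, 0, 0, 2, 1, 4, 3, 0, 6, 5, 0] true) (.nil)) (.node (.leaf [9, 7, 5, 7, 0, 6, 3, 6, 8, 4, 2, 6, 2, 0, 4, 1, 6, 2, 6, 1] true) (.nil))))) (.node (.node (.node (.node (.leaf [0, 4, 0, 4, 0, 4, 0, 4, 0, 5, 5, 5, 5] true) (.nil)) (.node (.leaf [9, 0, 7, 0, 6, 4, 7, 1, 8, 5, 3, 0, 0, 4, 0, 6, 5, 2, 0] true) (.nil))) (.node (.node (.leaf [0, 0, 3, 5, 2, 2, 4, 1, 2, 0, 5, 3, 4, 2] true) (.nil)) (.node (.leaf [9, 6, 4, 1, 5, 3, 3, 5, 8, 0, 0, 2, 6, 4, 3, 0, 5, 5] true) (.nil)))) (.node (.node (.node (.leaf [0, 0, 0, 5, 1, 7, 4, 2, 6, 0, 7, 5, 6, 5] true) (.nil)) (.node (.leaf [9, 5, 0, 4, 6, 2, 5, 3, 8, 5, 2, 1, 3, 4, 2, 6, 4, 7, 0, 0] true)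 (.nil))) (.node (.node (.leaf [9, 3, 6, 4, 4, 7, 2, 0, 8, 0, 6, 0, 0, 6, 5, 5, 0, 2, 2, 6] true) (.nil)) (.node (.leaf [9, 0, 4, 1, 4, 1, 2, 7, 8, 0, 7, 3, 0, 0, 6, 1, 4, 4, 6, 0] true) (.nil)))))) (.node (.node (.node (.node (.node (.leaf [2, 2, 7, 2, 2, 7, 2, 2, 7, 2, 2, 7] true) (.leaf [6, 6, 6, 6, 9, 7, 7, 7, 8, 6, 6, 8, 7, 7, 7, 9] true)) (.node (.leaf [9, 2, 2, 7, 4, 6, 4, 1, 8, 2, 1, 1, 2, 1, 6, 2, 0, 6, 1, 5] true) (.nil))) (.node (.node (.leaf [0, 0, 0, 2, 5, 0, 0, 4, 0, 4, 1, 5, 1, 2] true) (.nil)) (.node (.leaf [9, 0, 6, 2, 4, 3, 0, 5, 8, 0, 7, 2, 1, 6, 1, 5, 1, 4, 1, 6] true) (.nil)))) (.node (.node (.node (.leaf [0, 0, 0, 2, 1, 1, 2, 2, 2, 1, 2, 2, 1, 3] true) (.nil))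 (.node (.leaf [9, 7, 2, 7, 4, 4, 1, 3, 8, 3, 6, 0, 6, 6, 5, 1, 1, 5, 6] true) (.nil))) (.node (.node (.leaf [9, 3, 5, 6, 6, 5, 5, 8, 3, 4, 3, 6, 0, 5, 6, 0, 7, 0, 4, 4] true) (.nil)) (.node (.leaf [9, 0, 0, 3, 0, 0, 6, 6, 8, 1, 2, 6, 6, 6, 1, 5, 3, 1] true) (.nil))))) (.node (.node (.node (.node (.leaf [0, 2, 2, 0, 2, 4, 1, 2, 4, 0, 2, 4, 4, 4] true) (.nil)) (.node (.leaf [9, 0, 6, 5, 0, 0, 4, 2, 8, 1, 7, 7, 1, 1, 5, 7, 3, 3, 4, 6] true) (.nil))) (.node (.node (.leaf [0, 0, 0, 3, 3, 3, 1, 3, 1, 1, 2, 2, 1, 2] true) (.nil)) (.node (.leaf [9, 1, 2, 7, 4, 3, 7, 5, 8, 3, 5, 0, 5, 1, 4, 4, 1, 7, 5] true) (.nil)))) (.node (.node (.node (.leaf [0, 0, 4, 2, 2, 4, 3, 4, 1, 2, 4, 0, 4, 4]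 true) (.nil)) (.node (.leaf [9, 7, 1, 6, 4, 2, 1, 4, 8, 7, 7, 3, 1, 1, 7, 0, 7, 7, 4, 4] true) (.nil))) (.node (.node (.leaf [9, 2, 4, 4, 7, 5, 5, 0, 8, 4, 6, 2, 4, 1, 7, 0, 6, 5, 7] true) (.nil)) (.node (.leaf [9, 4, 2, 0, 5, 1, 4, 7, 8, 4, 7, 4, 0, 0, 2, 4, 4, 1, 3, 4] true) (.nil))))))))) (.node (.node (.node (.node (.node (.node (.node (.node (.leaf [4] false) (.leaf [9, 2, 4, 3, 7, 3, 4, 7, 8, 0, 6, 5, 2, 7, 2, 0, 7, 5, 6] true)) (.node (.leaf [9, 1, 2, 2, 5, 7, 5, 0, 8, 3, 5, 1, 3, 6, 0, 3, 0, 0, 0] true) (.nil))) (.node (.node (.leaf [0, 0, 2, 0, 3, 0, 2, 2, 1, 2, 0, 2, 1, 2] true) (.nil)) (.node (.leaf [9, 3, 1, 1, 2, 6, 1, 4, 8, 2, 6, 4, 0, 2, 0, 0, 3, 1, 5, 5] true) (.nil))))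 (.node (.node (.node (.leaf [0, 4, 3, 3, 5, 6, 5, 5, 1, 5, 2, 6, 1, 5] true) (.nil)) (.node (.leaf [9, 3, 6, 1, 2, 2, 5, 2, 8, 2, 2, 0, 6, 0, 4, 2, 5, 0] true) (.nil))) (.node (.node (.leaf [9, 0, 2, 1, 2, 7, 8, 2, 5, 5, 0, 4, 1, 2, 1, 3, 6] true) (.nil)) (.node (.leaf [9, 5, 3, 6, 4, 2, 1, 6, 8, 3, 5, 1, 3, 5, 5, 0, 2, 5, 7] true) (.nil))))) (.node (.node (.node (.node (.leaf [0, 0, 4, 3, 4, 6, 6, 6, 2, 7, 7, 2, 5] true) (.leaf [1, 0] true)) (.node (.leaf [9, 0, 7, 4, 3, 7, 5, 1, 8, 3, 0, 7, 1, 1, 2, 2, 4, 7, 5, 0] true) (.nil))) (.node (.node (.leaf [0, 0, 5, 3, 3, 5, 2, 2, 4, 3, 4, 0, 4, 2] true) (.nil)) (.node (.leaf [9, 4, 6, 3, 1, 1, 2, 5, 8, 5, 1, 1, 5, 5, 6, 0, 3, 4, 4,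 2] true) (.nil)))) (.node (.node (.node (.leaf [2, 2, 2, 2, 2, 2, 5, 3, 4, 4, 4, 4, 3, 5] true) (.nil)) (.node (.leaf [9, 3, 6, 0, 4, 7, 3, 3, 8, 6, 4, 7, 7, 5, 6, 2, 4, 4, 3, 3] true) (.nil))) (.node (.node (.leaf [9, 3, 6, 5, 2, 4, 7, 8, 5, 1, 3, 5, 5, 6, 6, 1, 4, 3, 0] true) (.nil)) (.node (.leaf [9, 0, 0, 6, 5, 2, 0, 7, 8, 0, 4, 2, 2, 2, 5, 3, 6, 4, 1] true) (.nil)))))) (.node (.node (.node (.node (.node (.leaf [0, 4, 4, 0, 4, 4, 0, 4, 4, 0, 4, 4] true) (.leaf [9, 6, 5, 0, 2, 5, 7, 7, 8, 6, 3, 1, 5, 1, 5, 5, 0, 5, 2] true)) (.node (.leaf [9, 2, 5, 2, 5, 7, 1, 1, 8, 0, 6, 6, 0, 3, 6, 1, 6, 1, 4, 7] true) (.nil))) (.node (.node (.leaf [0, 0, 0, 4, 4, 4, 0, 4, 0, 5, 1, 4, 1, 3]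 true) (.nil)) (.node (.leaf [9, 6, 0, 2, 4, 6, 3, 4, 8, 4, 6, 5, 3, 7, 2, 1, 2, 1, 5, 7] true) (.nil)))) (.node (.node (.node (.leaf [0, 0, 4, 4, 3, 0, 3, 5, 2, 0, 4, 1, 3, 3] true) (.nil)) (.node (.leaf [9, 4, 1, 2, 1, 5, 7, 2, 8, 7, 5, 5, 1, 5, 3, 4, 6, 3, 0, 7] true) (.nil))) (.node (.node (.leaf [9, 2, 2, 0, 7, 0, 3, 8, 2, 6, 4, 2, 0, 0, 0, 6, 3, 3, 6] true) (.nil)) (.node (.leaf [9, 7, 3, 6, 0, 6, 4, 6, 8, 2, 4, 0, 0, 6, 6, 1, 1, 2, 7, 7] true) (.nil))))) (.node (.node (.node (.node (.leaf [0, 0, 3, 0, 3, 4, 0, 2, 2, 1, 4, 2, 4] true) (.nil)) (.node (.leaf [9, 4, 7, 7, 3, 1, 1, 2, 8, 1, 1, 6, 6, 1, 2, 5, 2, 2, 0] true) (.nil))) (.node (.node (.leaf [0, 2, 4, 2, 1, 2, 5, 2,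 0, 5, 2, 5, 5, 2] true) (.nil)) (.node (.leaf [9, 0, 6, 2, 4, 4, 6, 5, 8, 7, 3, 7, 1, 1, 6, 6, 3, 6, 1, 3] true) (.nil)))) (.node (.node (.node (.leaf [0, 0, 0, 0, 2, 0, 5, 0, 4, 1, 5, 1, 4, 4] true) (.nil)) (.node (.leaf [9, 5, 5, 7, 4, 7, 5, 3, 8, 5, 6, 4, 1, 6, 0, 3, 6, 2, 0] true) (.nil))) (.node (.node (.leaf [9, 6, 6, 6, 6, 6, 3, 0, 8, 2, 4, 4, 2, 7, 3, 6, 1, 1, 2, 0] true) (.nil)) (.node (.leaf [9, 5, 2, 2, 1, 1, 3, 7, 8, 5, 5, 3, 4, 3, 4, 4, 3, 4, 6] true) (.nil))))))) (.node (.node (.node (.node (.node (.node (.leaf [0, 2, 0, 3, 0, 2, 1, 3, 0, 3] true) (.leaf [9, 3, 7, 2, 2, 6, 5, 7, 8, 1, 5, 2, 1, 1, 7, 2, 2, 2, 0] true)) (.node (.leaf [9, 6, 5, 2, 6, 3, 1, 1, 8, 5, 3,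 6, 6, 4, 3, 7, 2, 5, 5, 7] true) (.nil))) (.node (.node (.leaf [0, 3, 5, 1, 4, 2, 5, 1, 5, 1, 3, 4, 2, 4] true) (.nil)) (.node (.leaf [9, 1, 2, 6, 4, 6, 2, 4, 8, 3, 6, 6, 0, 2, 6, 2, 0, 7, 0] true) (.nil)))) (.node (.node (.node (.leaf [0, 4, 2, 2, 2, 4, 2, 4, 0, 4, 2, 2, 5, 3] true) (.nil)) (.node (.leaf [9, 7, 2, 2, 5, 6, 6, 2, 8, 6, 6, 6, 5, 3, 3, 1, 6, 5, 6] true) (.nil))) (.node (.node (.leaf [9, 4, 6, 4, 0, 5, 1, 8, 3, 3, 7, 0, 3, 0, 2, 0, 4, 3, 3] true) (.nil)) (.node (.leaf [9, 3, 7, 7, 4, 3, 3, 6, 8, 7, 4, 7, 0, 2, 2, 4, 7, 7, 7] true) (.nil))))) (.node (.node (.node (.node (.leaf [0, 0, 0, 5, 3, 5, 5, 0, 0, 3, 1, 3, 5] true) (.leaf [9, 8] true)) (.node (.leaf [9, 3, 5,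 1, 1, 4, 7, 1, 8, 2, 0, 3, 1, 7, 3, 1, 6, 5, 0, 4] true) (.nil))) (.node (.node (.leaf [0, 0, 5, 7, 1, 1, 5, 7, 7, 5, 1, 7, 5, 2] true) (.nil)) (.node (.leaf [9, 6, 5, 0, 4, 1, 3, 5, 8, 0, 2, 5, 1, 7, 2, 0, 5, 3, 3, 1] true) (.nil)))) (.node (.node (.node (.leaf [0, 0, 0, 2, 1, 2, 2, 0, 0, 0, 2, 1, 2, 2] true) (.nil)) (.node (.leaf [9, 5, 2, 2, 7, 7, 4, 3, 8, 7, 1, 5, 1, 7, 1, 1, 5, 1, 4, 6] true) (.nil))) (.node (.node (.leaf [9, 2, 0, 7, 5, 0, 2, 0, 8, 0, 5, 2, 2, 7, 2, 0, 5, 1] true) (.nil)) (.node (.leaf [9, 3, 6, 2, 4, 4, 1, 7, 8, 4, 1, 7, 7, 1, 1, 4, 3, 1] true) (.nil)))))) (.node (.node (.node (.node (.node (.leaf [0, 0, 4, 0, 0, 4, 0, 0, 4, 0, 0, 4] true) (.leaf [6, 6,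 6, 9, 9, 7, 8, 6, 8, 7, 9, 9] true)) (.node (.leaf [9, 7, 2, 7, 3, 3, 4, 1, 8, 2, 0, 5, 0, 3, 1, 5, 7, 7, 5, 3] true) (.nil))) (.node (.node (.leaf [0, 2, 2, 1, 5, 2, 5, 0, 3, 3, 4, 3, 0, 4] true) (.nil)) (.node (.leaf [9, 7, 4, 4, 0, 4, 7, 4, 8, 7, 1, 5, 3, 4, 3, 0, 4, 6, 2, 1] true) (.nil)))) (.node (.node (.node (.leaf [0, 3, 6, 5, 6, 2, 2, 0, 3, 6, 5, 6, 2, 2] true) (.nil)) (.node (.leaf [9, 6, 0, 0, 5, 2, 1, 3, 8, 7, 3, 0, 4, 1, 4, 3, 4, 3] true) (.nil))) (.node (.node (.leaf [9, 4, 7, 5, 3, 0, 5, 8, 2, 2, 1, 2, 2, 7, 2, 6, 0, 0, 6] true) (.nil)) (.node (.leaf [9, 3, 7, 5, 2, 6, 5, 6, 8, 3, 4, 3, 1, 5, 7, 2, 4, 6, 1, 6] true) (.nil))))) (.node (.node (.node (.node (.leaf [0,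 4, 4, 0, 4, 4, 0, 4, 4, 0, 5, 5, 5] true) (.nil)) (.node (.leaf [9, 0, 0, 4, 0, 7, 2, 2, 8, 5, 7, 0, 2, 6, 6, 3, 4, 4, 0] true) (.nil))) (.node (.node (.leaf [0, 2, 1, 2, 2, 0, 2, 2, 2, 0, 3, 3, 1, 2] true) (.nil)) (.node (.leaf [9, 2, 4, 7, 7, 2, 7, 5, 8, 7, 0, 4, 4, 7, 3, 0, 3, 3, 4] true) (.nil)))) (.node (.node (.node (.leaf [0, 0, 4, 3, 7, 0, 2, 7, 3, 0, 3, 3, 5, 3] true) (.nil)) (.node (.leaf [9, 4, 3, 0, 6, 0, 0, 4, 8, 4, 7, 0, 2, 0, 0, 7, 1, 4, 3, 5] true) (.nil))) (.node (.node (.leaf [9, 3, 4, 4, 7, 2, 5, 0, 8, 2, 4, 2, 5, 7, 1, 7, 2, 1, 4] true) (.nil)) (.node (.leaf [9, 6, 6, 4, 3, 1, 4, 7, 8, 3, 4, 1, 4, 4, 0, 4, 0, 2, 7] true) (.nil)))))))) (.node (.node (.node (.node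 (.node (.node (.node (.leaf [0, 0, 0, 0, 0, 0, 0] true) (.leaf [9, 6, 6, 6, 3, 1, 5, 7, 8, 0, 5, 7, 1, 5, 1, 4, 3, 7, 2, 7] true)) (.node (.leaf [9, 6, 5, 6, 6, 1, 7, 0, 8, 0, 0, 4, 7, 1, 1, 2, 2, 1] true) (.nil))) (.node (.node (.leaf [0, 2, 4, 2, 4, 2, 0, 5, 0, 5, 0, 5, 0, 5] true) (.nil)) (.node (.leaf [9, 4, 7, 0, 2, 2, 2, 4, 8, 2, 2, 2, 7, 4, 6, 2, 5, 6, 2] true) (.nil)))) (.node (.node (.node (.leaf [0, 0, 3, 3, 0, 2, 2, 2, 1, 2, 2, 2, 0, 3] true) (.nil)) (.node (.leaf [9, 6, 5, 3, 1, 2, 6, 2, 8, 0, 7, 4, 6, 3, 7, 7, 5, 5, 6, 4] true) (.nil))) (.node (.node (.leaf [9, 5, 3, 4, 6, 3, 0, 8, 3, 4, 1, 1, 6, 3, 0, 6, 3, 1, 5] true) (.nil)) (.node (.leaf [9, 5, 2, 5, 7, 0, 2, 6,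 8, 4, 7, 7, 0, 6, 5, 1, 4, 2] true) (.nil))))) (.node (.node (.node (.node (.leaf [0, 2, 2, 1, 4, 1, 6, 3, 1, 6, 5, 3, 3] true) (.leaf [5, 4] true)) (.node (.leaf [9, 0, 4, 6, 2, 5, 6, 1, 8, 2, 5, 1, 1, 3, 4, 7, 2, 7, 1, 2] true) (.nil))) (.node (.node (.leaf [0, 0, 2, 2, 2, 2, 5, 5, 2, 2, 4, 0, 5, 3] true) (.nil)) (.node (.leaf [9, 1, 4, 7, 3, 7, 2, 5, 8, 7, 7, 5, 3, 4, 7, 0, 7, 1, 6] true) (.nil)))) (.node (.node (.node (.leaf [0, 0, 0, 4, 4, 1, 4, 3, 0, 4, 3, 5, 2, 4] true) (.nil)) (.node (.leaf [9, 0, 0, 6, 4, 3, 4, 3, 8, 0, 5, 6, 3, 5, 2, 0, 2, 4, 1, 2] true) (.nil))) (.node (.node (.leaf [9, 6, 5, 1, 5, 3, 0, 0, 8, 7, 0, 4, 0, 5, 0, 2, 2, 4] true) (.nil)) (.node (.leaf [9,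 2, 0, 3, 4, 1, 1, 7, 8, 2, 5, 2, 5, 0, 5, 1, 2, 6] true) (.nil)))))) (.node (.node (.node (.node (.node (.leaf [4, 7, 4, 7, 4, 7, 4, 7, 4, 7, 4, 7] true) (.leaf [9, 5, 3, 4, 7, 7, 7, 7, 8, 6, 2, 4, 4, 0, 2, 7, 1, 7, 7, 4] true)) (.node (.leaf [9, 4, 7, 7, 2, 0, 3, 1, 8, 2, 6, 4, 1, 2, 4, 6, 3, 1] true) (.nil))) (.node (.node (.leaf [0, 2, 2, 0, 2, 4, 0, 2, 2, 1, 3, 5, 1, 3] true) (.nil)) (.node (.leaf [9, 2, 4, 6, 5, 6, 4, 4, 8, 1, 3, 7, 2, 1, 7, 0, 5, 7, 4] true) (.nil)))) (.node (.node (.node (.leaf [0, 0, 2, 5, 0, 3, 1, 3, 0, 5, 3, 5, 5, 3] true) (.nil)) (.node (.leaf [9, 6, 2, 6, 3, 7, 0, 3, 8, 1, 4, 7, 2, 0, 0, 0, 2, 1] true) (.nil))) (.node (.node (.leaf [9, 0, 6, 2, 6, 1,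 4, 8, 1, 4, 7, 1, 2, 5, 0, 3, 1, 1] true) (.nil)) (.node (.leaf [9, 7, 0, 7, 3, 5, 5, 6, 8, 0, 4, 6, 2, 0, 5, 6, 6, 0, 5, 5, 1] true) (.nil))))) (.node (.node (.node (.node (.leaf [0, 0, 2, 1, 3, 3, 0, 0, 3, 1, 3, 0, 2] true) (.nil)) (.node (.leaf [9, 6, 0, 2, 0, 2, 2, 2, 8, 7, 3, 0, 0, 4, 0, 3, 1, 4, 2] true) (.nil))) (.node (.node (.leaf [0, 3, 7, 0, 5, 7, 7, 3, 4, 2, 2, 6, 1, 3] true) (.nil)) (.node (.leaf [9, 3, 0, 0, 3, 1, 7, 5, 8, 1, 1, 7, 7, 0, 3, 7, 2, 6, 5, 6, 4] true) (.nil)))) (.node (.node (.node (.leaf [0, 0, 3, 1, 2, 4, 0, 5, 0, 0, 5, 1, 2, 5] true) (.nil)) (.node (.leaf [9, 5, 5, 3, 7, 1, 7, 3, 8, 7, 7, 3, 6, 5, 6, 2, 7, 5, 7, 4] true) (.nil))) (.node (.node (.leaf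 [9, 5, 6, 3, 6, 0, 5, 0, 8, 4, 4, 1, 1, 1, 2, 7, 4, 4, 6, 2] true) (.nil)) (.node (.leaf [9, 2, 1, 6, 2, 7, 3, 7, 8, 0, 3, 1, 1, 1, 3, 6, 5, 0] true) (.nil))))))) (.node (.node (.node (.node (.node (.node (.leaf [6, 6, 6, 6, 6, 6, 6, 6, 6, 6, 6] true) (.leaf [9, 3, 1, 4, 4, 2, 7, 7, 8, 4, 6, 4, 0, 2, 6, 6, 0, 0, 0, 3] true)) (.node (.leaf [9, 3, 3, 6, 1, 5, 1, 1, 8, 1, 5, 3, 6, 5, 1, 3, 5, 5, 1] true) (.nil))) (.node (.node (.leaf [0, 0, 2, 2, 0, 2, 2, 0, 3, 3, 3, 0, 3, 3] true) (.nil)) (.node (.leaf [9, 2, 5, 6, 6, 3, 3, 4, 8, 7, 5, 0, 4, 0, 0, 6, 0, 4, 0, 6] true) (.nil)))) (.node (.node (.node (.leaf [0, 2, 0, 3, 0, 2, 1, 4, 2, 4, 2, 4, 0, 3] true) (.nil)) (.node (.leaf [9,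 2, 2, 6, 5, 1, 7, 2, 8, 2, 2, 5, 5, 3, 7, 4, 6, 6, 5, 7] true) (.nil))) (.node (.node (.leaf [9, 0, 5, 2, 4, 7, 1, 8, 4, 4, 3, 0, 6, 0, 5, 1, 3, 0, 7] true) (.nil)) (.node (.leaf [9, 0, 3, 5, 3, 6, 3, 6, 8, 4, 7, 3, 5, 0, 3, 4, 2, 7, 5] true) (.nil))))) (.node (.node (.node (.node (.leaf [2, 4, 2, 4, 2, 5, 2, 4, 2, 4, 2, 5, 5] true) (.nil)) (.node (.leaf [9, 4, 7, 1, 1, 2, 0, 2, 8, 3, 4, 4, 0, 3, 4, 6, 4, 6, 6, 1] true) (.nil))) (.node (.node (.leaf [0, 0, 2, 5, 3, 1, 2, 0, 3, 5, 0, 4, 4, 2] true) (.nil)) (.node (.leaf [9, 3, 1, 3, 0, 0, 6, 5, 8, 0, 7, 7, 5, 7, 5, 2, 1, 5, 5, 2] true) (.nil)))) (.node (.node (.node (.leaf [2, 6, 2, 6, 2, 6, 2, 6, 2, 6, 2, 6, 2, 6] true) (.nil))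 (.node (.leaf [9, 1, 4, 4, 6, 5, 5, 3, 8, 6, 4, 7, 1, 6, 0, 5, 3, 7, 5] true) (.nil))) (.node (.node (.leaf [9, 1, 4, 6, 4, 3, 3, 0, 8, 7, 5, 0, 7, 2, 4, 3, 4, 0, 0] true) (.nil)) (.node (.leaf [9, 3, 4, 0, 0, 5, 2, 7, 8, 4, 4, 0, 3, 4, 0, 5, 2, 5, 6] true) (.nil)))))) (.node (.node (.node (.node (.node (.leaf [0, 0, 2, 2, 0, 0, 2, 2, 0, 0, 2, 2] true) (.leaf [0, 5, 5, 2, 5, 2, 4, 8, 1, 4, 9, 6, 5, 0, 9, 2] true)) (.node (.leaf [9, 2, 0, 7, 7, 2, 5, 1, 8, 3, 1, 6, 0, 5, 3, 0, 5, 1, 6, 5] true) (.nil))) (.node (.node (.leaf [0, 2, 4, 3, 1, 4, 1, 2, 7, 2, 1, 2, 7, 2] true) (.nil)) (.node (.leaf [9, 2, 6, 0, 6, 2, 1, 5, 8, 5, 2, 5, 0, 0, 4, 6, 4, 7, 2, 1] true) (.nil)))) (.node (.node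 (.node (.leaf [0, 3, 3, 0, 4, 1, 4, 3, 5, 1, 4, 4, 1, 5] true) (.nil)) (.node (.leaf [9, 0, 4, 3, 6, 6, 1, 3, 8, 6, 0, 2, 1, 1, 6, 6, 0, 2, 1, 6] true) (.nil))) (.node (.node (.leaf [9, 0, 5, 1, 3, 7, 5, 8, 4, 2, 6, 1, 7, 7, 0, 5, 3, 4, 1] true) (.nil)) (.node (.leaf [9, 5, 3, 1, 5, 2, 6, 6, 8, 7, 7, 7, 3, 4, 0, 2, 4, 6] true) (.nil))))) (.node (.node (.node (.node (.leaf [0, 3, 5, 3, 5, 3, 0, 4, 0, 4, 0, 4, 0, 4] true) (.nil)) (.node (.leaf [9, 1, 3, 4, 7, 1, 4, 2, 8, 3, 0, 0, 6, 2, 7, 7, 0, 2, 0, 4] true) (.nil))) (.node (.node (.leaf [8, 8, 8, 8, 8, 8, 8, 8, 8, 8, 8] true) (.nil)) (.node (.leaf [9, 2, 4, 7, 1, 7, 7, 5, 8, 6, 5, 1, 4, 1, 3, 1, 6, 6, 3] true) (.nil)))) (.node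 (.node (.node (.leaf [0, 0, 2, 4, 2, 5, 2, 0, 0, 5, 2, 4, 3, 3] true) (.nil)) (.node (.leaf [9, 7, 7, 4, 2, 5, 1, 4, 8, 1, 2, 0, 0, 0, 5, 5, 3, 6, 5, 0, 4] true) (.nil))) (.node (.node (.leaf [9, 4, 3, 6, 2, 6, 5, 0, 8, 2, 6, 0, 6, 6, 3, 1, 6, 3, 3] true) (.nil)) (.node (.leaf [9, 3, 7, 3, 0, 2, 4, 7, 8, 5, 7, 4, 4, 6, 6, 2, 7, 5, 6, 1] true) (.nil)))))))))) (.node (.node (.node (.node (.node (.node (.node (.node (.node (.leaf [2] false) (.leaf [9, 0, 0, 2, 7, 3, 4, 7, 8, 6, 4, 4, 3, 6, 2, 5, 7, 7, 2, 4] true)) (.node (.leaf [9, 0, 3, 1, 1, 7, 5, 0, 8, 7, 4, 7, 2, 0, 0, 3, 7, 5, 6, 0, 5] true) (.nil))) (.node (.node (.leaf [0, 2, 4, 3, 0, 5, 5, 0, 2, 4, 3, 0, 5, 5] true) (.nil))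 (.node (.leaf [9, 2, 0, 3, 1, 6, 1, 4, 8, 6, 5, 6, 1, 3, 1, 2, 2, 7, 0, 6] true) (.nil)))) (.node (.node (.node (.leaf [0, 2, 1, 6, 1, 6, 3, 6, 1, 6, 2, 2, 2, 4] true) (.nil)) (.node (.leaf [9, 6, 6, 4, 1, 2, 5, 2, 8, 3, 3, 4, 0, 6, 3, 1, 1, 3, 3] true) (.nil))) (.node (.node (.leaf [9, 6, 5, 5, 6, 6, 8, 6, 6, 2, 1, 1, 6, 3, 4, 0, 6] true) (.nil)) (.node (.leaf [9, 5, 0, 3, 5, 7, 0, 6, 8, 6, 6, 5, 0, 2, 2, 0, 5, 7, 0, 4] true) (.nil))))) (.node (.node (.node (.node (.leaf [0, 4, 3, 4, 2, 5, 1, 2, 2, 5, 3, 5, 5] true) (.leaf [0, 1] true)) (.node (.leaf [9, 5, 6, 1, 3, 7, 5, 1, 8, 4, 1, 5, 3, 6, 1, 1, 7, 3, 7, 2] true) (.nil))) (.node (.node (.leaf [0, 0, 5, 1, 4, 1, 4, 2, 1, 4,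 0, 5, 3, 3] true) (.nil)) (.node (.leaf [9, 6, 4, 6, 0, 0, 2, 5, 8, 3, 6, 3, 1, 5, 2, 2, 7, 2, 5, 7] true) (.nil)))) (.node (.node (.node (.leaf [0, 2, 4, 1, 7, 2, 0, 2, 5, 5, 7, 1, 3, 3] true) (.nil)) (.node (.leaf [9, 0, 5, 7, 5, 6, 3, 3, 8, 4, 0, 7, 1, 3, 7, 0, 3, 0, 0, 3] true) (.nil))) (.node (.node (.leaf [9, 5, 1, 2, 1, 3, 7, 8, 0, 7, 4, 0, 7, 1, 7, 3, 6, 2] true) (.nil)) (.node (.leaf [9, 1, 4, 3, 5, 0, 0, 7, 8, 4, 3, 0, 0, 3, 1, 2, 0, 3, 6] true) (.nil)))))) (.node (.node (.node (.node (.node (.leaf [0, 2, 4, 1, 3, 5, 1, 2, 0, 5, 3, 5] true) (.leaf [9, 3, 4, 3, 0, 5, 7, 7, 8, 2, 2, 0, 0, 2, 7, 1, 5, 2, 2] true)) (.node (.leaf [9, 6, 1, 3, 4, 7, 1, 1, 8, 0, 5, 7, 2, 4,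 3, 3, 3, 5, 1] true) (.nil))) (.node (.node (.leaf [0, 0, 4, 0, 5, 0, 5, 6, 3, 0, 3, 6, 0, 4] true) (.nil)) (.node (.leaf [9, 3, 0, 4, 0, 6, 3, 4, 8, 0, 3, 7, 2, 0, 0, 5, 1, 4, 4, 0] true) (.nil)))) (.node (.node (.node (.leaf [0, 2, 4, 0, 5, 2, 0, 3, 5, 0, 4, 1, 4, 4] true) (.nil)) (.node (.leaf [9, 0, 5, 1, 1, 4, 7, 2, 8, 7, 3, 7, 1, 5, 6, 5, 2, 5, 0, 4] true) (.nil))) (.node (.node (.leaf [9, 6, 5, 3, 4, 7, 2, 8, 1, 2, 5, 0, 7, 7, 4, 4, 2, 0, 4] true) (.nil)) (.node (.leaf [9, 1, 7, 0, 5, 3, 4, 6, 8, 2, 0, 2, 0, 4, 7, 1, 6, 6, 5, 5] true) (.nil))))) (.node (.node (.node (.node (.leaf [2, 4, 4, 4, 4, 2, 5, 2, 5, 2, 5, 2, 5] true) (.nil)) (.node (.leaf [9, 4, 6, 0, 2, 1, 1, 2,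 8, 2, 7, 0, 2, 0, 6, 5, 5, 1, 3, 0, 7] true) (.nil))) (.node (.node (.leaf [0, 4, 0, 4, 1, 3, 4, 1, 4, 1, 4, 1, 5, 3] true) (.nil)) (.node (.leaf [9, 7, 4, 7, 2, 4, 6, 5, 8, 6, 4, 3, 5, 5, 6, 6, 3, 5] true) (.nil)))) (.node (.node (.node (.leaf [0, 2, 0, 2, 4, 4, 2, 4, 0, 4, 0, 5, 1, 5] true) (.nil)) (.node (.leaf [9, 4, 0, 7, 4, 7, 5, 3, 8, 3, 0, 3, 4, 3, 5, 1, 5, 6, 6, 6] true) (.nil))) (.node (.node (.leaf [9, 4, 6, 2, 5, 6, 3, 0, 8, 4, 6, 0, 5, 5, 0, 4, 1, 4, 2] true) (.nil)) (.node (.leaf [9, 5, 0, 4, 7, 0, 3, 7, 8, 4, 7, 7, 5, 6, 5, 6, 4, 0, 7, 0] true) (.nil))))))) (.node (.node (.node (.node (.node (.node (.leaf [0, 5, 0, 5, 0, 5, 0, 5, 0, 5] true) (.leaf [9, 7, 4, 7, 1,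 6, 5, 7, 8, 0, 2, 0, 2, 4, 1, 4, 3, 0, 6, 5] true)) (.node (.leaf [9, 7, 7, 1, 1, 2, 1, 1, 8, 0, 2, 4, 0, 7, 7, 7, 3, 0] true) (.nil))) (.node (.node (.leaf [0, 0, 4, 3, 4, 3, 0, 4, 0, 3, 4, 0, 2, 2] true) (.nil)) (.node (.leaf [9, 6, 6, 6, 6, 5, 2, 4, 8, 5, 6, 6, 0, 6, 3, 1, 5, 5, 3, 7] true) (.nil)))) (.node (.node (.node (.leaf [0, 0, 3, 3, 3, 4, 4, 4, 2, 2, 4, 0, 5, 3] true) (.nil)) (.node (.leaf [9, 7, 4, 7, 3, 4, 6, 2, 8, 6, 5, 0, 4, 3, 0, 6, 4, 1, 4, 7] true) (.nil))) (.node (.node (.leaf [9, 0, 6, 5, 3, 4, 1, 8, 6, 1, 2, 0, 4, 1, 7, 1, 2, 5, 5] true) (.nil)) (.node (.leaf [9, 7, 5, 7, 1, 7, 2, 6, 8, 6, 6, 3, 0, 0, 7, 7, 1, 1, 5, 3] true) (.nil))))) (.node (.node (.node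 (.node (.leaf [0, 0, 0, 0, 3, 1, 1, 2, 2, 0, 0, 3, 3] true) (.leaf [8, 9] true)) (.node (.leaf [9, 4, 7, 5, 5, 3, 7, 1, 8, 2, 0, 7, 2, 7, 7, 0, 0, 6, 2, 6] true) (.nil))) (.node (.node (.leaf [0, 4, 3, 4, 2, 5, 1, 3, 3, 3, 3, 4, 2, 5] true) (.nil)) (.node (.leaf [9, 7, 3, 1, 6, 0, 3, 5, 8, 6, 5, 0, 3, 0, 7, 0, 6, 3, 0, 0] true) (.nil)))) (.node (.node (.node (.leaf [0, 0, 3, 0, 2, 1, 3, 1, 3, 0, 3, 0, 2, 2] true) (.nil)) (.node (.leaf [9, 2, 6, 5, 5, 7, 4, 3, 8, 1, 4, 2, 2, 6, 4, 2, 5, 3, 1, 1] true) (.nil))) (.node (.node (.leaf [9, 2, 0, 3, 5, 7, 0, 0, 8, 3, 3, 6, 1, 4, 7, 1, 1, 4, 1, 5] true) (.nil)) (.node (.leaf [9, 5, 2, 7, 5, 3, 1, 7, 8, 5, 6, 1, 1, 1, 6, 1, 5, 3, 4, 3]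 true) (.nil)))))) (.node (.node (.node (.node (.node (.leaf [0, 2, 1, 2, 0, 2, 1, 2, 0, 2, 1, 2] true) (.leaf [6, 6, 9, 7, 8, 8, 7, 9] true)) (.node (.leaf [9, 1, 2, 7, 4, 0, 4, 1, 8, 4, 3, 4, 2, 1, 2, 0, 4, 4, 6] true) (.nil))) (.node (.node (.leaf [0, 2, 0, 2, 4, 3, 5, 3, 0, 4, 0, 5, 1, 5] true) (.nil)) (.node (.leaf [9, 1, 4, 1, 7, 2, 7, 4, 8, 2, 6, 1, 2, 1, 7, 5, 2, 7, 1, 3] true) (.nil)))) (.node (.node (.node (.leaf [0, 0, 0, 0, 4, 0, 2, 4, 3, 0, 2, 4, 3, 3] true) (.nil)) (.node (.leaf [9, 1, 1, 6, 4, 2, 1, 3, 8, 4, 0, 5, 0, 0, 6, 5, 0, 7, 2, 2] true) (.nil))) (.node (.node (.leaf [9, 3, 7, 5, 2, 0, 5, 8, 7, 2, 5, 3, 6, 4, 3, 7, 7, 5] true) (.nil)) (.node (.leaf [9, 5, 5,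 1, 1, 6, 5, 6, 8, 4, 1, 7, 7, 1, 6, 3, 1, 5, 2, 5] true) (.nil))))) (.node (.node (.node (.node (.leaf [0, 4, 4, 4, 4, 0, 5, 0, 5, 0, 5, 0, 5] true) (.nil)) (.node (.leaf [9, 7, 7, 0, 2, 5, 2, 2, 8, 1, 1, 1, 2, 7, 5, 6, 1, 5, 7, 7] true) (.nil))) (.node (.node (.leaf [0, 0, 7, 2, 2, 2, 6, 5, 5, 7, 3, 3, 6, 2] true) (.nil)) (.node (.leaf [9, 4, 3, 6, 5, 2, 7, 5, 8, 4, 0, 3, 1, 6, 5, 2, 6, 3, 3, 0] true) (.nil)))) (.node (.node (.node (.leaf [0, 0, 0, 2, 0, 2, 4, 3, 5, 0, 0, 0, 2, 5] true) (.nil)) (.node (.leaf [9, 6, 2, 4, 0, 0, 0, 4, 8, 5, 3, 4, 0, 5, 3, 6, 0, 0, 4] true) (.nil))) (.node (.node (.leaf [9, 6, 5, 0, 5, 2, 5, 0, 8, 7, 2, 0, 3, 5, 5, 3, 1, 1, 1] true) (.nil)) (.node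 (.leaf [9, 5, 3, 3, 7, 0, 4, 7, 8, 0, 5, 2, 4, 4, 2, 7, 0, 4, 1, 2] true) (.nil)))))))) (.node (.node (.node (.node (.node (.node (.node (.leaf [2, 4, 2, 4, 2, 4] true) (.leaf [9, 4, 2, 2, 4, 0, 5, 7, 8, 4, 4, 1, 2, 5, 7, 3, 1, 1] true)) (.node (.leaf [9, 2, 4, 3, 6, 3, 6, 0, 8, 3, 1, 6, 6, 3, 3, 4, 6, 3, 3, 6] true) (.nil))) (.node (.node (.leaf [0, 3, 0, 3, 4, 1, 3, 3, 4, 4, 1, 5, 2, 2] true) (.nil)) (.node (.leaf [9, 5, 5, 0, 6, 0, 2, 4, 8, 5, 5, 7, 3, 4, 0, 5, 2, 7, 2, 2] true) (.nil)))) (.node (.node (.node (.leaf [0, 3, 0, 4, 6, 2, 1, 7, 1, 2, 4, 0, 4, 7] true) (.nil)) (.node (.leaf [9, 3, 3, 5, 2, 0, 6, 2, 8, 7, 4, 6, 3, 5, 2, 1, 2, 7, 5, 0] true) (.nil))) (.node (.node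 (.leaf [9, 7, 5, 7, 3, 3, 0, 8, 7, 0, 0, 4, 6, 2, 0, 7, 2, 6] true) (.nil)) (.node (.leaf [9, 4, 2, 1, 7, 0, 2, 6, 8, 6, 3, 6, 3, 3, 3, 1, 4, 0, 2, 7] true) (.nil))))) (.node (.node (.node (.node (.leaf [0, 0, 0, 5, 5, 0, 4, 0, 5, 1, 4, 1, 3] true) (.leaf [4, 5] true)) (.node (.leaf [9, 0, 6, 5, 7, 1, 6, 1, 8, 1, 3, 4, 7, 1, 5, 1, 1, 2, 4] true) (.nil))) (.node (.node (.leaf [0, 2, 1, 2, 5, 2, 2, 0, 2, 1, 2, 5, 2, 2] true) (.nil)) (.node (.leaf [9, 1, 4, 7, 2, 5, 2, 5, 8, 4, 1, 7, 7, 3, 6, 1, 3, 1, 4] true) (.nil)))) (.node (.node (.node (.leaf [0, 0, 2, 1, 2, 5, 1, 2, 0, 4, 2, 5, 2, 5] true) (.nil)) (.node (.leaf [9, 6, 0, 3, 1, 3, 4, 3, 8, 7, 4, 0, 0, 5, 3, 0, 3, 1, 5, 0] true)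 (.nil))) (.node (.node (.leaf [9, 4, 3, 4, 4, 7, 7, 8, 2, 1, 4, 0, 2, 4, 6, 6, 6, 6] true) (.nil)) (.node (.leaf [9, 0, 4, 7, 5, 7, 0, 7, 8, 0, 7, 1, 3, 6, 3, 4, 6, 1, 2] true) (.nil)))))) (.node (.node (.node (.node (.node (.leaf [0, 3, 3, 0, 5, 2, 0, 3, 3, 0, 5, 2] true) (.leaf [9, 4, 6, 3, 5, 7, 7, 7, 8, 0, 7, 7, 0, 6, 3, 5] true)) (.node (.leaf [9, 7, 2, 7, 2, 4, 2, 1, 8, 4, 6, 3, 5, 2, 1, 4, 2, 6, 5] true) (.nil))) (.node (.node (.leaf [0, 2, 0, 7, 5, 7, 3, 4, 6, 0, 3, 5, 2, 5] true) (.nil)) (.node (.leaf [9, 2, 6, 0, 6, 2, 4, 4, 8, 5, 6, 4, 6, 3, 7, 4, 7, 2, 6, 6] true) (.nil)))) (.node (.node (.node (.leaf [0, 0, 2, 2, 2, 2, 0, 3, 1, 2, 0, 3, 0, 3] true) (.nil)) (.node (.leaf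 [9, 3, 5, 0, 6, 3, 0, 3, 8, 0, 5, 5, 1, 5, 2, 1, 3, 1, 4, 6] true) (.nil))) (.node (.node (.leaf [9, 6, 5, 2, 5, 1, 4, 8, 7, 4, 3, 5, 5, 0, 4, 3, 3, 1, 2] true) (.nil)) (.node (.leaf [9, 5, 6, 5, 1, 5, 5, 6, 8, 3, 5, 0, 2, 1, 3, 4, 4, 7, 2, 6] true) (.nil))))) (.node (.node (.node (.node (.leaf [0, 0, 3, 0, 3, 4, 0, 2, 2, 1, 3, 5, 3] true) (.nil)) (.node (.leaf [9, 6, 2, 1, 5, 7, 1, 2, 8, 4, 4, 2, 6, 0, 0, 6, 0, 7, 4, 1, 1] true) (.nil))) (.node (.node (.leaf [0, 0, 0, 0, 4, 2, 0, 2, 1, 1, 4, 3, 5, 3] true) (.nil)) (.node (.leaf [9, 0, 2, 1, 3, 6, 6, 5, 8, 0, 2, 7, 5, 3, 0, 5, 7, 3] true) (.nil)))) (.node (.node (.node (.leaf [0, 0, 4, 3, 7, 0, 2, 7, 3, 0, 3, 4, 2, 4] true) (.nil))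 (.node (.leaf [9, 4, 0, 3, 7, 1, 7, 3, 8, 2, 5, 2, 0, 0, 5, 7, 7, 5, 2, 5] true) (.nil))) (.node (.node (.leaf [9, 0, 7, 0, 6, 0, 5, 0, 8, 7, 4, 7, 3, 5, 0, 6, 4, 3, 6, 5] true) (.nil)) (.node (.leaf [9, 5, 1, 1, 1, 5, 3, 7, 8, 5, 1, 1, 7, 2, 4, 1, 5, 2, 4] true) (.nil))))))) (.node (.node (.node (.node (.node (.node (.leaf [0, 6, 0, 6, 0, 6, 0, 6, 0, 6] true) (.leaf [9, 4, 3, 4, 1, 1, 7, 7, 8, 6, 0, 0, 3, 0, 2, 2, 4, 3, 6] true)) (.node (.leaf [9, 6, 5, 0, 7, 4, 1, 1, 8, 7, 0, 3, 1, 1, 2, 5, 0, 7, 0, 3] true) (.nil))) (.node (.node (.leaf [0, 2, 4, 1, 4, 2, 4, 2, 1, 2, 0, 2, 4, 2] true) (.nil)) (.node (.leaf [9, 6, 2, 0, 0, 3, 3, 4, 8, 7, 5, 2, 5, 5, 2, 5, 2, 4, 4] true) (.nil))))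 (.node (.node (.node (.leaf [0, 3, 4, 0, 3, 5, 5, 0, 3, 4, 0, 3, 5, 5] true) (.nil)) (.node (.leaf [9, 6, 6, 3, 4, 1, 7, 2, 8, 1, 7, 4, 0, 3, 0, 7, 1, 7, 2, 5] true) (.nil))) (.node (.node (.leaf [9, 1, 4, 1, 4, 7, 1, 8, 1, 1, 6, 4, 7, 4, 4, 0, 4, 6] true) (.nil)) (.node (.leaf [9, 0, 5, 2, 2, 6, 3, 6, 8, 2, 4, 6, 6, 4, 0, 2, 1, 4, 1, 3] true) (.nil))))) (.node (.node (.node (.node (.leaf [0, 0, 3, 3, 3, 5, 5, 2, 2, 4, 0, 5, 3] true) (.nil)) (.node (.leaf [9, 5, 0, 7, 3, 0, 0, 2, 8, 7, 4, 3, 1, 2, 0, 5, 6, 0, 3, 0] true) (.nil))) (.node (.node (.leaf [0, 0, 0, 5, 5, 1, 2, 5, 3, 4, 3, 4, 2, 5] true) (.nil)) (.node (.leaf [9, 1, 4, 0, 6, 6, 5, 5, 8, 1, 4, 0, 2, 6, 5, 2, 5, 7] true)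 (.nil)))) (.node (.node (.node (.leaf [0, 4, 3, 4, 2, 5, 1, 2, 2, 5, 3, 4, 4, 4] true) (.nil)) (.node (.leaf [9, 1, 7, 2, 7, 2, 5, 3, 8, 7, 2, 2, 7, 5, 2, 2, 7, 7, 0, 2] true) (.nil))) (.node (.node (.leaf [9, 7, 2, 7, 1, 3, 3, 0, 8, 3, 1, 5, 0, 5, 3, 4, 4, 6, 5, 5] true) (.nil)) (.node (.leaf [9, 4, 6, 4, 4, 1, 2, 7, 8, 7, 1, 6, 1, 1, 6, 3, 3, 0, 7, 5] true) (.nil)))))) (.node (.node (.node (.node (.node (.leaf [0, 7, 4, 0, 7, 4, 0, 7, 4, 0, 7, 4] true) (.leaf [0, 7, 4, 0, 7, 4, 6, 9, 0, 7, 4, 0, 7, 4, 8, 7] true)) (.node (.leaf [9, 6, 3, 0, 5, 0, 5, 1, 8, 5, 1, 3, 0, 4, 1, 1, 2, 5, 7, 5] true) (.nil))) (.node (.node (.leaf [0, 0, 2, 5, 5, 0, 3, 6, 2, 5, 5, 2, 1, 6] true) (.nil))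 (.node (.leaf [9, 7, 4, 4, 6, 1, 1, 5, 8, 6, 4, 4, 2, 1, 4, 2, 5, 5, 0, 6] true) (.nil)))) (.node (.node (.node (.leaf [0, 3, 5, 3, 5, 2, 5, 3, 0, 4, 2, 2, 5, 3] true) (.nil)) (.node (.leaf [9, 1, 3, 1, 4, 6, 1, 3, 8, 0, 4, 1, 3, 6, 3, 3, 4, 1] true) (.nil))) (.node (.node (.leaf [9, 4, 1, 2, 4, 6, 5, 8, 2, 5, 3, 3, 4, 7, 1, 5, 2, 1, 5] true) (.nil)) (.node (.leaf [9, 3, 3, 4, 3, 1, 6, 6, 8, 6, 6, 4, 0, 7, 4, 6, 3, 0, 0, 0] true) (.nil))))) (.node (.node (.node (.node (.leaf [0, 0, 4, 0, 4, 0, 3, 5, 3, 4, 1, 4, 1, 2] true) (.nil)) (.node (.leaf [9, 2, 1, 2, 7, 1, 4, 2, 8, 1, 1, 6, 0, 0, 7, 1, 3, 5, 7, 4] true) (.nil))) (.node (.node (.leaf [0, 3, 4, 2, 2, 7, 1, 6, 2, 1, 2, 6, 4,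 2] true) (.nil)) (.node (.leaf [9, 6, 3, 0, 5, 5, 7, 5, 8, 4, 6, 1, 2, 2, 7, 0, 0, 7, 0, 6] true) (.nil)))) (.node (.node (.node (.leaf [0, 2, 0, 3, 0, 5, 3, 5, 3, 5, 1, 3, 0, 3] true) (.nil)) (.node (.leaf [9, 6, 0, 4, 7, 4, 1, 4, 8, 2, 7, 7, 3, 5, 3, 0, 7, 4, 3, 7] true) (.nil))) (.node (.node (.leaf [9, 3, 3, 4, 0, 6, 5, 0, 8, 7, 3, 5, 5, 6, 3, 6, 5, 2, 1] true) (.nil)) (.node (.leaf [9, 0, 0, 5, 6, 1, 4, 7, 8, 2, 1, 6, 1, 4, 3, 0, 0, 2, 1, 6] true) (.nil))))))))) (.node (.node (.node (.node (.node (.node (.node (.node (.leaf [6] false) (.leaf [9, 7, 0, 4, 6, 6, 4, 7, 8, 6, 0, 0, 6, 5, 5, 6, 3, 1, 7, 3] true)) (.node (.leaf [9, 7, 5, 2, 4, 1, 6, 0, 8, 0, 6, 2, 0, 7, 5, 1, 2,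 1, 5, 5] true) (.nil))) (.node (.node (.leaf [0, 2, 1, 2, 0, 2, 2, 2, 1, 3, 3, 3, 1, 3] true) (.nil)) (.node (.leaf [9, 2, 2, 5, 2, 6, 1, 4, 8, 1, 7, 5, 7, 7, 0, 6, 6, 2, 0] true) (.nil)))) (.node (.node (.node (.leaf [0, 2, 2, 1, 5, 1, 4, 2, 0, 5, 0, 4, 0, 3] true) (.nil)) (.node (.leaf [9, 3, 6, 2, 4, 2, 5, 2, 8, 0, 3, 7, 5, 2, 2, 0, 2, 1, 5] true) (.nil))) (.node (.node (.leaf [9, 7, 7, 4, 4, 7, 8, 7, 1, 5, 2, 7, 0, 0, 3, 7, 7] true) (.nil)) (.node (.leaf [9, 6, 5, 7, 7, 5, 1, 6, 8, 2, 6, 0, 2, 7, 4, 4, 7, 1, 1, 7] true) (.nil))))) (.node (.node (.node (.node (.leaf [0, 0, 0, 2, 2, 5, 3, 1, 2, 5, 3, 1, 5] true) (.leaf [2, 3] true)) (.node (.leaf [9, 1, 4, 1, 7, 1, 6, 1, 8, 7,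 3, 6, 1, 7, 5, 6, 6, 5, 6, 2] true) (.nil))) (.node (.node (.leaf [0, 0, 5, 0, 5, 0, 2, 5, 5, 2, 1, 2, 5, 5] true) (.nil)) (.node (.leaf [9, 5, 1, 1, 7, 1, 2, 5, 8, 4, 2, 5, 0, 6, 1, 1, 3, 1, 6, 5] true) (.nil)))) (.node (.node (.node (.leaf [0, 0, 2, 6, 2, 1, 2, 5, 3, 1, 5, 5, 1, 6] true) (.nil)) (.node (.leaf [9, 0, 6, 0, 5, 7, 3, 3, 8, 0, 3, 4, 3, 5, 0, 7, 2, 1, 2] true) (.nil))) (.node (.node (.leaf [9, 5, 0, 4, 3, 4, 7, 8, 3, 0, 2, 2, 5, 1, 4, 4, 2, 5, 6] true) (.nil)) (.node (.leaf [9, 6, 6, 1, 2, 5, 0, 7, 8, 4, 4, 0, 0, 2, 4, 3, 3, 0, 0, 7] true) (.nil)))))) (.node (.node (.node (.node (.node (.leaf [0, 0, 3, 0, 2, 1, 3, 3, 1, 2, 1, 2] true) (.leaf [9, 6, 4, 0, 2, 7, 7,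 7, 8, 6, 6, 0, 2, 1, 2, 5, 3, 1, 1, 4] true)) (.node (.leaf [9, 1, 4, 6, 0, 0, 2, 1, 8, 6, 3, 0, 3, 0, 2, 6, 1, 2, 4, 7, 3] true) (.nil))) (.node (.node (.leaf [0, 4, 3, 6, 5, 2, 5, 5, 6, 6, 3, 3, 4, 6] true) (.nil)) (.node (.leaf [9, 7, 4, 7, 0, 0, 4, 4, 8, 4, 3, 4, 0, 2, 7, 0, 6, 6, 0, 5] true) (.nil)))) (.node (.node (.node (.leaf [0, 0, 3, 4, 1, 4, 4, 2, 2, 2, 2, 0, 0, 5] true) (.nil)) (.node (.leaf [9, 4, 7, 5, 1, 5, 7, 2, 8, 2, 6, 0, 4, 6, 6, 2, 4, 2, 2, 0] true) (.nil))) (.node (.node (.leaf [9, 2, 1, 6, 1, 3, 3, 8, 0, 0, 0, 4, 3, 1, 6, 6, 3, 1, 6] true) (.nil)) (.node (.leaf [9, 7, 2, 7, 1, 6, 4, 6, 8, 0, 7, 3, 7, 0, 5, 1, 3, 7, 3, 5] true) (.nil))))) (.node (.node (.node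 (.node (.leaf [0, 4, 3, 4, 2, 5, 1, 2, 2, 2, 4, 2, 5] true) (.nil)) (.node (.leaf [9, 4, 7, 4, 0, 4, 1, 2, 8, 0, 2, 1, 1, 6, 6, 2, 6, 4, 1] true) (.nil))) (.node (.node (.leaf [0, 4, 6, 6, 3, 4, 7, 7, 4, 2, 7, 7, 5, 2] true) (.nil)) (.node (.leaf [9, 3, 0, 5, 1, 5, 6, 5, 8, 0, 5, 7, 3, 7, 7, 0, 0, 3, 1] true) (.nil)))) (.node (.node (.node (.leaf [0, 0, 2, 0, 0, 2, 2, 2, 0, 0, 3, 3, 1, 2] true) (.nil)) (.node (.leaf [9, 6, 1, 7, 0, 2, 6, 3, 8, 0, 6, 4, 0, 2, 7, 5, 2, 4, 1, 3] true) (.nil))) (.node (.node (.leaf [9, 5, 3, 7, 5, 7, 3, 0, 8, 1, 6, 1, 3, 7, 3, 1, 7, 7, 2] true) (.nil)) (.node (.leaf [9, 0, 0, 6, 3, 1, 3, 7, 8, 7, 2, 2, 2, 5, 0, 4, 7, 3, 4] true) (.nil))))))) (.node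 (.node (.node (.node (.node (.node (.leaf [2, 5, 2, 5, 2, 5, 2, 5, 2, 5] true) (.leaf [9, 4, 3, 1, 1, 7, 5, 7, 8, 3, 0, 4, 4, 7, 1, 4, 0, 7, 0, 4] true)) (.node (.leaf [9, 1, 7, 2, 7, 3, 1, 1, 8, 1, 6, 4, 1, 1, 1, 4, 7, 1, 1, 2] true) (.nil))) (.node (.node (.leaf [0, 2, 4, 1, 3, 4, 1, 5, 2, 5, 5, 3, 1, 3] true) (.nil)) (.node (.leaf [9, 7, 0, 3, 5, 7, 2, 4, 8, 6, 4, 3, 1, 4, 4, 2, 0, 4, 2] true) (.nil)))) (.node (.node (.node (.leaf [0, 0, 3, 1, 3, 3, 3, 0, 3, 1, 3, 3, 0, 2] true) (.nil)) (.node (.leaf [9, 3, 4, 3, 3, 0, 7, 2, 8, 1, 4, 3, 5, 1, 7, 1, 3, 3] true) (.nil))) (.node (.node (.leaf [9, 1, 1, 1, 2, 7, 1, 8, 6, 6, 4, 7, 0, 5, 6, 1, 6, 1, 4] true) (.nil)) (.node (.leaf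 [9, 1, 2, 2, 0, 6, 3, 6, 8, 3, 1, 6, 2, 5, 5, 2, 1, 7, 7, 7] true) (.nil))))) (.node (.node (.node (.node (.leaf [0, 0, 3, 4, 1, 4, 4, 3, 3, 3, 0, 0, 5] true) (.nil)) (.node (.leaf [9, 3, 1, 3, 3, 4, 7, 1, 8, 4, 3, 6, 3, 6, 0, 4, 0, 3, 3] true) (.nil))) (.node (.node (.leaf [0, 2, 2, 2, 6, 3, 1, 6, 1, 3, 0, 5, 1, 5] true) (.nil)) (.node (.leaf [9, 7, 5, 7, 4, 3, 3, 5, 8, 2, 6, 0, 0, 4, 1, 5, 7, 7, 3, 3] true) (.nil)))) (.node (.node (.node (.leaf [0, 2, 1, 5, 2, 2, 5, 0, 2, 1, 5, 2, 2, 5] true) (.nil)) (.node (.leaf [9, 6, 5, 2, 6, 2, 5, 3, 8, 7, 4, 6, 1, 3, 6, 3, 4, 7, 1] true) (.nil))) (.node (.node (.leaf [9, 3, 5, 0, 6, 5, 2, 0, 8, 5, 2, 2, 0, 7, 1, 3, 7, 4, 1, 2] true) (.nil))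 (.node (.leaf [9, 5, 0, 5, 6, 5, 1, 7, 8, 7, 7, 0, 4, 3, 6, 4, 4, 6, 4, 1] true) (.nil)))))) (.node (.node (.node (.node (.node (.leaf [0, 2, 0, 2, 0, 2, 0, 2, 0, 2, 0, 2] true) (.leaf [0, 8, 0, 8, 0, 8, 0, 8, 0, 8, 0, 8] true)) (.node (.leaf [9, 0, 7, 0, 6, 3, 4, 1, 8, 6, 3, 1, 5, 7, 7, 5, 6, 1, 3] true) (.nil))) (.node (.node (.leaf [0, 3, 3, 4, 2, 1, 6, 1, 5, 5, 3, 7, 1, 3] true) (.nil)) (.node (.leaf [9, 3, 6, 4, 0, 3, 0, 5, 8, 6, 1, 2, 7, 5, 2, 4, 0, 4, 4, 6] true) (.nil)))) (.node (.node (.node (.leaf [0, 0, 4, 0, 7, 2, 1, 2, 7, 4, 1, 4, 0, 4] true) (.nil)) (.node (.leaf [9, 7, 7, 2, 1, 3, 1, 3, 8, 2, 2, 1, 1, 5, 3, 6, 0, 4, 4, 2] true) (.nil))) (.node (.node (.leaf [9, 6,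 6, 5, 5, 2, 5, 8, 7, 7, 7, 7, 5, 3, 1, 5, 0, 3] true) (.nil)) (.node (.leaf [9, 4, 7, 5, 3, 6, 5, 6, 8, 4, 2, 7, 7, 4, 4, 2, 5, 7] true) (.nil))))) (.node (.node (.node (.node (.leaf [0, 0, 0, 3, 0, 3, 0, 0, 2, 2, 1, 2, 1, 2] true) (.nil)) (.node (.leaf [9, 5, 3, 3, 4, 7, 2, 2, 8, 2, 6, 4, 4, 7, 2, 6, 2, 2, 2, 6] true) (.nil))) (.node (.node (.leaf [0, 0, 0, 3, 1, 1, 6, 1, 6, 3, 6, 0, 3, 6] true) (.nil)) (.node (.leaf [9, 6, 5, 3, 0, 3, 7, 5, 8, 1, 1, 6, 6, 6, 1, 1, 3, 7, 5, 5] true) (.nil)))) (.node (.node (.node (.leaf [0, 2, 1, 5, 5, 2, 2, 4, 0, 5, 1, 2, 1, 3] true) (.nil)) (.node (.leaf [9, 0, 0, 5, 3, 7, 0, 4, 8, 0, 0, 7, 0, 0, 5, 5, 6, 2, 4, 7] true) (.nil))) (.node (.node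 (.leaf [9, 7, 3, 4, 7, 3, 5, 0, 8, 4, 0, 6, 5, 0, 3, 6, 5] true) (.nil)) (.node (.leaf [9, 1, 4, 3, 4, 1, 4, 7, 8, 0, 0, 0, 2, 4, 4, 2, 1, 3, 6] true) (.nil)))))))) (.node (.node (.node (.node (.node (.node (.node (.leaf [2, 2, 2, 2, 2, 2, 2] true) (.leaf [9, 3, 5, 2, 0, 3, 5, 7, 8, 5, 1, 3, 1, 2, 5, 2, 4, 0, 6] true)) (.node (.leaf [9, 4, 2, 1, 7, 1, 7, 0, 8, 1, 5, 3, 6, 2, 5, 6, 0, 3, 6, 3] true) (.nil))) (.node (.node (.leaf [0, 0, 2, 0, 2, 2, 0, 3, 0, 0, 2, 2, 1, 3] true) (.nil)) (.node (.leaf [9, 3, 3, 6, 5, 2, 2, 4, 8, 7, 3, 3, 3, 7, 3, 6, 5, 5, 7, 3] true) (.nil)))) (.node (.node (.node (.leaf [0, 2, 2, 0, 6, 2, 4, 6, 4, 4, 6, 3, 6, 3] true) (.nil)) (.node (.leaf [9, 7,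 1, 2, 6, 2, 6, 2, 8, 1, 1, 6, 0, 2, 2, 0, 2, 1, 6, 1] true) (.nil))) (.node (.node (.leaf [9, 0, 6, 5, 0, 5, 0, 8, 7, 5, 1, 5, 5, 6, 5, 7, 0, 0] true) (.nil)) (.node (.leaf [9, 1, 5, 6, 1, 4, 2, 6, 8, 6, 3, 4, 1, 2, 0, 6, 1, 1, 6, 0] true) (.nil))))) (.node (.node (.node (.node (.leaf [0, 2, 1, 4, 6, 4, 2, 1, 5, 7, 1, 3, 7] true) (.leaf [6, 7] true)) (.node (.leaf [9, 2, 2, 6, 4, 1, 7, 1, 8, 3, 0, 3, 6, 1, 4, 2, 5, 2, 1] true) (.nil))) (.node (.node (.leaf [0, 0, 2, 2, 2, 0, 3, 0, 2, 0, 0, 3, 0, 3] true) (.nil)) (.node (.leaf [9, 4, 6, 3, 4, 7, 2, 5, 8, 1, 6, 1, 4, 6, 4, 7, 2, 4, 0, 6] true) (.nil)))) (.node (.node (.node (.leaf [0, 2, 0, 4, 2, 4, 2, 4, 0, 2, 1, 3, 0, 3] true)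 (.nil)) (.node (.leaf [9, 0, 4, 7, 0, 6, 4, 3, 8, 0, 0, 5, 1, 3, 5, 7, 7, 3, 6, 0] true) (.nil))) (.node (.node (.leaf [9, 0, 0, 6, 1, 5, 0, 0, 8, 7, 0, 2, 2, 5, 2, 0, 4, 7, 2, 2] true) (.nil)) (.node (.leaf [9, 2, 5, 2, 0, 2, 1, 7, 8, 4, 0, 3, 0, 3, 3, 4, 4, 1, 2, 6] true) (.nil)))))) (.node (.node (.node (.node (.node (.leaf [0, 4, 0, 4, 1, 3, 0, 5, 0, 5, 5, 3] true) (.leaf [9, 1, 2, 7, 7, 7, 7, 7, 8, 1, 3, 0, 0, 7, 2, 6, 3, 5, 5, 3] true)) (.node (.leaf [9, 6, 2, 5, 7, 5, 3, 1, 8, 6, 5, 2, 1, 3, 5, 0, 0, 4, 4] true) (.nil))) (.node (.node (.leaf [0, 0, 0, 3, 4, 3, 3, 0, 3, 3, 3, 3, 0, 4] true) (.nil)) (.node (.leaf [9, 4, 0, 7, 4, 6, 6, 4, 8, 7, 1, 7, 0, 6, 0, 5, 7, 5, 3, 0]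 true) (.nil)))) (.node (.node (.node (.leaf [0, 0, 3, 3, 3, 0, 2, 0, 2, 2, 1, 2, 1, 3] true) (.nil)) (.node (.leaf [9, 7, 2, 7, 7, 1, 1, 3, 8, 0, 6, 0, 2, 2, 4, 0, 0, 7, 2, 4] true) (.nil))) (.node (.node (.leaf [9, 1, 2, 7, 5, 2, 4, 8, 7, 2, 7, 0, 4, 1, 3, 5, 7, 7, 1] true) (.nil)) (.node (.leaf [9, 4, 0, 0, 7, 5, 5, 6, 8, 1, 2, 2, 4, 1, 6, 1, 5, 3, 6, 4] true) (.nil))))) (.node (.node (.node (.node (.leaf [0, 0, 3, 0, 3, 3, 1, 3, 3, 1, 2, 0, 3] true) (.nil)) (.node (.leaf [9, 3, 7, 1, 3, 4, 2, 2, 8, 1, 4, 6, 3, 0, 3, 4, 2, 7, 5, 6] true) (.nil))) (.node (.node (.leaf [0, 3, 0, 3, 0, 3, 0, 3, 0, 3, 0, 3, 0, 3] true) (.nil)) (.node (.leaf [9, 4, 3, 0, 0, 2, 7, 5, 8, 3, 7, 2, 1,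 2, 0, 0, 4, 3, 6, 2] true) (.nil)))) (.node (.node (.node (.leaf [0, 4, 1, 7, 7, 3, 6, 3, 7, 2, 7, 1, 2, 4] true) (.nil)) (.node (.leaf [9, 2, 5, 6, 4, 4, 7, 3, 8, 3, 0, 6, 0, 2, 7, 0, 5, 0, 7, 3] true) (.nil))) (.node (.node (.leaf [9, 4, 4, 7, 7, 1, 5, 0, 8, 6, 4, 3, 4, 7, 3, 1, 5, 0] true) (.nil)) (.node (.leaf [9, 5, 2, 0, 4, 7, 3, 7, 8, 1, 6, 5, 3, 4, 0, 5, 6, 4, 3, 1] true) (.nil))))))) (.node (.node (.node (.node (.node (.node (.leaf [2, 2, 2, 2, 2, 2, 5, 3, 5, 3, 5] true) (.leaf [9, 3, 6, 0, 5, 2, 7, 7, 8, 4, 3, 6, 0, 6, 1, 2, 1, 5, 6, 0] true)) (.node (.leaf [9, 1, 1, 4, 0, 7, 1, 1, 8, 3, 3, 6, 5, 1, 3, 4, 3, 3, 1, 6] true) (.nil))) (.node (.node (.leaf [0, 0, 2, 0, 0,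 3, 6, 0, 0, 2, 0, 0, 3, 6] true) (.nil)) (.node (.leaf [9, 1, 6, 0, 6, 4, 3, 4, 8, 3, 7, 5, 6, 6, 3, 4, 1, 6, 5] true) (.nil)))) (.node (.node (.node (.leaf [0, 5, 7, 1, 5, 7, 1, 6, 1, 5, 6, 6, 3, 7] true) (.nil)) (.node (.leaf [9, 3, 4, 3, 5, 3, 7, 2, 8, 4, 0, 3, 1, 3, 3, 4, 6, 2, 1] true) (.nil))) (.node (.node (.leaf [9, 4, 4, 7, 7, 4, 2, 8, 5, 3, 4, 2, 0, 5, 7, 0, 6, 2, 5, 5] true) (.nil)) (.node (.leaf [9, 2, 0, 5, 5, 6, 3, 6, 8, 7, 4, 0, 0, 4, 7, 7, 1, 7, 2] true) (.nil))))) (.node (.node (.node (.node (.leaf [0, 2, 2, 0, 2, 4, 1, 2, 4, 0, 2, 5, 5] true) (.nil)) (.node (.leaf [9, 0, 6, 5, 2, 2, 0, 2, 8, 2, 2, 1, 5, 1, 7, 2, 7, 2, 5] true) (.nil))) (.node (.node (.leaf [0,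 4, 2, 4, 1, 3, 4, 4, 3, 4, 1, 3, 4, 3] true) (.nil)) (.node (.leaf [9, 5, 3, 3, 3, 1, 6, 5, 8, 3, 7, 4, 3, 7, 5, 6, 3, 3, 3] true) (.nil)))) (.node (.node (.node (.leaf [0, 0, 4, 2, 0, 4, 3, 3, 5, 5, 3, 4, 3, 4] true) (.nil)) (.node (.leaf [9, 4, 6, 6, 0, 6, 5, 3, 8, 2, 7, 7, 0, 2, 0, 5, 0, 4, 7] true) (.nil))) (.node (.node (.leaf [9, 6, 4, 2, 1, 4, 3, 0, 8, 0, 4, 2, 0, 0, 7, 5, 7, 2, 7, 7] true) (.nil)) (.node (.leaf [9, 3, 0, 6, 4, 0, 3, 7, 8, 0, 6, 5, 5, 1, 2, 2, 0, 4, 6, 0, 7] true) (.nil)))))) (.node (.node (.node (.node (.node (.leaf [0, 0, 0, 2, 2, 1, 1, 3, 3, 0, 0, 2] true) (.leaf [0, 0, 3, 7, 7, 9, 7, 7, 5, 5, 5, 9, 1, 5, 2, 7] true)) (.node (.leaf [9, 2, 5, 7, 1, 6,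 5, 1, 8, 6, 1, 2, 1, 1, 6, 5, 0, 6, 2, 7] true) (.nil))) (.node (.node (.leaf [0, 3, 4, 3, 7, 3, 0, 5, 3, 6, 6, 4, 2, 4] true) (.nil)) (.node (.leaf [9, 2, 4, 6, 5, 6, 1, 5, 8, 7, 7, 7, 4, 0, 4, 2, 5, 2, 1, 2] true) (.nil)))) (.node (.node (.node (.leaf [0, 2, 0, 3, 0, 2, 1, 3, 0, 4, 2, 4, 2, 4] true) (.nil)) (.node (.leaf [9, 1, 1, 6, 5, 1, 3, 3, 8, 7, 2, 2, 0, 4, 7, 0, 0, 6] true) (.nil))) (.node (.node (.leaf [9, 0, 4, 1, 5, 7, 5, 8, 5, 5, 6, 0, 3, 1, 3, 5, 7, 1, 2] true) (.nil)) (.node (.leaf [9, 2, 0, 2, 0, 3, 6, 6, 8, 6, 4, 4, 1, 4, 2, 1, 6, 2, 5, 2] true) (.nil))))) (.node (.node (.node (.node (.leaf [0, 0, 0, 5, 3, 4, 4, 4, 0, 0, 3, 1, 3, 5] true) (.nil)) (.node (.leaf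 [9, 6, 4, 2, 1, 3, 4, 2, 8, 7, 1, 5, 3, 4, 3, 0, 2, 0, 4] true) (.nil))) (.node (.node (.leaf [6, 8, 6, 8, 6, 8, 6, 8, 6, 8, 6, 3, 1, 1, 3, 1, 3, 1, 4, 4, 3, 4, 7, 9, 7, 9, 7, 9, 7, 9, 7, 9, 7, 8, 6, 8, 6, 8, 6, 8, 6, 8, 6, 8, 6, 5, 2, 5, 5, 0, 2, 0, 2, 0, 0, 2, 7, 9, 7, 9, 7, 9, 7, 9, 7, 9, 7, 9, 9, 9] true) (.nil)) (.node (.leaf [9, 2, 5, 3, 6, 3, 0, 6, 8, 5, 0, 7, 0, 5, 1, 6, 5, 0] true) (.nil)))) (.node (.node (.node (.leaf [0, 3, 4, 4, 3, 5, 0, 5, 0, 5, 1, 4, 4, 3] true) (.nil)) (.node (.leaf [9, 6, 2, 1, 6, 5, 1, 4, 8, 0, 0, 4, 0, 3, 4, 1, 6, 0, 5, 5] true) (.nil))) (.node (.node (.leaf [9, 4, 3, 4, 3, 6, 5, 0, 8, 5, 0, 2, 0, 7, 2, 6, 6, 0, 5] true) (.nil)) (.node (.leaf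 [9, 4, 6, 2, 1, 2, 4, 7, 8, 4, 4, 6, 2, 0, 0, 7, 7, 7, 0, 0] true) (.nil))))))))))

/-- the twist of a word -/
def Ev (_ : ℕ) : List ℤ := []

/-- all relator words -/
def relL : List (List ℕ) := [[4, 4, 4, 4, 4], [2, 4, 2, 4, 2, 4], [0, 0, 0, 0, 0, 0, 0], [2, 2, 2, 2, 2, 2, 2], [2, 4, 2, 4, 2, 5, 5, 5, 5], [0, 5, 0, 5, 0, 5, 0, 5, 0, 5], [0, 2, 0, 3, 0, 2, 1, 3, 0, 3], [2, 5, 2, 5, 2, 5, 2, 5, 2, 5], [0, 4, 0, 4, 0, 4, 0, 4, 0, 4], [0, 6, 0, 6, 0, 6, 0, 6, 0, 6], [6, 6, 6, 6, 6, 6, 6, 6, 6, 6, 6], [2, 2, 2, 2, 2, 2, 5, 3, 5, 3, 5], [0, 0, 2, 0, 0, 2, 0, 0, 2, 0, 0, 2], [0, 2, 4, 1, 3, 5, 1, 2, 0, 5, 3, 5], [0, 4, 4, 0, 4, 4, 0, 4, 4, 0, 4, 4], [0, 0, 3, 0, 2, 1, 3, 3, 1, 2, 1,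 2], [0, 2, 4, 1, 3, 5, 1, 2, 0, 2, 4, 2], [0, 3, 3, 0, 5, 2, 0, 3, 3, 0, 5, 2], [4, 7, 4, 7, 4, 7, 4, 7, 4, 7, 4, 7], [0, 4, 0, 4, 1, 3, 0, 5, 0, 5, 5, 3], [0, 4, 2, 2, 5, 3, 0, 4, 2, 2, 5, 3], [0, 2, 1, 2, 0, 2, 1, 2, 0, 2, 1, 2], [0, 0, 4, 0, 0, 4, 0, 0, 4, 0, 0, 4], [0, 2, 0, 2, 0, 2, 0, 2, 0, 2, 0, 2], [2, 2, 7, 2, 2, 7, 2, 2, 7, 2, 2, 7], [0, 7, 4, 0, 7, 4, 0, 7, 4, 0, 7, 4], [0, 0, 2, 2, 0, 0, 2, 2, 0, 0, 2, 2], [0, 0, 0, 2, 2, 1, 1, 3, 3, 0, 0, 2], [0, 0, 0, 3, 4, 3, 3, 0, 2, 2, 2, 0, 4], [0, 4, 3, 4, 2, 5, 1, 2, 2, 5, 3, 5, 5], [0, 0, 4, 3, 4, 6, 6, 6, 2, 7, 7, 2, 5], [0, 0, 0, 2, 2, 5, 3, 1, 2, 5, 3, 1, 5], [0, 4, 7, 2, 4, 0, 5, 7, 1, 6, 1, 6, 4], [0, 0, 0, 5, 5, 0, 4,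 0, 5, 1, 4, 1, 3], [0, 2, 2, 1, 4, 1, 6, 3, 1, 6, 5, 3, 3], [0, 2, 1, 4, 6, 4, 2, 1, 5, 7, 1, 3, 7], [0, 0, 3, 3, 3, 0, 3, 1, 2, 0, 3, 0, 3], [0, 0, 0, 0, 3, 1, 1, 2, 2, 0, 0, 3, 3], [0, 0, 0, 5, 3, 5, 5, 0, 0, 3, 1, 3, 5], [0, 0, 3, 4, 1, 4, 4, 3, 3, 3, 0, 0, 5], [0, 4, 0, 4, 0, 4, 0, 4, 0, 5, 5, 5, 5], [0, 0, 3, 3, 3, 5, 5, 2, 2, 4, 0, 5, 3], [2, 4, 2, 4, 2, 5, 2, 4, 2, 4, 2, 5, 5], [0, 2, 2, 0, 2, 4, 1, 2, 4, 0, 2, 5, 5], [0, 2, 1, 7, 4, 1, 5, 7, 5, 1, 4, 6, 4], [2, 4, 4, 4, 4, 2, 5, 2, 5, 2, 5, 2, 5], [0, 0, 3, 0, 3, 4, 0, 2, 2, 1, 4, 2, 4], [0, 4, 3, 4, 2, 5, 1, 2, 2, 2, 4, 2, 5], [0, 0, 0, 2, 4, 2, 5, 0, 0, 3, 1, 3, 5], [0, 0, 3, 0, 3, 4, 0, 2, 2, 1, 3, 5, 3], [0, 0, 2, 1,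 3, 3, 0, 0, 3, 1, 3, 0, 2], [0, 0, 3, 0, 3, 3, 1, 3, 3, 1, 2, 0, 3], [0, 4, 0, 4, 1, 3, 0, 5, 0, 4, 4, 4, 3], [0, 4, 4, 4, 4, 0, 5, 0, 5, 0, 5, 0, 5], [0, 4, 4, 0, 4, 4, 0, 4, 4, 0, 5, 5, 5], [0, 0, 0, 3, 0, 3, 0, 0, 2, 2, 1, 2, 1, 2], [0, 2, 2, 0, 2, 4, 1, 2, 4, 0, 2, 4, 4, 4], [0, 0, 4, 0, 4, 0, 3, 5, 3, 4, 1, 4, 1, 2], [0, 3, 5, 3, 5, 3, 0, 4, 0, 4, 0, 4, 0, 4], [0, 0, 0, 5, 3, 4, 4, 4, 0, 0, 3, 1, 3, 5], [0, 2, 0, 5, 2, 1, 5, 3, 1, 3, 4, 2, 0, 4], [0, 2, 1, 6, 1, 6, 3, 6, 1, 6, 2, 2, 2, 4], [0, 4, 3, 3, 5, 6, 5, 5, 1, 5, 2, 6, 1, 5], [0, 2, 2, 1, 5, 1, 4, 2, 0, 5, 0, 4, 0, 3], [0, 4, 7, 3, 5, 0, 7, 0, 4, 7, 3, 5, 0, 7], [0, 3, 0, 4, 6, 2, 1, 7, 1, 2, 4, 0, 4, 7], [0, 0, 3,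 3, 0, 2, 2, 2, 1, 2, 2, 2, 0, 3], [0, 2, 2, 0, 6, 2, 4, 6, 4, 4, 6, 3, 6, 3], [0, 2, 1, 3, 0, 3, 0, 5, 3, 5, 3, 5, 0, 3], [0, 0, 3, 3, 3, 4, 4, 4, 2, 2, 4, 0, 5, 3], [0, 4, 2, 2, 2, 4, 2, 4, 0, 4, 2, 2, 5, 3], [0, 0, 3, 1, 3, 3, 3, 0, 3, 1, 3, 3, 0, 2], [0, 0, 0, 3, 3, 3, 1, 2, 0, 2, 2, 0, 3, 3], [0, 3, 4, 0, 3, 5, 5, 0, 3, 4, 0, 3, 5, 5], [0, 2, 0, 3, 0, 2, 1, 4, 2, 4, 2, 4, 0, 3], [0, 5, 7, 1, 5, 7, 1, 6, 1, 5, 6, 6, 3, 7], [0, 3, 5, 1, 4, 2, 5, 1, 5, 1, 3, 3, 5, 3], [0, 2, 4, 0, 5, 2, 0, 3, 5, 0, 4, 1, 4, 4], [0, 0, 4, 4, 3, 0, 3, 5, 2, 0, 4, 1, 3, 3], [0, 0, 3, 4, 1, 4, 4, 2, 2, 2, 2, 0, 0, 5], [0, 0, 2, 1, 3, 0, 3, 0, 0, 3, 0, 2, 0, 3], [0, 0, 2, 2, 2, 2, 0, 3, 1, 2, 0, 3,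 0, 3], [0, 0, 2, 5, 0, 3, 1, 3, 0, 5, 3, 5, 5, 3], [0, 0, 3, 3, 3, 0, 2, 0, 2, 2, 1, 2, 1, 3], [0, 0, 0, 3, 0, 2, 2, 5, 3, 4, 3, 3, 3, 4], [0, 0, 0, 0, 4, 0, 2, 4, 3, 0, 2, 4, 3, 3], [0, 3, 6, 5, 6, 2, 2, 0, 3, 6, 5, 6, 2, 2], [0, 0, 4, 0, 7, 2, 1, 2, 7, 4, 1, 4, 0, 4], [0, 0, 0, 2, 1, 1, 2, 2, 2, 1, 2, 2, 1, 3], [0, 3, 5, 3, 5, 2, 5, 3, 0, 4, 2, 2, 5, 3], [0, 3, 3, 0, 4, 1, 4, 3, 5, 1, 4, 4, 1, 5], [0, 2, 0, 3, 0, 2, 1, 3, 0, 4, 2, 4, 2, 4], [0, 0, 2, 0, 3, 1, 3, 0, 0, 3, 1, 2, 2, 2], [0, 2, 4, 1, 7, 2, 0, 2, 5, 5, 7, 1, 3, 3], [2, 2, 2, 2, 2, 2, 5, 3, 4, 4, 4, 4, 3, 5], [0, 0, 2, 6, 2, 1, 2, 5, 3, 1, 5, 5, 1, 6], [0, 0, 2, 5, 0, 3, 1, 3, 0, 2, 4, 2, 5, 3], [0, 0, 2, 1, 2, 5,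 1, 2, 0, 4, 2, 5, 2, 5], [0, 0, 0, 4, 4, 1, 4, 3, 0, 4, 3, 5, 2, 4], [0, 2, 0, 4, 2, 4, 2, 4, 0, 2, 1, 3, 0, 3], [0, 3, 3, 4, 1, 4, 6, 0, 6, 3, 7, 1, 7, 5], [0, 0, 3, 0, 2, 1, 3, 1, 3, 0, 3, 0, 2, 2], [0, 0, 0, 2, 1, 2, 2, 0, 0, 0, 2, 1, 2, 2], [0, 2, 1, 5, 2, 2, 5, 0, 2, 1, 5, 2, 2, 5], [0, 0, 0, 5, 1, 7, 4, 2, 6, 0, 7, 5, 6, 5], [0, 4, 3, 4, 2, 5, 1, 2, 2, 5, 3, 4, 4, 4], [2, 6, 2, 6, 2, 6, 2, 6, 2, 6, 2, 6, 2, 6], [0, 0, 4, 2, 0, 4, 3, 3, 5, 5, 3, 4, 3, 4], [0, 0, 0, 3, 3, 1, 1, 2, 2, 2, 1, 1, 1, 3], [0, 2, 0, 2, 4, 4, 2, 4, 0, 4, 0, 5, 1, 5], [0, 0, 0, 0, 2, 0, 5, 0, 4, 1, 5, 1, 4, 4], [0, 0, 2, 0, 0, 2, 2, 2, 0, 0, 3, 3, 1, 2], [0, 0, 4, 4, 0, 2, 5, 0, 4, 3, 4, 0, 5, 3], [0,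 0, 4, 3, 7, 0, 2, 7, 3, 0, 3, 4, 2, 4], [0, 0, 3, 1, 2, 4, 0, 5, 0, 0, 5, 1, 2, 5], [0, 4, 1, 7, 7, 3, 6, 3, 7, 2, 7, 1, 2, 4], [2, 2, 4, 2, 4, 2, 2, 5, 2, 5, 2, 5, 2, 5], [0, 0, 0, 2, 0, 2, 4, 3, 5, 0, 0, 0, 2, 5], [0, 0, 4, 3, 7, 0, 2, 7, 3, 0, 3, 3, 5, 3], [0, 2, 1, 5, 5, 2, 2, 4, 0, 5, 1, 2, 1, 3], [0, 0, 4, 2, 2, 4, 3, 4, 1, 2, 4, 0, 4, 4], [0, 2, 0, 3, 0, 5, 3, 5, 3, 5, 1, 3, 0, 3], [0, 0, 2, 4, 2, 5, 2, 0, 0, 5, 2, 4, 3, 3], [0, 3, 4, 4, 3, 5, 0, 5, 0, 5, 1, 4, 4, 3], [0, 0, 0, 0, 5, 1, 3, 3, 3, 1, 2, 2, 5, 2], [0, 2, 4, 3, 0, 5, 5, 0, 2, 4, 3, 0, 5, 5], [0, 0, 2, 0, 3, 0, 2, 2, 1, 2, 0, 2, 1, 2], [0, 2, 1, 2, 0, 2, 2, 2, 1, 3, 3, 3, 1, 3], [0, 2, 2, 5, 6, 6, 2, 7, 7, 3,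 3, 5, 7, 2], [0, 3, 0, 3, 4, 1, 3, 3, 4, 4, 1, 5, 2, 2], [0, 2, 4, 2, 4, 2, 0, 5, 0, 5, 0, 5, 0, 5], [0, 0, 2, 0, 2, 2, 0, 3, 0, 0, 2, 2, 1, 3], [0, 0, 2, 0, 5, 3, 7, 7, 0, 2, 4, 6, 5, 2], [0, 0, 4, 3, 4, 3, 0, 4, 0, 3, 4, 0, 2, 2], [0, 3, 5, 1, 4, 2, 5, 1, 5, 1, 3, 4, 2, 4], [0, 2, 4, 1, 3, 4, 1, 5, 2, 5, 5, 3, 1, 3], [0, 2, 4, 2, 0, 5, 3, 5, 3, 1, 3, 5, 1, 2], [0, 2, 4, 1, 4, 2, 4, 2, 1, 2, 0, 2, 4, 2], [0, 0, 2, 2, 0, 2, 2, 0, 3, 3, 3, 0, 3, 3], [0, 0, 2, 0, 0, 3, 6, 0, 0, 2, 0, 0, 3, 6], [0, 2, 4, 1, 4, 2, 4, 2, 1, 2, 0, 5, 3, 5], [0, 0, 4, 0, 5, 0, 5, 6, 3, 0, 3, 6, 0, 4], [0, 0, 0, 4, 4, 4, 0, 4, 0, 5, 1, 4, 1, 3], [0, 4, 3, 6, 5, 2, 5, 5, 6, 6, 3, 3, 4, 6], [0, 3, 4, 3,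 4, 2, 5, 5, 1, 3, 4, 1, 5, 5], [0, 2, 0, 7, 5, 7, 3, 4, 6, 0, 3, 5, 2, 5], [0, 2, 2, 0, 2, 4, 0, 2, 2, 1, 3, 5, 1, 3], [0, 0, 0, 3, 4, 3, 3, 0, 3, 3, 3, 3, 0, 4], [0, 0, 3, 4, 1, 5, 5, 5, 3, 3, 3, 0, 0, 5], [0, 2, 0, 2, 4, 3, 5, 3, 0, 4, 0, 5, 1, 5], [0, 2, 2, 1, 5, 2, 5, 0, 3, 3, 4, 3, 0, 4], [0, 3, 3, 4, 2, 1, 6, 1, 5, 5, 3, 7, 1, 3], [0, 0, 0, 2, 5, 0, 0, 4, 0, 4, 1, 5, 1, 2], [0, 0, 2, 5, 5, 0, 3, 6, 2, 5, 5, 2, 1, 6], [0, 2, 4, 3, 1, 4, 1, 2, 7, 2, 1, 2, 7, 2], [0, 3, 4, 3, 7, 3, 0, 5, 3, 6, 6, 4, 2, 4], [0, 0, 0, 5, 5, 2, 1, 3, 5, 1, 3, 4, 0, 4], [0, 0, 5, 1, 4, 1, 4, 2, 1, 4, 0, 5, 3, 3], [0, 0, 5, 3, 3, 5, 2, 2, 4, 3, 4, 0, 4, 2], [0, 0, 5, 0, 5, 0, 2, 5, 5, 2, 1, 2, 5,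 5], [0, 3, 4, 3, 7, 3, 0, 5, 3, 6, 6, 3, 5, 3], [0, 2, 1, 2, 5, 2, 2, 0, 2, 1, 2, 5, 2, 2], [0, 0, 2, 2, 2, 2, 5, 5, 2, 2, 4, 0, 5, 3], [0, 0, 2, 2, 2, 0, 3, 0, 2, 0, 0, 3, 0, 3], [0, 2, 0, 5, 5, 1, 2, 1, 5, 2, 4, 0, 2, 5], [0, 4, 3, 4, 2, 5, 1, 3, 3, 3, 3, 4, 2, 5], [0, 0, 5, 7, 1, 1, 5, 7, 7, 5, 1, 7, 5, 2], [0, 2, 2, 2, 6, 3, 1, 6, 1, 3, 0, 5, 1, 5], [0, 0, 3, 5, 2, 2, 4, 1, 2, 0, 5, 3, 4, 2], [0, 0, 0, 5, 5, 1, 2, 5, 3, 4, 3, 4, 2, 5], [0, 0, 2, 5, 3, 1, 2, 0, 3, 5, 0, 4, 4, 2], [0, 4, 2, 4, 1, 3, 4, 4, 3, 4, 1, 3, 4, 3], [0, 4, 4, 0, 5, 5, 5, 0, 4, 4, 0, 5, 5, 5], [0, 4, 0, 4, 1, 3, 4, 1, 4, 1, 4, 1, 5, 3], [0, 2, 4, 2, 1, 2, 5, 2, 0, 5, 2, 5, 5, 2], [0, 4, 6, 6, 3, 4, 7,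 7, 4, 2, 7, 7, 5, 2], [0, 0, 5, 2, 4, 3, 3, 0, 0, 5, 3, 5, 5, 2], [0, 0, 0, 0, 4, 2, 0, 2, 1, 1, 4, 3, 5, 3], [0, 3, 7, 0, 5, 7, 7, 3, 4, 2, 2, 6, 1, 3], [0, 3, 0, 3, 0, 3, 0, 3, 0, 3, 0, 3, 0, 3], [0, 0, 5, 2, 5, 5, 2, 4, 1, 3, 3, 4, 1, 2], [0, 0, 7, 2, 2, 2, 6, 5, 5, 7, 3, 3, 6, 2], [0, 2, 1, 2, 2, 0, 2, 2, 2, 0, 3, 3, 1, 2], [0, 0, 0, 3, 1, 1, 6, 1, 6, 3, 6, 0, 3, 6], [0, 0, 0, 3, 3, 3, 1, 3, 1, 1, 2, 2, 1, 2], [0, 3, 4, 2, 2, 7, 1, 6, 2, 1, 2, 6, 4, 2], [8, 8, 8, 8, 8, 8, 8, 8, 8, 8, 8], [6, 8, 6, 8, 6, 8, 6, 8, 6, 8, 6, 3, 1, 1, 3, 1, 3, 1, 4, 4, 3, 4, 7, 9, 7, 9, 7, 9, 7, 9, 7, 9, 7, 8, 6, 8, 6, 8, 6, 8, 6, 8, 6, 8, 6, 5, 2, 5, 5, 0, 2, 0, 2, 0, 0, 2, 7, 9, 7, 9, 7, 9, 7,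 9, 7, 9, 7, 9, 9, 9], [9, 6, 3, 0, 3, 1, 8, 7, 2, 0, 3, 0, 5, 1, 4, 4, 3], [9, 6, 5, 5, 6, 6, 8, 6, 6, 2, 1, 1, 6, 3, 4, 0, 6], [9, 0, 2, 1, 2, 7, 8, 2, 5, 5, 0, 4, 1, 2, 1, 3, 6], [9, 7, 7, 4, 4, 7, 8, 7, 1, 5, 2, 7, 0, 0, 3, 7, 7], [9, 0, 6, 3, 0, 0, 0, 8, 5, 0, 7, 0, 7, 4, 1, 6, 5, 7, 7], [9, 7, 5, 7, 3, 3, 0, 8, 7, 0, 0, 4, 6, 2, 0, 7, 2, 6], [9, 5, 3, 4, 6, 3, 0, 8, 3, 4, 1, 1, 6, 3, 0, 6, 3, 1, 5], [9, 0, 6, 5, 0, 5, 0, 8, 7, 5, 1, 5, 5, 6, 5, 7, 0, 0], [9, 4, 6, 2, 0, 4, 1, 8, 0, 5, 5, 0, 5, 7, 4, 4, 2, 5, 1], [9, 0, 6, 5, 3, 4, 1, 8, 6, 1, 2, 0, 4, 1, 7, 1, 2, 5, 5], [9, 4, 6, 4, 0, 5, 1, 8, 3, 3, 7, 0, 3, 0, 2, 0, 4, 3, 3], [9, 1, 1, 1, 2, 7, 1, 8, 6, 6, 4, 7, 0, 5, 6,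 1, 6, 1, 4], [9, 5, 0, 7, 3, 7, 1, 8, 0, 0, 2, 1, 4, 3, 0, 6, 5, 0], [9, 1, 4, 1, 4, 7, 1, 8, 1, 1, 6, 4, 7, 4, 4, 0, 4, 6], [9, 0, 5, 2, 4, 7, 1, 8, 4, 4, 3, 0, 6, 0, 5, 1, 3, 0, 7], [9, 4, 4, 7, 7, 4, 2, 8, 5, 3, 4, 2, 0, 5, 7, 0, 6, 2, 5, 5], [9, 4, 1, 3, 4, 6, 2, 8, 4, 6, 6, 2, 5, 7, 2, 4, 3, 6], [9, 6, 5, 3, 4, 7, 2, 8, 1, 2, 5, 0, 7, 7, 4, 4, 2, 0, 4], [9, 2, 2, 0, 7, 0, 3, 8, 2, 6, 4, 2, 0, 0, 0, 6, 3, 3, 6], [9, 2, 1, 6, 1, 3, 3, 8, 0, 0, 0, 4, 3, 1, 6, 6, 3, 1, 6], [9, 6, 2, 0, 3, 0, 4, 8, 7, 0, 0, 5, 2, 5, 0, 4, 0, 0], [9, 6, 5, 2, 5, 1, 4, 8, 7, 4, 3, 5, 5, 0, 4, 3, 3, 1, 2], [9, 0, 6, 2, 6, 1, 4, 8, 1, 4, 7, 1, 2, 5, 0, 3, 1, 1], [9, 1, 2, 7, 5, 2, 4, 8, 7, 2, 7, 0,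 4, 1, 3, 5, 7, 7, 1], [9, 6, 4, 7, 0, 0, 5, 8, 1, 5, 5, 6, 5, 3, 1, 3, 7, 4], [9, 3, 7, 5, 2, 0, 5, 8, 7, 2, 5, 3, 6, 4, 3, 7, 7, 5], [9, 4, 7, 5, 3, 0, 5, 8, 2, 2, 1, 2, 2, 7, 2, 6, 0, 0, 6], [9, 6, 6, 5, 5, 2, 5, 8, 7, 7, 7, 7, 5, 3, 1, 5, 0, 3], [9, 3, 5, 6, 6, 5, 5, 8, 3, 4, 3, 6, 0, 5, 6, 0, 7, 0, 4, 4], [9, 4, 1, 2, 4, 6, 5, 8, 2, 5, 3, 3, 4, 7, 1, 5, 2, 1, 5], [9, 0, 5, 1, 3, 7, 5, 8, 4, 2, 6, 1, 7, 7, 0, 5, 3, 4, 1], [9, 0, 4, 1, 5, 7, 5, 8, 5, 5, 6, 0, 3, 1, 3, 5, 7, 1, 2], [9, 1, 2, 2, 6, 4, 6, 8, 7, 3, 6, 1, 3, 7, 5, 1, 1, 6], [9, 5, 1, 2, 1, 3, 7, 8, 0, 7, 4, 0, 7, 1, 7, 3, 6, 2], [9, 3, 6, 5, 2, 4, 7, 8, 5, 1, 3, 5, 5, 6, 6, 1, 4, 3, 0], [9, 5, 0, 4, 3, 4, 7, 8, 3,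 0, 2, 2, 5, 1, 4, 4, 2, 5, 6], [9, 4, 1, 1, 6, 5, 7, 8, 5, 6, 2, 0, 2, 4, 7, 4, 4, 0], [9, 4, 3, 4, 4, 7, 7, 8, 2, 1, 4, 0, 2, 4, 6, 6, 6, 6], [9, 6, 5, 1, 5, 3, 0, 0, 8, 7, 0, 4, 0, 5, 0, 2, 2, 4], [9, 0, 0, 6, 1, 5, 0, 0, 8, 7, 0, 2, 2, 5, 2, 0, 4, 7, 2, 2], [9, 2, 2, 0, 4, 7, 0, 0, 8, 7, 1, 1, 6, 5, 1, 3, 3, 6], [9, 2, 0, 3, 5, 7, 0, 0, 8, 3, 3, 6, 1, 4, 7, 1, 1, 4, 1, 5], [9, 2, 0, 7, 5, 0, 2, 0, 8, 0, 5, 2, 2, 7, 2, 0, 5, 1], [9, 3, 5, 0, 6, 5, 2, 0, 8, 5, 2, 2, 0, 7, 1, 3, 7, 4, 1, 2], [9, 3, 6, 4, 4, 7, 2, 0, 8, 0, 6, 0, 0, 6, 5, 5, 0, 2, 2, 6], [9, 7, 2, 7, 1, 3, 3, 0, 8, 3, 1, 5, 0, 5, 3, 4, 4, 6, 5, 5], [9, 1, 4, 6, 4, 3, 3, 0, 8, 7, 5, 0, 7, 2, 4, 3, 4, 0, 0], [9, 6,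 4, 2, 1, 4, 3, 0, 8, 0, 4, 2, 0, 0, 7, 5, 7, 2, 7, 7], [9, 0, 5, 1, 5, 6, 3, 0, 8, 7, 5, 5, 1, 3, 0, 3, 5, 2, 5], [9, 4, 6, 2, 5, 6, 3, 0, 8, 4, 6, 0, 5, 5, 0, 4, 1, 4, 2], [9, 6, 6, 6, 6, 6, 3, 0, 8, 2, 4, 4, 2, 7, 3, 6, 1, 1, 2, 0], [9, 5, 3, 7, 5, 7, 3, 0, 8, 1, 6, 1, 3, 7, 3, 1, 7, 7, 2], [9, 7, 3, 5, 0, 7, 4, 0, 8, 1, 7, 0, 0, 7, 1, 3, 0, 5, 2, 7], [9, 0, 7, 0, 6, 0, 5, 0, 8, 7, 4, 7, 3, 5, 0, 6, 4, 3, 6, 5], [9, 5, 6, 3, 6, 0, 5, 0, 8, 4, 4, 1, 1, 1, 2, 7, 4, 4, 6, 2], [9, 4, 4, 7, 7, 1, 5, 0, 8, 6, 4, 3, 4, 7, 3, 1, 5, 0], [9, 6, 1, 1, 4, 2, 5, 0, 8, 7, 5, 0, 5, 0, 0, 2, 4, 0, 5], [9, 6, 5, 0, 5, 2, 5, 0, 8, 7, 2, 0, 3, 5, 5, 3, 1, 1, 1], [9, 3, 4, 4, 7, 2, 5, 0, 8, 2, 4,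 2, 5, 7, 1, 7, 2, 1, 4], [9, 7, 3, 4, 7, 3, 5, 0, 8, 4, 0, 6, 5, 0, 3, 6, 5], [9, 2, 4, 4, 7, 5, 5, 0, 8, 4, 6, 2, 4, 1, 7, 0, 6, 5, 7], [9, 3, 3, 4, 0, 6, 5, 0, 8, 7, 3, 5, 5, 6, 3, 6, 5, 2, 1], [9, 4, 3, 6, 2, 6, 5, 0, 8, 2, 6, 0, 6, 6, 3, 1, 6, 3, 3], [9, 4, 3, 4, 3, 6, 5, 0, 8, 5, 0, 2, 0, 7, 2, 6, 6, 0, 5], [9, 6, 6, 5, 3, 6, 5, 0, 8, 2, 2, 7, 7, 1, 3, 0, 2, 7, 4], [9, 0, 3, 1, 1, 7, 5, 0, 8, 7, 4, 7, 2, 0, 0, 3, 7, 5, 6, 0, 5], [9, 1, 2, 2, 5, 7, 5, 0, 8, 3, 5, 1, 3, 6, 0, 3, 0, 0, 0], [9, 7, 5, 2, 4, 1, 6, 0, 8, 0, 6, 2, 0, 7, 5, 1, 2, 1, 5, 5], [9, 0, 0, 2, 6, 3, 6, 0, 8, 1, 6, 6, 2, 5, 1, 2, 7, 0, 4, 3], [9, 2, 4, 3, 6, 3, 6, 0, 8, 3, 1, 6, 6, 3, 3, 4, 6, 3, 3, 6], [9,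 6, 5, 6, 6, 1, 7, 0, 8, 0, 0, 4, 7, 1, 1, 2, 2, 1], [9, 4, 2, 1, 7, 1, 7, 0, 8, 1, 5, 3, 6, 2, 5, 6, 0, 3, 6, 3], [9, 5, 2, 5, 7, 1, 7, 0, 8, 4, 7, 0, 5, 2, 7, 7, 4, 6, 2], [9, 7, 7, 1, 1, 2, 1, 1, 8, 0, 2, 4, 0, 7, 7, 7, 3, 0], [9, 6, 5, 2, 6, 3, 1, 1, 8, 5, 3, 6, 6, 4, 3, 7, 2, 5, 5, 7], [9, 1, 7, 2, 7, 3, 1, 1, 8, 1, 6, 4, 1, 1, 1, 4, 7, 1, 1, 2], [9, 5, 1, 6, 2, 4, 1, 1, 8, 2, 1, 4, 0, 5, 5, 1, 7, 2, 2, 5], [9, 6, 5, 0, 7, 4, 1, 1, 8, 7, 0, 3, 1, 1, 2, 5, 0, 7, 0, 3], [9, 3, 3, 6, 1, 5, 1, 1, 8, 1, 5, 3, 6, 5, 1, 3, 5, 5, 1], [9, 1, 1, 4, 0, 7, 1, 1, 8, 3, 3, 6, 5, 1, 3, 4, 3, 3, 1, 6], [9, 6, 2, 0, 2, 7, 1, 1, 8, 5, 2, 6, 5, 1, 4, 3, 3, 3, 6], [9, 6, 1, 3, 4, 7, 1, 1, 8, 0,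 5, 7, 2, 4, 3, 3, 3, 5, 1], [9, 2, 5, 2, 5, 7, 1, 1, 8, 0, 6, 6, 0, 3, 6, 1, 6, 1, 4, 7], [9, 1, 4, 6, 0, 0, 2, 1, 8, 6, 3, 0, 3, 0, 2, 6, 1, 2, 4, 7, 3], [9, 2, 5, 7, 7, 2, 2, 1, 8, 2, 0, 2, 5, 2, 0, 6, 6, 3, 1, 5], [9, 7, 2, 7, 2, 4, 2, 1, 8, 4, 6, 3, 5, 2, 1, 4, 2, 6, 5], [9, 4, 7, 7, 2, 0, 3, 1, 8, 2, 6, 4, 1, 2, 4, 6, 3, 1], [9, 6, 2, 5, 7, 5, 3, 1, 8, 6, 5, 2, 1, 3, 5, 0, 0, 4, 4], [9, 3, 6, 5, 0, 0, 4, 1, 8, 6, 1, 6, 2, 4, 1, 5, 6, 1, 2, 2], [9, 1, 2, 7, 4, 0, 4, 1, 8, 4, 3, 4, 2, 1, 2, 0, 4, 4, 6], [9, 7, 2, 7, 3, 3, 4, 1, 8, 2, 0, 5, 0, 3, 1, 5, 7, 7, 5, 3], [9, 0, 7, 0, 6, 3, 4, 1, 8, 6, 3, 1, 5, 7, 7, 5, 6, 1, 3], [9, 2, 2, 7, 4, 6, 4, 1, 8, 2, 1, 1, 2, 1, 6, 2, 0, 6,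 1, 5], [9, 6, 3, 0, 5, 0, 5, 1, 8, 5, 1, 3, 0, 4, 1, 1, 2, 5, 7, 5], [9, 2, 0, 7, 7, 2, 5, 1, 8, 3, 1, 6, 0, 5, 3, 0, 5, 1, 6, 5], [9, 2, 5, 7, 1, 6, 5, 1, 8, 6, 1, 2, 1, 1, 6, 5, 0, 6, 2, 7], [9, 6, 1, 6, 4, 6, 5, 1, 8, 4, 2, 1, 2, 0, 4, 6, 5, 5, 2], [9, 5, 6, 1, 3, 7, 5, 1, 8, 4, 1, 5, 3, 6, 1, 1, 7, 3, 7, 2], [9, 0, 7, 4, 3, 7, 5, 1, 8, 3, 0, 7, 1, 1, 2, 2, 4, 7, 5, 0], [9, 1, 4, 1, 7, 1, 6, 1, 8, 7, 3, 6, 1, 7, 5, 6, 6, 5, 6, 2], [9, 0, 5, 2, 7, 1, 6, 1, 8, 2, 0, 7, 4, 6, 6, 4, 0, 2, 7], [9, 0, 6, 5, 7, 1, 6, 1, 8, 1, 3, 4, 7, 1, 5, 1, 1, 2, 4], [9, 0, 4, 6, 2, 5, 6, 1, 8, 2, 5, 1, 1, 3, 4, 7, 2, 7, 1, 2], [9, 2, 2, 6, 4, 1, 7, 1, 8, 3, 0, 3, 6, 1, 4, 2, 5, 2, 1], [9, 4, 1,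 2, 5, 3, 7, 1, 8, 7, 0, 5, 0, 4, 0, 7, 0, 3, 6, 1], [9, 4, 7, 5, 5, 3, 7, 1, 8, 2, 0, 7, 2, 7, 7, 0, 0, 6, 2, 6], [9, 3, 5, 1, 1, 4, 7, 1, 8, 2, 0, 3, 1, 7, 3, 1, 6, 5, 0, 4], [9, 3, 1, 3, 3, 4, 7, 1, 8, 4, 3, 6, 3, 6, 0, 4, 0, 3, 3], [9, 0, 7, 0, 6, 4, 7, 1, 8, 5, 3, 0, 0, 4, 0, 6, 5, 2, 0], [9, 5, 0, 7, 3, 0, 0, 2, 8, 7, 4, 3, 1, 2, 0, 5, 6, 0, 3, 0], [9, 4, 7, 1, 1, 2, 0, 2, 8, 3, 4, 4, 0, 3, 4, 6, 4, 6, 6, 1], [9, 0, 6, 5, 2, 2, 0, 2, 8, 2, 2, 1, 5, 1, 7, 2, 7, 2, 5], [9, 6, 6, 3, 5, 5, 0, 2, 8, 2, 1, 1, 1, 7, 7, 3, 1, 5, 7, 5], [9, 4, 6, 0, 2, 1, 1, 2, 8, 2, 7, 0, 2, 0, 6, 5, 5, 1, 3, 0, 7], [9, 4, 7, 7, 3, 1, 1, 2, 8, 1, 1, 6, 6, 1, 2, 5, 2, 2, 0], [9, 4, 7, 4, 0, 4, 1, 2,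 8, 0, 2, 1, 1, 6, 6, 2, 6, 4, 1], [9, 5, 2, 7, 1, 5, 1, 2, 8, 1, 5, 5, 0, 4, 1, 1, 3, 6, 2, 1], [9, 6, 2, 1, 5, 7, 1, 2, 8, 4, 4, 2, 6, 0, 0, 6, 0, 7, 4, 1, 1], [9, 6, 0, 2, 0, 2, 2, 2, 8, 7, 3, 0, 0, 4, 0, 3, 1, 4, 2], [9, 3, 7, 1, 3, 4, 2, 2, 8, 1, 4, 6, 3, 0, 3, 4, 2, 7, 5, 6], [9, 1, 4, 7, 1, 5, 2, 2, 8, 0, 3, 4, 7, 2, 7, 4, 4, 2, 6], [9, 7, 7, 0, 2, 5, 2, 2, 8, 1, 1, 1, 2, 7, 5, 6, 1, 5, 7, 7], [9, 0, 0, 4, 0, 7, 2, 2, 8, 5, 7, 0, 2, 6, 6, 3, 4, 4, 0], [9, 5, 3, 3, 4, 7, 2, 2, 8, 2, 6, 4, 4, 7, 2, 6, 2, 2, 2, 6], [9, 0, 6, 5, 0, 0, 4, 2, 8, 1, 7, 7, 1, 1, 5, 7, 3, 3, 4, 6], [9, 2, 1, 2, 7, 1, 4, 2, 8, 1, 1, 6, 0, 0, 7, 1, 3, 5, 7, 4], [9, 1, 3, 4, 7, 1, 4, 2, 8, 3, 0, 0, 6,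 2, 7, 7, 0, 2, 0, 4], [9, 6, 4, 2, 1, 3, 4, 2, 8, 7, 1, 5, 3, 4, 3, 0, 2, 0, 4], [9, 6, 3, 4, 1, 1, 5, 2, 8, 7, 4, 3, 4, 1, 5, 2, 1, 5, 5], [9, 6, 6, 4, 1, 2, 5, 2, 8, 3, 3, 4, 0, 6, 3, 1, 1, 3, 3], [9, 3, 6, 1, 2, 2, 5, 2, 8, 2, 2, 0, 6, 0, 4, 2, 5, 0], [9, 3, 6, 2, 4, 2, 5, 2, 8, 0, 3, 7, 5, 2, 2, 0, 2, 1, 5], [9, 1, 4, 3, 6, 5, 5, 2, 8, 5, 0, 3, 6, 0, 6, 4, 3, 5, 3], [9, 3, 3, 5, 2, 0, 6, 2, 8, 7, 4, 6, 3, 5, 2, 1, 2, 7, 5, 0], [9, 6, 5, 3, 1, 2, 6, 2, 8, 0, 7, 4, 6, 3, 7, 7, 5, 5, 6, 4], [9, 7, 1, 2, 6, 2, 6, 2, 8, 1, 1, 6, 0, 2, 2, 0, 2, 1, 6, 1], [9, 6, 4, 7, 3, 3, 6, 2, 8, 1, 3, 3, 3, 6, 0, 0, 3, 4, 0], [9, 7, 4, 7, 3, 4, 6, 2, 8, 6, 5, 0, 4, 3, 0, 6, 4, 1, 4, 7], [9, 7,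 2, 2, 5, 6, 6, 2, 8, 6, 6, 6, 5, 3, 3, 1, 6, 5, 6], [9, 3, 4, 3, 3, 0, 7, 2, 8, 1, 4, 3, 5, 1, 7, 1, 3, 3], [9, 2, 6, 5, 7, 0, 7, 2, 8, 6, 5, 3, 1, 3, 3, 7, 1, 4, 3, 5], [9, 6, 6, 3, 4, 1, 7, 2, 8, 1, 7, 4, 0, 3, 0, 7, 1, 7, 2, 5], [9, 2, 2, 6, 5, 1, 7, 2, 8, 2, 2, 5, 5, 3, 7, 4, 6, 6, 5, 7], [9, 3, 4, 3, 5, 3, 7, 2, 8, 4, 0, 3, 1, 3, 3, 4, 6, 2, 1], [9, 6, 0, 5, 5, 3, 7, 2, 8, 0, 2, 5, 0, 0, 6, 6, 0, 5], [9, 0, 5, 1, 1, 4, 7, 2, 8, 7, 3, 7, 1, 5, 6, 5, 2, 5, 0, 4], [9, 4, 1, 2, 1, 5, 7, 2, 8, 7, 5, 5, 1, 5, 3, 4, 6, 3, 0, 7], [9, 4, 7, 5, 1, 5, 7, 2, 8, 2, 6, 0, 4, 6, 6, 2, 4, 2, 2, 0], [9, 1, 3, 6, 5, 5, 7, 2, 8, 7, 3, 3, 1, 4, 4, 7, 1, 1, 7, 1], [9, 3, 5, 0, 6, 3, 0, 3, 8, 0,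 5, 5, 1, 5, 2, 1, 3, 1, 4, 6], [9, 6, 2, 6, 3, 7, 0, 3, 8, 1, 4, 7, 2, 0, 0, 0, 2, 1], [9, 7, 2, 7, 7, 1, 1, 3, 8, 0, 6, 0, 2, 2, 4, 0, 0, 7, 2, 4], [9, 5, 0, 7, 0, 2, 1, 3, 8, 5, 1, 6, 0, 3, 4, 2, 5, 1, 2, 1], [9, 1, 1, 6, 4, 2, 1, 3, 8, 4, 0, 5, 0, 0, 6, 5, 0, 7, 2, 2], [9, 6, 0, 0, 5, 2, 1, 3, 8, 7, 3, 0, 4, 1, 4, 3, 4, 3], [9, 7, 7, 2, 1, 3, 1, 3, 8, 2, 2, 1, 1, 5, 3, 6, 0, 4, 4, 2], [9, 7, 2, 7, 4, 4, 1, 3, 8, 3, 6, 0, 6, 6, 5, 1, 1, 5, 6], [9, 1, 3, 1, 4, 6, 1, 3, 8, 0, 4, 1, 3, 6, 3, 3, 4, 1], [9, 0, 4, 3, 6, 6, 1, 3, 8, 6, 0, 2, 1, 1, 6, 6, 0, 2, 1, 6], [9, 1, 1, 6, 5, 1, 3, 3, 8, 7, 2, 2, 0, 4, 7, 0, 0, 6], [9, 5, 0, 7, 3, 4, 3, 3, 8, 1, 3, 7, 7, 1, 6, 6, 4, 6, 0], [9,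 0, 5, 7, 5, 6, 3, 3, 8, 4, 0, 7, 1, 3, 7, 0, 3, 0, 0, 3], [9, 3, 6, 0, 4, 7, 3, 3, 8, 6, 4, 7, 7, 5, 6, 2, 4, 4, 3, 3], [9, 0, 6, 0, 5, 7, 3, 3, 8, 0, 3, 4, 3, 5, 0, 7, 2, 1, 2], [9, 7, 1, 2, 7, 2, 4, 3, 8, 1, 4, 7, 0, 4, 1, 6, 1, 4], [9, 6, 0, 3, 1, 3, 4, 3, 8, 7, 4, 0, 0, 5, 3, 0, 3, 1, 5, 0], [9, 0, 0, 6, 4, 3, 4, 3, 8, 0, 5, 6, 3, 5, 2, 0, 2, 4, 1, 2], [9, 0, 4, 7, 0, 6, 4, 3, 8, 0, 0, 5, 1, 3, 5, 7, 7, 3, 6, 0], [9, 0, 3, 3, 6, 6, 4, 3, 8, 4, 0, 2, 7, 7, 1, 3, 4, 3, 1, 3], [9, 2, 6, 5, 5, 7, 4, 3, 8, 1, 4, 2, 2, 6, 4, 2, 5, 3, 1, 1], [9, 5, 2, 2, 7, 7, 4, 3, 8, 7, 1, 5, 1, 7, 1, 1, 5, 1, 4, 6], [9, 6, 5, 2, 6, 2, 5, 3, 8, 7, 4, 6, 1, 3, 6, 3, 4, 7, 1], [9, 5, 0, 4, 6, 2, 5,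 3, 8, 5, 2, 1, 3, 4, 2, 6, 4, 7, 0, 0], [9, 1, 7, 2, 7, 2, 5, 3, 8, 7, 2, 2, 7, 5, 2, 2, 7, 7, 0, 2], [9, 1, 4, 4, 6, 5, 5, 3, 8, 6, 4, 7, 1, 6, 0, 5, 3, 7, 5], [9, 4, 6, 6, 0, 6, 5, 3, 8, 2, 7, 7, 0, 2, 0, 5, 0, 4, 7], [9, 4, 6, 3, 6, 6, 5, 3, 8, 5, 2, 2, 1, 2, 6, 5, 5, 1, 6], [9, 4, 0, 7, 4, 7, 5, 3, 8, 3, 0, 3, 4, 3, 5, 1, 5, 6, 6, 6], [9, 5, 5, 7, 4, 7, 5, 3, 8, 5, 6, 4, 1, 6, 0, 3, 6, 2, 0], [9, 6, 1, 7, 0, 2, 6, 3, 8, 0, 6, 4, 0, 2, 7, 5, 2, 4, 1, 3], [9, 6, 6, 6, 2, 6, 6, 3, 8, 6, 6, 3, 4, 2, 5, 6, 4, 1, 5], [9, 4, 0, 3, 7, 1, 7, 3, 8, 2, 5, 2, 0, 0, 5, 7, 7, 5, 2, 5], [9, 5, 5, 3, 7, 1, 7, 3, 8, 7, 7, 3, 6, 5, 6, 2, 7, 5, 7, 4], [9, 2, 5, 6, 4, 4, 7, 3, 8, 3, 0, 6, 0, 2,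 7, 0, 5, 0, 7, 3], [9, 3, 6, 1, 6, 4, 7, 3, 8, 4, 2, 5, 0, 6, 2, 2, 0, 2, 4, 7], [9, 6, 2, 4, 0, 0, 0, 4, 8, 5, 3, 4, 0, 5, 3, 6, 0, 0, 4], [9, 4, 3, 0, 6, 0, 0, 4, 8, 4, 7, 0, 2, 0, 0, 7, 1, 4, 3, 5], [9, 0, 0, 5, 3, 7, 0, 4, 8, 0, 0, 7, 0, 0, 5, 5, 6, 2, 4, 7], [9, 7, 1, 6, 4, 2, 1, 4, 8, 7, 7, 3, 1, 1, 7, 0, 7, 7, 4, 4], [9, 6, 0, 4, 7, 4, 1, 4, 8, 2, 7, 7, 3, 5, 3, 0, 7, 4, 3, 7], [9, 7, 7, 4, 2, 5, 1, 4, 8, 1, 2, 0, 0, 0, 5, 5, 3, 6, 5, 0, 4], [9, 6, 2, 1, 6, 5, 1, 4, 8, 0, 0, 4, 0, 3, 4, 1, 6, 0, 5, 5], [9, 2, 4, 3, 7, 5, 1, 4, 8, 1, 1, 6, 5, 7, 3, 5, 2, 0, 3, 4], [9, 2, 0, 3, 1, 6, 1, 4, 8, 6, 5, 6, 1, 3, 1, 2, 2, 7, 0, 6], [9, 3, 1, 1, 2, 6, 1, 4, 8, 2, 6, 4, 0, 2, 0, 0,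 3, 1, 5, 5], [9, 2, 2, 5, 2, 6, 1, 4, 8, 1, 7, 5, 7, 7, 0, 6, 6, 2, 0], [9, 7, 7, 3, 4, 0, 2, 4, 8, 7, 5, 3, 1, 5, 2, 6, 6, 6], [9, 5, 5, 0, 6, 0, 2, 4, 8, 5, 5, 7, 3, 4, 0, 5, 2, 7, 2, 2], [9, 4, 7, 0, 2, 2, 2, 4, 8, 2, 2, 2, 7, 4, 6, 2, 5, 6, 2], [9, 3, 3, 6, 5, 2, 2, 4, 8, 7, 3, 3, 3, 7, 3, 6, 5, 5, 7, 3], [9, 6, 5, 1, 6, 2, 2, 4, 8, 3, 0, 5, 1, 6, 3, 5, 5, 3, 4, 1], [9, 6, 6, 6, 6, 5, 2, 4, 8, 5, 6, 6, 0, 6, 3, 1, 5, 5, 3, 7], [9, 1, 2, 6, 4, 6, 2, 4, 8, 3, 6, 6, 0, 2, 6, 2, 0, 7, 0], [9, 7, 0, 3, 5, 7, 2, 4, 8, 6, 4, 3, 1, 4, 4, 2, 0, 4, 2], [9, 6, 2, 6, 5, 1, 3, 4, 8, 2, 1, 2, 2, 6, 2, 1, 2, 6, 1, 3], [9, 6, 2, 0, 0, 3, 3, 4, 8, 7, 5, 2, 5, 5, 2, 5, 2, 4, 4], [9, 2, 5, 6,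 6, 3, 3, 4, 8, 7, 5, 0, 4, 0, 0, 6, 0, 4, 0, 6], [9, 1, 6, 0, 6, 4, 3, 4, 8, 3, 7, 5, 6, 6, 3, 4, 1, 6, 5], [9, 7, 3, 1, 6, 4, 3, 4, 8, 3, 5, 0, 4, 7, 1, 6, 6, 5], [9, 3, 0, 4, 0, 6, 3, 4, 8, 0, 3, 7, 2, 0, 0, 5, 1, 4, 4, 0], [9, 6, 0, 2, 4, 6, 3, 4, 8, 4, 6, 5, 3, 7, 2, 1, 2, 1, 5, 7], [9, 7, 4, 7, 0, 0, 4, 4, 8, 4, 3, 4, 0, 2, 7, 0, 6, 6, 0, 5], [9, 5, 3, 1, 7, 1, 4, 4, 8, 6, 5, 3, 3, 7, 0, 4, 7, 4, 2, 0], [9, 2, 6, 0, 6, 2, 4, 4, 8, 5, 6, 4, 6, 3, 7, 4, 7, 2, 6, 6], [9, 2, 4, 6, 5, 6, 4, 4, 8, 1, 3, 7, 2, 1, 7, 0, 5, 7, 4], [9, 4, 0, 7, 4, 6, 6, 4, 8, 7, 1, 7, 0, 6, 0, 5, 7, 5, 3, 0], [9, 0, 4, 6, 2, 0, 7, 4, 8, 7, 5, 2, 1, 6, 0, 0, 7, 3, 7, 5], [9, 1, 4, 1, 7, 2, 7, 4, 8, 2,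 6, 1, 2, 1, 7, 5, 2, 7, 1, 3], [9, 7, 4, 4, 0, 4, 7, 4, 8, 7, 1, 5, 3, 4, 3, 0, 4, 6, 2, 1], [9, 3, 6, 4, 0, 3, 0, 5, 8, 6, 1, 2, 7, 5, 2, 4, 0, 4, 4, 6], [9, 0, 6, 2, 4, 3, 0, 5, 8, 0, 7, 2, 1, 6, 1, 5, 1, 4, 1, 6], [9, 7, 4, 4, 6, 1, 1, 5, 8, 6, 4, 4, 2, 1, 4, 2, 5, 5, 0, 6], [9, 2, 6, 0, 6, 2, 1, 5, 8, 5, 2, 5, 0, 0, 4, 6, 4, 7, 2, 1], [9, 2, 4, 6, 5, 6, 1, 5, 8, 7, 7, 7, 4, 0, 4, 2, 5, 2, 1, 2], [9, 5, 7, 7, 5, 6, 1, 5, 8, 1, 3, 4, 0, 6, 0, 0, 7, 7, 2, 7], [9, 6, 4, 6, 0, 0, 2, 5, 8, 3, 6, 3, 1, 5, 2, 2, 7, 2, 5, 7], [9, 4, 6, 3, 1, 1, 2, 5, 8, 5, 1, 1, 5, 5, 6, 0, 3, 4, 4, 2], [9, 5, 1, 1, 7, 1, 2, 5, 8, 4, 2, 5, 0, 6, 1, 1, 3, 1, 6, 5], [9, 6, 6, 0, 0, 5, 2, 5, 8, 5, 6, 1,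 3, 4, 1, 4, 4, 6, 4], [9, 1, 4, 7, 2, 5, 2, 5, 8, 4, 1, 7, 7, 3, 6, 1, 3, 1, 4], [9, 1, 4, 7, 3, 7, 2, 5, 8, 7, 7, 5, 3, 4, 7, 0, 7, 1, 6], [9, 4, 6, 3, 4, 7, 2, 5, 8, 1, 6, 1, 4, 6, 4, 7, 2, 4, 0, 6], [9, 1, 6, 0, 6, 0, 3, 5, 8, 2, 7, 2, 1, 7, 4, 3, 7, 2, 4, 0], [9, 7, 3, 1, 6, 0, 3, 5, 8, 6, 5, 0, 3, 0, 7, 0, 6, 3, 0, 0], [9, 6, 5, 0, 4, 1, 3, 5, 8, 0, 2, 5, 1, 7, 2, 0, 5, 3, 3, 1], [9, 7, 5, 7, 4, 3, 3, 5, 8, 2, 6, 0, 0, 4, 1, 5, 7, 7, 3, 3], [9, 6, 4, 1, 5, 3, 3, 5, 8, 0, 0, 2, 6, 4, 3, 0, 5, 5], [9, 1, 4, 0, 6, 6, 5, 5, 8, 1, 4, 0, 2, 6, 5, 2, 5, 7], [9, 3, 1, 3, 0, 0, 6, 5, 8, 0, 7, 7, 5, 7, 5, 2, 1, 5, 5, 2], [9, 5, 3, 3, 3, 1, 6, 5, 8, 3, 7, 4, 3, 7, 5, 6, 3, 3, 3], [9,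 3, 6, 4, 0, 4, 6, 5, 8, 1, 3, 4, 2, 4, 7, 7, 5, 1, 7, 3], [9, 7, 4, 7, 2, 4, 6, 5, 8, 6, 4, 3, 5, 5, 6, 6, 3, 5], [9, 0, 6, 2, 4, 4, 6, 5, 8, 7, 3, 7, 1, 1, 6, 6, 3, 6, 1, 3], [9, 3, 0, 5, 1, 5, 6, 5, 8, 0, 5, 7, 3, 7, 7, 0, 0, 3, 1], [9, 3, 0, 0, 2, 6, 6, 5, 8, 1, 3, 3, 4, 3, 0, 7, 7, 0, 0], [9, 0, 2, 1, 3, 6, 6, 5, 8, 0, 2, 7, 5, 3, 0, 5, 7, 3], [9, 3, 0, 0, 3, 1, 7, 5, 8, 1, 1, 7, 7, 0, 3, 7, 2, 6, 5, 6, 4], [9, 4, 3, 0, 0, 2, 7, 5, 8, 3, 7, 2, 1, 2, 0, 0, 4, 3, 6, 2], [9, 6, 6, 6, 4, 2, 7, 5, 8, 4, 2, 7, 1, 6, 6, 1], [9, 4, 3, 6, 5, 2, 7, 5, 8, 4, 0, 3, 1, 6, 5, 2, 6, 3, 3, 0], [9, 2, 4, 7, 7, 2, 7, 5, 8, 7, 0, 4, 4, 7, 3, 0, 3, 3, 4], [9, 6, 5, 3, 0, 3, 7, 5, 8, 1, 1, 6, 6,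 6, 1, 1, 3, 7, 5, 5], [9, 1, 2, 7, 4, 3, 7, 5, 8, 3, 5, 0, 5, 1, 4, 4, 1, 7, 5], [9, 6, 3, 0, 5, 5, 7, 5, 8, 4, 6, 1, 2, 2, 7, 0, 0, 7, 0, 6], [9, 2, 4, 7, 1, 7, 7, 5, 8, 6, 5, 1, 4, 1, 3, 1, 6, 6, 3], [9, 2, 5, 3, 6, 3, 0, 6, 8, 5, 0, 7, 0, 5, 1, 6, 5, 0], [9, 3, 7, 3, 7, 3, 0, 6, 8, 0, 7, 0, 3, 1, 3, 3, 1, 7, 0, 0], [9, 5, 0, 3, 5, 7, 0, 6, 8, 6, 6, 5, 0, 2, 2, 0, 5, 7, 0, 4], [9, 5, 3, 6, 4, 2, 1, 6, 8, 3, 5, 1, 3, 5, 5, 0, 2, 5, 7], [9, 6, 5, 7, 7, 5, 1, 6, 8, 2, 6, 0, 2, 7, 4, 4, 7, 1, 1, 7], [9, 7, 4, 4, 2, 6, 1, 6, 8, 1, 6, 0, 5, 0, 2, 4, 3, 3, 6, 1, 3], [9, 4, 2, 1, 7, 0, 2, 6, 8, 6, 3, 6, 3, 3, 3, 1, 4, 0, 2, 7], [9, 5, 2, 5, 7, 0, 2, 6, 8, 4, 7, 7, 0, 6, 5, 1, 4, 2],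 [9, 1, 5, 6, 1, 4, 2, 6, 8, 6, 3, 4, 1, 2, 0, 6, 1, 1, 6, 0], [9, 1, 4, 2, 6, 5, 2, 6, 8, 4, 7, 2, 1, 4, 7, 1, 5], [9, 7, 5, 7, 1, 7, 2, 6, 8, 6, 6, 3, 0, 0, 7, 7, 1, 1, 5, 3], [9, 3, 7, 7, 4, 3, 3, 6, 8, 7, 4, 7, 0, 2, 2, 4, 7, 7, 7], [9, 1, 2, 2, 0, 6, 3, 6, 8, 3, 1, 6, 2, 5, 5, 2, 1, 7, 7, 7], [9, 7, 5, 7, 0, 6, 3, 6, 8, 4, 2, 6, 2, 0, 4, 1, 6, 2, 6, 1], [9, 0, 5, 2, 2, 6, 3, 6, 8, 2, 4, 6, 6, 4, 0, 2, 1, 4, 1, 3], [9, 0, 3, 5, 3, 6, 3, 6, 8, 4, 7, 3, 5, 0, 3, 4, 2, 7, 5], [9, 2, 0, 5, 5, 6, 3, 6, 8, 7, 4, 0, 0, 4, 7, 7, 1, 7, 2], [9, 2, 0, 0, 6, 6, 3, 6, 8, 5, 5, 0, 0, 3, 6, 5, 2, 5, 6, 6], [9, 1, 7, 0, 5, 3, 4, 6, 8, 2, 0, 2, 0, 4, 7, 1, 6, 6, 5, 5], [9, 7, 3, 6, 0, 6, 4,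 6, 8, 2, 4, 0, 0, 6, 6, 1, 1, 2, 7, 7], [9, 7, 2, 7, 1, 6, 4, 6, 8, 0, 7, 3, 7, 0, 5, 1, 3, 7, 3, 5], [9, 4, 2, 2, 5, 6, 4, 6, 8, 0, 6, 3, 3, 5, 6, 5, 1, 3, 5, 1], [9, 5, 6, 5, 1, 5, 5, 6, 8, 3, 5, 0, 2, 1, 3, 4, 4, 7, 2, 6], [9, 7, 0, 7, 3, 5, 5, 6, 8, 0, 4, 6, 2, 0, 5, 6, 6, 0, 5, 5, 1], [9, 4, 0, 0, 7, 5, 5, 6, 8, 1, 2, 2, 4, 1, 6, 1, 5, 3, 6, 4], [9, 6, 4, 7, 0, 6, 5, 6, 8, 7, 3, 0, 0, 6, 4, 3, 7, 5, 2, 4], [9, 5, 5, 1, 1, 6, 5, 6, 8, 4, 1, 7, 7, 1, 6, 3, 1, 5, 2, 5], [9, 3, 7, 5, 2, 6, 5, 6, 8, 3, 4, 3, 1, 5, 7, 2, 4, 6, 1, 6], [9, 4, 7, 5, 3, 6, 5, 6, 8, 4, 2, 7, 7, 4, 4, 2, 5, 7], [9, 0, 0, 3, 0, 0, 6, 6, 8, 1, 2, 6, 6, 6, 1, 5, 3, 1], [9, 3, 3, 4, 3, 1, 6, 6, 8, 6, 6, 4,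 0, 7, 4, 6, 3, 0, 0, 0], [9, 5, 3, 1, 5, 2, 6, 6, 8, 7, 7, 7, 3, 4, 0, 2, 4, 6], [9, 2, 0, 2, 0, 3, 6, 6, 8, 6, 4, 4, 1, 4, 2, 1, 6, 2, 5, 2], [9, 5, 0, 4, 3, 5, 6, 6, 8, 5, 3, 4, 6, 1, 7, 0, 7, 2, 7, 7, 1], [9, 1, 4, 3, 5, 0, 0, 7, 8, 4, 3, 0, 0, 3, 1, 2, 0, 3, 6], [9, 0, 0, 6, 5, 2, 0, 7, 8, 0, 4, 2, 2, 2, 5, 3, 6, 4, 1], [9, 6, 6, 1, 2, 5, 0, 7, 8, 4, 4, 0, 0, 2, 4, 3, 3, 0, 0, 7], [9, 2, 7, 3, 1, 6, 0, 7, 8, 2, 0, 5, 3, 4, 6, 3, 1, 5, 7, 1], [9, 0, 4, 7, 5, 7, 0, 7, 8, 0, 7, 1, 3, 6, 3, 4, 6, 1, 2], [9, 2, 0, 3, 4, 1, 1, 7, 8, 2, 5, 2, 5, 0, 5, 1, 2, 6], [9, 2, 5, 2, 0, 2, 1, 7, 8, 4, 0, 3, 0, 3, 3, 4, 4, 1, 2, 6], [9, 3, 3, 3, 1, 3, 1, 7, 8, 3, 5, 0, 2, 1, 5, 1, 1, 2, 6],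 [9, 5, 2, 7, 5, 3, 1, 7, 8, 5, 6, 1, 1, 1, 6, 1, 5, 3, 4, 3], [9, 3, 6, 2, 4, 4, 1, 7, 8, 4, 1, 7, 7, 1, 1, 4, 3, 1], [9, 5, 0, 5, 6, 5, 1, 7, 8, 7, 7, 0, 4, 3, 6, 4, 4, 6, 4, 1], [9, 0, 4, 1, 4, 1, 2, 7, 8, 0, 7, 3, 0, 0, 6, 1, 4, 4, 6, 0], [9, 4, 6, 4, 4, 1, 2, 7, 8, 7, 1, 6, 1, 1, 6, 3, 3, 0, 7, 5], [9, 3, 4, 0, 0, 5, 2, 7, 8, 4, 4, 0, 3, 4, 0, 5, 2, 5, 6], [9, 3, 0, 6, 4, 0, 3, 7, 8, 0, 6, 5, 5, 1, 2, 2, 0, 4, 6, 0, 7], [9, 6, 5, 2, 7, 0, 3, 7, 8, 2, 0, 7, 0, 3, 1, 3, 3, 6, 6, 2], [9, 5, 0, 4, 7, 0, 3, 7, 8, 4, 7, 7, 5, 6, 5, 6, 4, 0, 7, 0], [9, 5, 2, 2, 1, 1, 3, 7, 8, 5, 5, 3, 4, 3, 4, 4, 3, 4, 6], [9, 0, 0, 6, 3, 1, 3, 7, 8, 7, 2, 2, 2, 5, 0, 4, 7, 3, 4], [9, 0, 2, 4, 6,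 4, 3, 7, 8, 5, 5, 1, 1, 4, 2, 0, 3, 4, 7], [9, 5, 1, 1, 1, 5, 3, 7, 8, 5, 1, 1, 7, 2, 4, 1, 5, 2, 4], [9, 2, 1, 6, 2, 7, 3, 7, 8, 0, 3, 1, 1, 1, 3, 6, 5, 0], [9, 5, 2, 0, 4, 7, 3, 7, 8, 1, 6, 5, 3, 4, 0, 5, 6, 4, 3, 1], [9, 1, 1, 2, 4, 0, 4, 7, 8, 5, 3, 3, 1, 4, 1, 5, 1, 6], [9, 5, 3, 3, 7, 0, 4, 7, 8, 0, 5, 2, 4, 4, 2, 7, 0, 4, 1, 2], [9, 6, 6, 4, 3, 1, 4, 7, 8, 3, 4, 1, 4, 4, 0, 4, 0, 2, 7], [9, 1, 4, 3, 4, 1, 4, 7, 8, 0, 0, 0, 2, 4, 4, 2, 1, 3, 6], [9, 4, 2, 0, 5, 1, 4, 7, 8, 4, 7, 4, 0, 0, 2, 4, 4, 1, 3, 4], [9, 0, 0, 5, 6, 1, 4, 7, 8, 2, 1, 6, 1, 4, 3, 0, 0, 2, 1, 6], [9, 3, 7, 3, 0, 2, 4, 7, 8, 5, 7, 4, 4, 6, 6, 2, 7, 5, 6, 1], [9, 4, 6, 2, 1, 2, 4, 7, 8, 4, 4, 6, 2, 0, 0,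 7, 7, 7, 0, 0], [9, 6, 2, 1, 6, 3, 4, 7, 8, 4, 6, 5, 2, 7, 0, 4, 4, 2, 2, 1], [9, 0, 0, 2, 7, 3, 4, 7, 8, 6, 4, 4, 3, 6, 2, 5, 7, 7, 2, 4], [9, 2, 4, 3, 7, 3, 4, 7, 8, 0, 6, 5, 2, 7, 2, 0, 7, 5, 6], [9, 7, 0, 4, 6, 6, 4, 7, 8, 6, 0, 0, 6, 5, 5, 6, 3, 1, 7, 3], [9, 1, 6, 0, 7, 7, 4, 7, 8, 0, 3, 3, 0, 0, 6, 5, 1, 1], [9, 4, 2, 2, 4, 0, 5, 7, 8, 4, 4, 1, 2, 5, 7, 3, 1, 1], [9, 6, 6, 6, 3, 1, 5, 7, 8, 0, 5, 7, 1, 5, 1, 4, 3, 7, 2, 7], [9, 3, 5, 2, 0, 3, 5, 7, 8, 5, 1, 3, 1, 2, 5, 2, 4, 0, 6], [9, 1, 2, 5, 0, 3, 5, 7, 8, 2, 4, 1, 2, 4, 3, 4, 0, 3, 3, 6], [9, 7, 4, 7, 1, 6, 5, 7, 8, 0, 2, 0, 2, 4, 1, 4, 3, 0, 6, 5], [9, 3, 7, 2, 2, 6, 5, 7, 8, 1, 5, 2, 1, 1, 7, 2, 2, 2, 0], [9, 4, 3,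 1, 1, 7, 5, 7, 8, 3, 0, 4, 4, 7, 1, 4, 0, 7, 0, 4], [9, 6, 1, 4, 3, 0, 7, 7, 8, 6, 4, 3, 0, 5, 1, 1, 2, 4, 1, 2], [9, 4, 3, 4, 1, 1, 7, 7, 8, 6, 0, 0, 3, 0, 2, 2, 4, 3, 6], [9, 3, 1, 4, 4, 2, 7, 7, 8, 4, 6, 4, 0, 2, 6, 6, 0, 0, 0, 3], [9, 3, 6, 0, 5, 2, 7, 7, 8, 4, 3, 6, 0, 6, 1, 2, 1, 5, 6, 0], [9, 1, 4, 7, 2, 4, 7, 7, 8, 5, 6, 3, 1, 2, 0, 6, 6, 3, 3], [9, 3, 4, 3, 0, 5, 7, 7, 8, 2, 2, 0, 0, 2, 7, 1, 5, 2, 2], [9, 6, 5, 0, 2, 5, 7, 7, 8, 6, 3, 1, 5, 1, 5, 5, 0, 5, 2], [9, 6, 4, 0, 2, 7, 7, 7, 8, 6, 6, 0, 2, 1, 2, 5, 3, 1, 1, 4], [9, 2, 7, 7, 3, 7, 7, 7, 8, 4, 0, 5, 7, 4, 3, 5, 2, 7, 7], [9, 4, 6, 3, 5, 7, 7, 7, 8, 0, 7, 7, 0, 6, 3, 5], [9, 5, 3, 4, 7, 7, 7, 7, 8, 6, 2, 4, 4, 0,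 2, 7, 1, 7, 7, 4], [9, 1, 2, 7, 7, 7, 7, 7, 8, 1, 3, 0, 0, 7, 2, 6, 3, 5, 5, 3], [6, 9, 6, 9], [6, 6, 9, 7, 8, 8, 7, 9], [6, 6, 6, 9, 9, 7, 8, 6, 8, 7, 9, 9], [0, 8, 0, 8, 0, 8, 0, 8, 0, 8, 0, 8], [6, 6, 6, 6, 9, 7, 7, 7, 8, 6, 6, 8, 7, 7, 7, 9], [0, 7, 4, 0, 7, 4, 6, 9, 0, 7, 4, 0, 7, 4, 8, 7], [0, 5, 5, 2, 5, 2, 4, 8, 1, 4, 9, 6, 5, 0, 9, 2], [0, 0, 3, 7, 7, 9, 7, 7, 5, 5, 5, 9, 1, 5, 2, 7], [0, 2, 7, 5, 8, 5, 5, 0, 3, 9, 9, 0, 7, 0, 6, 3], [0, 1], [1, 0], [2, 3], [3, 2], [4, 5], [5, 4], [6, 7], [7, 6], [8, 9], [9, 8]]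

/-- the subgroup generator words -/
def subL : List (List ℕ) := [[0], [2], [4], [6]]

/-- the seed relators with their twists -/
def seedL : List (List ℕ × List ℤ) := [([4, 4, 4, 4, 4], []), ([2, 4, 2, 4, 2, 4], []), ([0, 0, 0, 0, 0, 0, 0], []), ([2, 2, 2, 2, 2, 2, 2], []), ([2, 4, 2, 4, 2, 5, 5, 5, 5], []), ([0, 5, 0, 5, 0, 5, 0, 5, 0, 5], []), ([0, 2, 0, 3, 0, 2, 1, 3, 0, 3], []), ([2, 5, 2, 5, 2, 5, 2, 5, 2, 5], []), ([0, 4, 0, 4, 0, 4, 0, 4, 0, 4], []), ([0, 6, 0, 6, 0, 6, 0, 6, 0, 6], []), ([6, 6, 6, 6, 6, 6, 6, 6, 6, 6, 6], []), ([2, 2, 2, 2, 2, 2, 5, 3, 5, 3, 5], []), ([0, 0, 2, 0, 0, 2, 0, 0, 2, 0, 0, 2], []), ([0, 2, 4, 1, 3, 5, 1, 2, 0, 5, 3, 5], []), ([0, 4, 4, 0, 4,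 4, 0, 4, 4, 0, 4, 4], []), ([0, 0, 3, 0, 2, 1, 3, 3, 1, 2, 1, 2], []), ([0, 2, 4, 1, 3, 5, 1, 2, 0, 2, 4, 2], []), ([0, 3, 3, 0, 5, 2, 0, 3, 3, 0, 5, 2], []), ([4, 7, 4, 7, 4, 7, 4, 7, 4, 7, 4, 7], []), ([0, 4, 0, 4, 1, 3, 0, 5, 0, 5, 5, 3], []), ([0, 4, 2, 2, 5, 3, 0, 4, 2, 2, 5, 3], []), ([0, 2, 1, 2, 0, 2, 1, 2, 0, 2, 1, 2], []), ([0, 0, 4, 0, 0, 4, 0, 0, 4, 0, 0, 4], []), ([0, 2, 0, 2, 0, 2, 0, 2, 0, 2, 0, 2], []), ([2, 2, 7, 2, 2, 7, 2, 2, 7, 2, 2, 7], []), ([0, 7, 4, 0, 7, 4, 0, 7, 4, 0, 7, 4], []), ([0, 0, 2, 2, 0, 0, 2, 2, 0, 0, 2, 2], []), ([0, 0, 0, 2, 2, 1, 1, 3, 3, 0, 0, 2], []), ([0, 0, 0, 3, 4, 3, 3, 0, 2, 2, 2, 0, 4], []), ([0, 4, 3, 4, 2, 5, 1, 2, 2, 5, 3, 5, 5],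 []), ([0, 0, 4, 3, 4, 6, 6, 6, 2, 7, 7, 2, 5], []), ([0, 0, 0, 2, 2, 5, 3, 1, 2, 5, 3, 1, 5], []), ([0, 4, 7, 2, 4, 0, 5, 7, 1, 6, 1, 6, 4], []), ([0, 0, 0, 5, 5, 0, 4, 0, 5, 1, 4, 1, 3], []), ([0, 2, 2, 1, 4, 1, 6, 3, 1, 6, 5, 3, 3], []), ([0, 2, 1, 4, 6, 4, 2, 1, 5, 7, 1, 3, 7], []), ([0, 0, 3, 3, 3, 0, 3, 1, 2, 0, 3, 0, 3], []), ([0, 0, 0, 0, 3, 1, 1, 2, 2, 0, 0, 3, 3], []), ([0, 0, 0, 5, 3, 5, 5, 0, 0, 3, 1, 3, 5], []), ([0, 0, 3, 4, 1, 4, 4, 3, 3, 3, 0, 0, 5], []), ([0, 4, 0, 4, 0, 4, 0, 4, 0, 5, 5, 5, 5], []), ([0, 0, 3, 3, 3, 5, 5, 2, 2, 4, 0, 5, 3], []), ([2, 4, 2, 4, 2, 5, 2, 4, 2, 4, 2, 5, 5], []), ([0, 2, 2, 0, 2, 4, 1, 2, 4, 0, 2, 5, 5], []), ([0, 2, 1, 7, 4, 1, 5,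 7, 5, 1, 4, 6, 4], []), ([2, 4, 4, 4, 4, 2, 5, 2, 5, 2, 5, 2, 5], []), ([0, 0, 3, 0, 3, 4, 0, 2, 2, 1, 4, 2, 4], []), ([0, 4, 3, 4, 2, 5, 1, 2, 2, 2, 4, 2, 5], []), ([0, 0, 0, 2, 4, 2, 5, 0, 0, 3, 1, 3, 5], []), ([0, 0, 3, 0, 3, 4, 0, 2, 2, 1, 3, 5, 3], []), ([0, 0, 2, 1, 3, 3, 0, 0, 3, 1, 3, 0, 2], []), ([0, 0, 3, 0, 3, 3, 1, 3, 3, 1, 2, 0, 3], []), ([0, 4, 0, 4, 1, 3, 0, 5, 0, 4, 4, 4, 3], []), ([0, 4, 4, 4, 4, 0, 5, 0, 5, 0, 5, 0, 5], []), ([0, 4, 4, 0, 4, 4, 0, 4, 4, 0, 5, 5, 5], []), ([0, 0, 0, 3, 0, 3, 0, 0, 2, 2, 1, 2, 1, 2], []), ([0, 2, 2, 0, 2, 4, 1, 2, 4, 0, 2, 4, 4, 4], []), ([0, 0, 4, 0, 4, 0, 3, 5, 3, 4, 1, 4, 1, 2], []), ([0, 3, 5, 3, 5, 3, 0, 4, 0, 4, 0, 4, 0, 4],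 []), ([0, 0, 0, 5, 3, 4, 4, 4, 0, 0, 3, 1, 3, 5], []), ([0, 2, 0, 5, 2, 1, 5, 3, 1, 3, 4, 2, 0, 4], []), ([0, 2, 1, 6, 1, 6, 3, 6, 1, 6, 2, 2, 2, 4], []), ([0, 4, 3, 3, 5, 6, 5, 5, 1, 5, 2, 6, 1, 5], []), ([0, 2, 2, 1, 5, 1, 4, 2, 0, 5, 0, 4, 0, 3], []), ([0, 4, 7, 3, 5, 0, 7, 0, 4, 7, 3, 5, 0, 7], []), ([0, 3, 0, 4, 6, 2, 1, 7, 1, 2, 4, 0, 4, 7], []), ([0, 0, 3, 3, 0, 2, 2, 2, 1, 2, 2, 2, 0, 3], []), ([0, 2, 2, 0, 6, 2, 4, 6, 4, 4, 6, 3, 6, 3], []), ([0, 2, 1, 3, 0, 3, 0, 5, 3, 5, 3, 5, 0, 3], []), ([0, 0, 3, 3, 3, 4, 4, 4, 2, 2, 4, 0, 5, 3], []), ([0, 4, 2, 2, 2, 4, 2, 4, 0, 4, 2, 2, 5, 3], []), ([0, 0, 3, 1, 3, 3, 3, 0, 3, 1, 3, 3, 0, 2], []), ([0, 0, 0, 3, 3, 3, 1, 2, 0, 2,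 2, 0, 3, 3], []), ([0, 3, 4, 0, 3, 5, 5, 0, 3, 4, 0, 3, 5, 5], []), ([0, 2, 0, 3, 0, 2, 1, 4, 2, 4, 2, 4, 0, 3], []), ([0, 5, 7, 1, 5, 7, 1, 6, 1, 5, 6, 6, 3, 7], []), ([0, 3, 5, 1, 4, 2, 5, 1, 5, 1, 3, 3, 5, 3], []), ([0, 2, 4, 0, 5, 2, 0, 3, 5, 0, 4, 1, 4, 4], []), ([0, 0, 4, 4, 3, 0, 3, 5, 2, 0, 4, 1, 3, 3], []), ([0, 0, 3, 4, 1, 4, 4, 2, 2, 2, 2, 0, 0, 5], []), ([0, 0, 2, 1, 3, 0, 3, 0, 0, 3, 0, 2, 0, 3], []), ([0, 0, 2, 2, 2, 2, 0, 3, 1, 2, 0, 3, 0, 3], []), ([0, 0, 2, 5, 0, 3, 1, 3, 0, 5, 3, 5, 5, 3], []), ([0, 0, 3, 3, 3, 0, 2, 0, 2, 2, 1, 2, 1, 3], []), ([0, 0, 0, 3, 0, 2, 2, 5, 3, 4, 3, 3, 3, 4], []), ([0, 0, 0, 0, 4, 0, 2, 4, 3, 0, 2, 4, 3, 3], []), ([0, 3, 6, 5, 6, 2,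 2, 0, 3, 6, 5, 6, 2, 2], []), ([0, 0, 4, 0, 7, 2, 1, 2, 7, 4, 1, 4, 0, 4], []), ([0, 0, 0, 2, 1, 1, 2, 2, 2, 1, 2, 2, 1, 3], []), ([0, 3, 5, 3, 5, 2, 5, 3, 0, 4, 2, 2, 5, 3], []), ([0, 3, 3, 0, 4, 1, 4, 3, 5, 1, 4, 4, 1, 5], []), ([0, 2, 0, 3, 0, 2, 1, 3, 0, 4, 2, 4, 2, 4], []), ([0, 0, 2, 0, 3, 1, 3, 0, 0, 3, 1, 2, 2, 2], []), ([0, 2, 4, 1, 7, 2, 0, 2, 5, 5, 7, 1, 3, 3], []), ([2, 2, 2, 2, 2, 2, 5, 3, 4, 4, 4, 4, 3, 5], []), ([0, 0, 2, 6, 2, 1, 2, 5, 3, 1, 5, 5, 1, 6], []), ([0, 0, 2, 5, 0, 3, 1, 3, 0, 2, 4, 2, 5, 3], []), ([0, 0, 2, 1, 2, 5, 1, 2, 0, 4, 2, 5, 2, 5], []), ([0, 0, 0, 4, 4, 1, 4, 3, 0, 4, 3, 5, 2, 4], []), ([0, 2, 0, 4, 2, 4, 2, 4, 0, 2, 1, 3, 0, 3], []), ([0, 3,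 3, 4, 1, 4, 6, 0, 6, 3, 7, 1, 7, 5], []), ([0, 0, 3, 0, 2, 1, 3, 1, 3, 0, 3, 0, 2, 2], []), ([0, 0, 0, 2, 1, 2, 2, 0, 0, 0, 2, 1, 2, 2], []), ([0, 2, 1, 5, 2, 2, 5, 0, 2, 1, 5, 2, 2, 5], []), ([0, 0, 0, 5, 1, 7, 4, 2, 6, 0, 7, 5, 6, 5], []), ([0, 4, 3, 4, 2, 5, 1, 2, 2, 5, 3, 4, 4, 4], []), ([2, 6, 2, 6, 2, 6, 2, 6, 2, 6, 2, 6, 2, 6], []), ([0, 0, 4, 2, 0, 4, 3, 3, 5, 5, 3, 4, 3, 4], []), ([0, 0, 0, 3, 3, 1, 1, 2, 2, 2, 1, 1, 1, 3], []), ([0, 2, 0, 2, 4, 4, 2, 4, 0, 4, 0, 5, 1, 5], []), ([0, 0, 0, 0, 2, 0, 5, 0, 4, 1, 5, 1, 4, 4], []), ([0, 0, 2, 0, 0, 2, 2, 2, 0, 0, 3, 3, 1, 2], []), ([0, 0, 4, 4, 0, 2, 5, 0, 4, 3, 4, 0, 5, 3], []), ([0, 0, 4, 3, 7, 0, 2, 7, 3, 0, 3, 4, 2, 4],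 []), ([0, 0, 3, 1, 2, 4, 0, 5, 0, 0, 5, 1, 2, 5], []), ([0, 4, 1, 7, 7, 3, 6, 3, 7, 2, 7, 1, 2, 4], []), ([2, 2, 4, 2, 4, 2, 2, 5, 2, 5, 2, 5, 2, 5], []), ([0, 0, 0, 2, 0, 2, 4, 3, 5, 0, 0, 0, 2, 5], []), ([0, 0, 4, 3, 7, 0, 2, 7, 3, 0, 3, 3, 5, 3], []), ([0, 2, 1, 5, 5, 2, 2, 4, 0, 5, 1, 2, 1, 3], []), ([0, 0, 4, 2, 2, 4, 3, 4, 1, 2, 4, 0, 4, 4], []), ([0, 2, 0, 3, 0, 5, 3, 5, 3, 5, 1, 3, 0, 3], []), ([0, 0, 2, 4, 2, 5, 2, 0, 0, 5, 2, 4, 3, 3], []), ([0, 3, 4, 4, 3, 5, 0, 5, 0, 5, 1, 4, 4, 3], []), ([0, 0, 0, 0, 5, 1, 3, 3, 3, 1, 2, 2, 5, 2], []), ([0, 2, 4, 3, 0, 5, 5, 0, 2, 4, 3, 0, 5, 5], []), ([0, 0, 2, 0, 3, 0, 2, 2, 1, 2, 0, 2, 1, 2], []), ([0, 2, 1, 2, 0, 2, 2, 2, 1, 3,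 3, 3, 1, 3], []), ([0, 2, 2, 5, 6, 6, 2, 7, 7, 3, 3, 5, 7, 2], []), ([0, 3, 0, 3, 4, 1, 3, 3, 4, 4, 1, 5, 2, 2], []), ([0, 2, 4, 2, 4, 2, 0, 5, 0, 5, 0, 5, 0, 5], []), ([0, 0, 2, 0, 2, 2, 0, 3, 0, 0, 2, 2, 1, 3], []), ([0, 0, 2, 0, 5, 3, 7, 7, 0, 2, 4, 6, 5, 2], []), ([0, 0, 4, 3, 4, 3, 0, 4, 0, 3, 4, 0, 2, 2], []), ([0, 3, 5, 1, 4, 2, 5, 1, 5, 1, 3, 4, 2, 4], []), ([0, 2, 4, 1, 3, 4, 1, 5, 2, 5, 5, 3, 1, 3], []), ([0, 2, 4, 2, 0, 5, 3, 5, 3, 1, 3, 5, 1, 2], []), ([0, 2, 4, 1, 4, 2, 4, 2, 1, 2, 0, 2, 4, 2], []), ([0, 0, 2, 2, 0, 2, 2, 0, 3, 3, 3, 0, 3, 3], []), ([0, 0, 2, 0, 0, 3, 6, 0, 0, 2, 0, 0, 3, 6], []), ([0, 2, 4, 1, 4, 2, 4, 2, 1, 2, 0, 5, 3, 5], []), ([0, 0, 4, 0, 5, 0,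 5, 6, 3, 0, 3, 6, 0, 4], []), ([0, 0, 0, 4, 4, 4, 0, 4, 0, 5, 1, 4, 1, 3], []), ([0, 4, 3, 6, 5, 2, 5, 5, 6, 6, 3, 3, 4, 6], []), ([0, 3, 4, 3, 4, 2, 5, 5, 1, 3, 4, 1, 5, 5], []), ([0, 2, 0, 7, 5, 7, 3, 4, 6, 0, 3, 5, 2, 5], []), ([0, 2, 2, 0, 2, 4, 0, 2, 2, 1, 3, 5, 1, 3], []), ([0, 0, 0, 3, 4, 3, 3, 0, 3, 3, 3, 3, 0, 4], []), ([0, 0, 3, 4, 1, 5, 5, 5, 3, 3, 3, 0, 0, 5], []), ([0, 2, 0, 2, 4, 3, 5, 3, 0, 4, 0, 5, 1, 5], []), ([0, 2, 2, 1, 5, 2, 5, 0, 3, 3, 4, 3, 0, 4], []), ([0, 3, 3, 4, 2, 1, 6, 1, 5, 5, 3, 7, 1, 3], []), ([0, 0, 0, 2, 5, 0, 0, 4, 0, 4, 1, 5, 1, 2], []), ([0, 0, 2, 5, 5, 0, 3, 6, 2, 5, 5, 2, 1, 6], []), ([0, 2, 4, 3, 1, 4, 1, 2, 7, 2, 1, 2, 7, 2], []), ([0, 3,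 4, 3, 7, 3, 0, 5, 3, 6, 6, 4, 2, 4], []), ([0, 0, 0, 5, 5, 2, 1, 3, 5, 1, 3, 4, 0, 4], []), ([0, 0, 5, 1, 4, 1, 4, 2, 1, 4, 0, 5, 3, 3], []), ([0, 0, 5, 3, 3, 5, 2, 2, 4, 3, 4, 0, 4, 2], []), ([0, 0, 5, 0, 5, 0, 2, 5, 5, 2, 1, 2, 5, 5], []), ([0, 3, 4, 3, 7, 3, 0, 5, 3, 6, 6, 3, 5, 3], []), ([0, 2, 1, 2, 5, 2, 2, 0, 2, 1, 2, 5, 2, 2], []), ([0, 0, 2, 2, 2, 2, 5, 5, 2, 2, 4, 0, 5, 3], []), ([0, 0, 2, 2, 2, 0, 3, 0, 2, 0, 0, 3, 0, 3], []), ([0, 2, 0, 5, 5, 1, 2, 1, 5, 2, 4, 0, 2, 5], []), ([0, 4, 3, 4, 2, 5, 1, 3, 3, 3, 3, 4, 2, 5], []), ([0, 0, 5, 7, 1, 1, 5, 7, 7, 5, 1, 7, 5, 2], []), ([0, 2, 2, 2, 6, 3, 1, 6, 1, 3, 0, 5, 1, 5], []), ([0, 0, 3, 5, 2, 2, 4, 1, 2, 0, 5, 3, 4, 2],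 []), ([0, 0, 0, 5, 5, 1, 2, 5, 3, 4, 3, 4, 2, 5], []), ([0, 0, 2, 5, 3, 1, 2, 0, 3, 5, 0, 4, 4, 2], []), ([0, 4, 2, 4, 1, 3, 4, 4, 3, 4, 1, 3, 4, 3], []), ([0, 4, 4, 0, 5, 5, 5, 0, 4, 4, 0, 5, 5, 5], []), ([0, 4, 0, 4, 1, 3, 4, 1, 4, 1, 4, 1, 5, 3], []), ([0, 2, 4, 2, 1, 2, 5, 2, 0, 5, 2, 5, 5, 2], []), ([0, 4, 6, 6, 3, 4, 7, 7, 4, 2, 7, 7, 5, 2], []), ([0, 0, 5, 2, 4, 3, 3, 0, 0, 5, 3, 5, 5, 2], []), ([0, 0, 0, 0, 4, 2, 0, 2, 1, 1, 4, 3, 5, 3], []), ([0, 3, 7, 0, 5, 7, 7, 3, 4, 2, 2, 6, 1, 3], []), ([0, 3, 0, 3, 0, 3, 0, 3, 0, 3, 0, 3, 0, 3], []), ([0, 0, 5, 2, 5, 5, 2, 4, 1, 3, 3, 4, 1, 2], []), ([0, 0, 7, 2, 2, 2, 6, 5, 5, 7, 3, 3, 6, 2], []), ([0, 2, 1, 2, 2, 0, 2, 2, 2, 0,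 3, 3, 1, 2], []), ([0, 0, 0, 3, 1, 1, 6, 1, 6, 3, 6, 0, 3, 6], []), ([0, 0, 0, 3, 3, 3, 1, 3, 1, 1, 2, 2, 1, 2], []), ([0, 3, 4, 2, 2, 7, 1, 6, 2, 1, 2, 6, 4, 2], []), ([8, 8, 8, 8, 8, 8, 8, 8, 8, 8, 8], []), ([6, 8, 6, 8, 6, 8, 6, 8, 6, 8, 6, 3, 1, 1, 3, 1, 3, 1, 4, 4, 3, 4, 7, 9, 7, 9, 7, 9, 7, 9, 7, 9, 7, 8, 6, 8, 6, 8, 6, 8, 6, 8, 6, 8, 6, 5, 2, 5, 5, 0, 2, 0, 2, 0, 0, 2, 7, 9, 7, 9, 7, 9, 7, 9, 7, 9, 7, 9, 9, 9], []), ([9, 6, 3, 0, 3, 1, 8, 7, 2, 0, 3, 0, 5, 1, 4, 4, 3], []), ([9, 6, 5, 5, 6, 6, 8, 6, 6, 2, 1, 1, 6, 3, 4, 0, 6], []), ([9, 0, 2, 1, 2, 7, 8, 2, 5, 5, 0, 4, 1, 2, 1, 3, 6], []), ([9, 7, 7, 4, 4, 7, 8, 7, 1, 5, 2, 7, 0, 0, 3, 7, 7], []), ([9, 0, 6, 3, 0, 0, 0,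 8, 5, 0, 7, 0, 7, 4, 1, 6, 5, 7, 7], []), ([9, 7, 5, 7, 3, 3, 0, 8, 7, 0, 0, 4, 6, 2, 0, 7, 2, 6], []), ([9, 5, 3, 4, 6, 3, 0, 8, 3, 4, 1, 1, 6, 3, 0, 6, 3, 1, 5], []), ([9, 0, 6, 5, 0, 5, 0, 8, 7, 5, 1, 5, 5, 6, 5, 7, 0, 0], []), ([9, 4, 6, 2, 0, 4, 1, 8, 0, 5, 5, 0, 5, 7, 4, 4, 2, 5, 1], []), ([9, 0, 6, 5, 3, 4, 1, 8, 6, 1, 2, 0, 4, 1, 7, 1, 2, 5, 5], []), ([9, 4, 6, 4, 0, 5, 1, 8, 3, 3, 7, 0, 3, 0, 2, 0, 4, 3, 3], []), ([9, 1, 1, 1, 2, 7, 1, 8, 6, 6, 4, 7, 0, 5, 6, 1, 6, 1, 4], []), ([9, 5, 0, 7, 3, 7, 1, 8, 0, 0, 2, 1, 4, 3, 0, 6, 5, 0], []), ([9, 1, 4, 1, 4, 7, 1, 8, 1, 1, 6, 4, 7, 4, 4, 0, 4, 6], []), ([9, 0, 5, 2, 4, 7, 1, 8, 4, 4, 3, 0, 6, 0, 5, 1, 3, 0, 7], []), ([9, 4,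 4, 7, 7, 4, 2, 8, 5, 3, 4, 2, 0, 5, 7, 0, 6, 2, 5, 5], []), ([9, 4, 1, 3, 4, 6, 2, 8, 4, 6, 6, 2, 5, 7, 2, 4, 3, 6], []), ([9, 6, 5, 3, 4, 7, 2, 8, 1, 2, 5, 0, 7, 7, 4, 4, 2, 0, 4], []), ([9, 2, 2, 0, 7, 0, 3, 8, 2, 6, 4, 2, 0, 0, 0, 6, 3, 3, 6], []), ([9, 2, 1, 6, 1, 3, 3, 8, 0, 0, 0, 4, 3, 1, 6, 6, 3, 1, 6], []), ([9, 6, 2, 0, 3, 0, 4, 8, 7, 0, 0, 5, 2, 5, 0, 4, 0, 0], []), ([9, 6, 5, 2, 5, 1, 4, 8, 7, 4, 3, 5, 5, 0, 4, 3, 3, 1, 2], []), ([9, 0, 6, 2, 6, 1, 4, 8, 1, 4, 7, 1, 2, 5, 0, 3, 1, 1], []), ([9, 1, 2, 7, 5, 2, 4, 8, 7, 2, 7, 0, 4, 1, 3, 5, 7, 7, 1], []), ([9, 6, 4, 7, 0, 0, 5, 8, 1, 5, 5, 6, 5, 3, 1, 3, 7, 4], []), ([9, 3, 7, 5, 2, 0, 5, 8, 7, 2, 5, 3, 6, 4, 3, 7, 7,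 5], []), ([9, 4, 7, 5, 3, 0, 5, 8, 2, 2, 1, 2, 2, 7, 2, 6, 0, 0, 6], []), ([9, 6, 6, 5, 5, 2, 5, 8, 7, 7, 7, 7, 5, 3, 1, 5, 0, 3], []), ([9, 3, 5, 6, 6, 5, 5, 8, 3, 4, 3, 6, 0, 5, 6, 0, 7, 0, 4, 4], []), ([9, 4, 1, 2, 4, 6, 5, 8, 2, 5, 3, 3, 4, 7, 1, 5, 2, 1, 5], []), ([9, 0, 5, 1, 3, 7, 5, 8, 4, 2, 6, 1, 7, 7, 0, 5, 3, 4, 1], []), ([9, 0, 4, 1, 5, 7, 5, 8, 5, 5, 6, 0, 3, 1, 3, 5, 7, 1, 2], []), ([9, 1, 2, 2, 6, 4, 6, 8, 7, 3, 6, 1, 3, 7, 5, 1, 1, 6], []), ([9, 5, 1, 2, 1, 3, 7, 8, 0, 7, 4, 0, 7, 1, 7, 3, 6, 2], []), ([9, 3, 6, 5, 2, 4, 7, 8, 5, 1, 3, 5, 5, 6, 6, 1, 4, 3, 0], []), ([9, 5, 0, 4, 3, 4, 7, 8, 3, 0, 2, 2, 5, 1, 4, 4, 2, 5, 6], []), ([9, 4, 1, 1, 6, 5, 7, 8, 5, 6, 2,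 0, 2, 4, 7, 4, 4, 0], []), ([9, 4, 3, 4, 4, 7, 7, 8, 2, 1, 4, 0, 2, 4, 6, 6, 6, 6], []), ([9, 6, 5, 1, 5, 3, 0, 0, 8, 7, 0, 4, 0, 5, 0, 2, 2, 4], []), ([9, 0, 0, 6, 1, 5, 0, 0, 8, 7, 0, 2, 2, 5, 2, 0, 4, 7, 2, 2], []), ([9, 2, 2, 0, 4, 7, 0, 0, 8, 7, 1, 1, 6, 5, 1, 3, 3, 6], []), ([9, 2, 0, 3, 5, 7, 0, 0, 8, 3, 3, 6, 1, 4, 7, 1, 1, 4, 1, 5], []), ([9, 2, 0, 7, 5, 0, 2, 0, 8, 0, 5, 2, 2, 7, 2, 0, 5, 1], []), ([9, 3, 5, 0, 6, 5, 2, 0, 8, 5, 2, 2, 0, 7, 1, 3, 7, 4, 1, 2], []), ([9, 3, 6, 4, 4, 7, 2, 0, 8, 0, 6, 0, 0, 6, 5, 5, 0, 2, 2, 6], []), ([9, 7, 2, 7, 1, 3, 3, 0, 8, 3, 1, 5, 0, 5, 3, 4, 4, 6, 5, 5], []), ([9, 1, 4, 6, 4, 3, 3, 0, 8, 7, 5, 0, 7, 2, 4, 3, 4, 0, 0], []), ([9, 6,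 4, 2, 1, 4, 3, 0, 8, 0, 4, 2, 0, 0, 7, 5, 7, 2, 7, 7], []), ([9, 0, 5, 1, 5, 6, 3, 0, 8, 7, 5, 5, 1, 3, 0, 3, 5, 2, 5], []), ([9, 4, 6, 2, 5, 6, 3, 0, 8, 4, 6, 0, 5, 5, 0, 4, 1, 4, 2], []), ([9, 6, 6, 6, 6, 6, 3, 0, 8, 2, 4, 4, 2, 7, 3, 6, 1, 1, 2, 0], []), ([9, 5, 3, 7, 5, 7, 3, 0, 8, 1, 6, 1, 3, 7, 3, 1, 7, 7, 2], []), ([9, 7, 3, 5, 0, 7, 4, 0, 8, 1, 7, 0, 0, 7, 1, 3, 0, 5, 2, 7], []), ([9, 0, 7, 0, 6, 0, 5, 0, 8, 7, 4, 7, 3, 5, 0, 6, 4, 3, 6, 5], []), ([9, 5, 6, 3, 6, 0, 5, 0, 8, 4, 4, 1, 1, 1, 2, 7, 4, 4, 6, 2], []), ([9, 4, 4, 7, 7, 1, 5, 0, 8, 6, 4, 3, 4, 7, 3, 1, 5, 0], []), ([9, 6, 1, 1, 4, 2, 5, 0, 8, 7, 5, 0, 5, 0, 0, 2, 4, 0, 5], []), ([9, 6, 5, 0, 5, 2, 5, 0, 8, 7,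 2, 0, 3, 5, 5, 3, 1, 1, 1], []), ([9, 3, 4, 4, 7, 2, 5, 0, 8, 2, 4, 2, 5, 7, 1, 7, 2, 1, 4], []), ([9, 7, 3, 4, 7, 3, 5, 0, 8, 4, 0, 6, 5, 0, 3, 6, 5], []), ([9, 2, 4, 4, 7, 5, 5, 0, 8, 4, 6, 2, 4, 1, 7, 0, 6, 5, 7], []), ([9, 3, 3, 4, 0, 6, 5, 0, 8, 7, 3, 5, 5, 6, 3, 6, 5, 2, 1], []), ([9, 4, 3, 6, 2, 6, 5, 0, 8, 2, 6, 0, 6, 6, 3, 1, 6, 3, 3], []), ([9, 4, 3, 4, 3, 6, 5, 0, 8, 5, 0, 2, 0, 7, 2, 6, 6, 0, 5], []), ([9, 6, 6, 5, 3, 6, 5, 0, 8, 2, 2, 7, 7, 1, 3, 0, 2, 7, 4], []), ([9, 0, 3, 1, 1, 7, 5, 0, 8, 7, 4, 7, 2, 0, 0, 3, 7, 5, 6, 0, 5], []), ([9, 1, 2, 2, 5, 7, 5, 0, 8, 3, 5, 1, 3, 6, 0, 3, 0, 0, 0], []), ([9, 7, 5, 2, 4, 1, 6, 0, 8, 0, 6, 2, 0, 7, 5, 1, 2, 1, 5, 5], []),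 ([9, 0, 0, 2, 6, 3, 6, 0, 8, 1, 6, 6, 2, 5, 1, 2, 7, 0, 4, 3], []), ([9, 2, 4, 3, 6, 3, 6, 0, 8, 3, 1, 6, 6, 3, 3, 4, 6, 3, 3, 6], []), ([9, 6, 5, 6, 6, 1, 7, 0, 8, 0, 0, 4, 7, 1, 1, 2, 2, 1], []), ([9, 4, 2, 1, 7, 1, 7, 0, 8, 1, 5, 3, 6, 2, 5, 6, 0, 3, 6, 3], []), ([9, 5, 2, 5, 7, 1, 7, 0, 8, 4, 7, 0, 5, 2, 7, 7, 4, 6, 2], []), ([9, 7, 7, 1, 1, 2, 1, 1, 8, 0, 2, 4, 0, 7, 7, 7, 3, 0], []), ([9, 6, 5, 2, 6, 3, 1, 1, 8, 5, 3, 6, 6, 4, 3, 7, 2, 5, 5, 7], []), ([9, 1, 7, 2, 7, 3, 1, 1, 8, 1, 6, 4, 1, 1, 1, 4, 7, 1, 1, 2], []), ([9, 5, 1, 6, 2, 4, 1, 1, 8, 2, 1, 4, 0, 5, 5, 1, 7, 2, 2, 5], []), ([9, 6, 5, 0, 7, 4, 1, 1, 8, 7, 0, 3, 1, 1, 2, 5, 0, 7, 0, 3], []), ([9, 3, 3, 6, 1, 5, 1,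 1, 8, 1, 5, 3, 6, 5, 1, 3, 5, 5, 1], []), ([9, 1, 1, 4, 0, 7, 1, 1, 8, 3, 3, 6, 5, 1, 3, 4, 3, 3, 1, 6], []), ([9, 6, 2, 0, 2, 7, 1, 1, 8, 5, 2, 6, 5, 1, 4, 3, 3, 3, 6], []), ([9, 6, 1, 3, 4, 7, 1, 1, 8, 0, 5, 7, 2, 4, 3, 3, 3, 5, 1], []), ([9, 2, 5, 2, 5, 7, 1, 1, 8, 0, 6, 6, 0, 3, 6, 1, 6, 1, 4, 7], []), ([9, 1, 4, 6, 0, 0, 2, 1, 8, 6, 3, 0, 3, 0, 2, 6, 1, 2, 4, 7, 3], []), ([9, 2, 5, 7, 7, 2, 2, 1, 8, 2, 0, 2, 5, 2, 0, 6, 6, 3, 1, 5], []), ([9, 7, 2, 7, 2, 4, 2, 1, 8, 4, 6, 3, 5, 2, 1, 4, 2, 6, 5], []), ([9, 4, 7, 7, 2, 0, 3, 1, 8, 2, 6, 4, 1, 2, 4, 6, 3, 1], []), ([9, 6, 2, 5, 7, 5, 3, 1, 8, 6, 5, 2, 1, 3, 5, 0, 0, 4, 4], []), ([9, 3, 6, 5, 0, 0, 4, 1, 8, 6, 1, 6, 2, 4, 1,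 5, 6, 1, 2, 2], []), ([9, 1, 2, 7, 4, 0, 4, 1, 8, 4, 3, 4, 2, 1, 2, 0, 4, 4, 6], []), ([9, 7, 2, 7, 3, 3, 4, 1, 8, 2, 0, 5, 0, 3, 1, 5, 7, 7, 5, 3], []), ([9, 0, 7, 0, 6, 3, 4, 1, 8, 6, 3, 1, 5, 7, 7, 5, 6, 1, 3], []), ([9, 2, 2, 7, 4, 6, 4, 1, 8, 2, 1, 1, 2, 1, 6, 2, 0, 6, 1, 5], []), ([9, 6, 3, 0, 5, 0, 5, 1, 8, 5, 1, 3, 0, 4, 1, 1, 2, 5, 7, 5], []), ([9, 2, 0, 7, 7, 2, 5, 1, 8, 3, 1, 6, 0, 5, 3, 0, 5, 1, 6, 5], []), ([9, 2, 5, 7, 1, 6, 5, 1, 8, 6, 1, 2, 1, 1, 6, 5, 0, 6, 2, 7], []), ([9, 6, 1, 6, 4, 6, 5, 1, 8, 4, 2, 1, 2, 0, 4, 6, 5, 5, 2], []), ([9, 5, 6, 1, 3, 7, 5, 1, 8, 4, 1, 5, 3, 6, 1, 1, 7, 3, 7, 2], []), ([9, 0, 7, 4, 3, 7, 5, 1, 8, 3, 0, 7, 1, 1, 2, 2, 4, 7, 5, 0],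 []), ([9, 1, 4, 1, 7, 1, 6, 1, 8, 7, 3, 6, 1, 7, 5, 6, 6, 5, 6, 2], []), ([9, 0, 5, 2, 7, 1, 6, 1, 8, 2, 0, 7, 4, 6, 6, 4, 0, 2, 7], []), ([9, 0, 6, 5, 7, 1, 6, 1, 8, 1, 3, 4, 7, 1, 5, 1, 1, 2, 4], []), ([9, 0, 4, 6, 2, 5, 6, 1, 8, 2, 5, 1, 1, 3, 4, 7, 2, 7, 1, 2], []), ([9, 2, 2, 6, 4, 1, 7, 1, 8, 3, 0, 3, 6, 1, 4, 2, 5, 2, 1], []), ([9, 4, 1, 2, 5, 3, 7, 1, 8, 7, 0, 5, 0, 4, 0, 7, 0, 3, 6, 1], []), ([9, 4, 7, 5, 5, 3, 7, 1, 8, 2, 0, 7, 2, 7, 7, 0, 0, 6, 2, 6], []), ([9, 3, 5, 1, 1, 4, 7, 1, 8, 2, 0, 3, 1, 7, 3, 1, 6, 5, 0, 4], []), ([9, 3, 1, 3, 3, 4, 7, 1, 8, 4, 3, 6, 3, 6, 0, 4, 0, 3, 3], []), ([9, 0, 7, 0, 6, 4, 7, 1, 8, 5, 3, 0, 0, 4, 0, 6, 5, 2, 0], []), ([9, 5, 0, 7, 3,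 0, 0, 2, 8, 7, 4, 3, 1, 2, 0, 5, 6, 0, 3, 0], []), ([9, 4, 7, 1, 1, 2, 0, 2, 8, 3, 4, 4, 0, 3, 4, 6, 4, 6, 6, 1], []), ([9, 0, 6, 5, 2, 2, 0, 2, 8, 2, 2, 1, 5, 1, 7, 2, 7, 2, 5], []), ([9, 6, 6, 3, 5, 5, 0, 2, 8, 2, 1, 1, 1, 7, 7, 3, 1, 5, 7, 5], []), ([9, 4, 6, 0, 2, 1, 1, 2, 8, 2, 7, 0, 2, 0, 6, 5, 5, 1, 3, 0, 7], []), ([9, 4, 7, 7, 3, 1, 1, 2, 8, 1, 1, 6, 6, 1, 2, 5, 2, 2, 0], []), ([9, 4, 7, 4, 0, 4, 1, 2, 8, 0, 2, 1, 1, 6, 6, 2, 6, 4, 1], []), ([9, 5, 2, 7, 1, 5, 1, 2, 8, 1, 5, 5, 0, 4, 1, 1, 3, 6, 2, 1], []), ([9, 6, 2, 1, 5, 7, 1, 2, 8, 4, 4, 2, 6, 0, 0, 6, 0, 7, 4, 1, 1], []), ([9, 6, 0, 2, 0, 2, 2, 2, 8, 7, 3, 0, 0, 4, 0, 3, 1, 4, 2], []), ([9, 3, 7, 1, 3, 4, 2, 2, 8,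 1, 4, 6, 3, 0, 3, 4, 2, 7, 5, 6], []), ([9, 1, 4, 7, 1, 5, 2, 2, 8, 0, 3, 4, 7, 2, 7, 4, 4, 2, 6], []), ([9, 7, 7, 0, 2, 5, 2, 2, 8, 1, 1, 1, 2, 7, 5, 6, 1, 5, 7, 7], []), ([9, 0, 0, 4, 0, 7, 2, 2, 8, 5, 7, 0, 2, 6, 6, 3, 4, 4, 0], []), ([9, 5, 3, 3, 4, 7, 2, 2, 8, 2, 6, 4, 4, 7, 2, 6, 2, 2, 2, 6], []), ([9, 0, 6, 5, 0, 0, 4, 2, 8, 1, 7, 7, 1, 1, 5, 7, 3, 3, 4, 6], []), ([9, 2, 1, 2, 7, 1, 4, 2, 8, 1, 1, 6, 0, 0, 7, 1, 3, 5, 7, 4], []), ([9, 1, 3, 4, 7, 1, 4, 2, 8, 3, 0, 0, 6, 2, 7, 7, 0, 2, 0, 4], []), ([9, 6, 4, 2, 1, 3, 4, 2, 8, 7, 1, 5, 3, 4, 3, 0, 2, 0, 4], []), ([9, 6, 3, 4, 1, 1, 5, 2, 8, 7, 4, 3, 4, 1, 5, 2, 1, 5, 5], []), ([9, 6, 6, 4, 1, 2, 5, 2, 8, 3, 3, 4, 0, 6, 3,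 1, 1, 3, 3], []), ([9, 3, 6, 1, 2, 2, 5, 2, 8, 2, 2, 0, 6, 0, 4, 2, 5, 0], []), ([9, 3, 6, 2, 4, 2, 5, 2, 8, 0, 3, 7, 5, 2, 2, 0, 2, 1, 5], []), ([9, 1, 4, 3, 6, 5, 5, 2, 8, 5, 0, 3, 6, 0, 6, 4, 3, 5, 3], []), ([9, 3, 3, 5, 2, 0, 6, 2, 8, 7, 4, 6, 3, 5, 2, 1, 2, 7, 5, 0], []), ([9, 6, 5, 3, 1, 2, 6, 2, 8, 0, 7, 4, 6, 3, 7, 7, 5, 5, 6, 4], []), ([9, 7, 1, 2, 6, 2, 6, 2, 8, 1, 1, 6, 0, 2, 2, 0, 2, 1, 6, 1], []), ([9, 6, 4, 7, 3, 3, 6, 2, 8, 1, 3, 3, 3, 6, 0, 0, 3, 4, 0], []), ([9, 7, 4, 7, 3, 4, 6, 2, 8, 6, 5, 0, 4, 3, 0, 6, 4, 1, 4, 7], []), ([9, 7, 2, 2, 5, 6, 6, 2, 8, 6, 6, 6, 5, 3, 3, 1, 6, 5, 6], []), ([9, 3, 4, 3, 3, 0, 7, 2, 8, 1, 4, 3, 5, 1, 7, 1, 3, 3], []), ([9, 2, 6, 5,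 7, 0, 7, 2, 8, 6, 5, 3, 1, 3, 3, 7, 1, 4, 3, 5], []), ([9, 6, 6, 3, 4, 1, 7, 2, 8, 1, 7, 4, 0, 3, 0, 7, 1, 7, 2, 5], []), ([9, 2, 2, 6, 5, 1, 7, 2, 8, 2, 2, 5, 5, 3, 7, 4, 6, 6, 5, 7], []), ([9, 3, 4, 3, 5, 3, 7, 2, 8, 4, 0, 3, 1, 3, 3, 4, 6, 2, 1], []), ([9, 6, 0, 5, 5, 3, 7, 2, 8, 0, 2, 5, 0, 0, 6, 6, 0, 5], []), ([9, 0, 5, 1, 1, 4, 7, 2, 8, 7, 3, 7, 1, 5, 6, 5, 2, 5, 0, 4], []), ([9, 4, 1, 2, 1, 5, 7, 2, 8, 7, 5, 5, 1, 5, 3, 4, 6, 3, 0, 7], []), ([9, 4, 7, 5, 1, 5, 7, 2, 8, 2, 6, 0, 4, 6, 6, 2, 4, 2, 2, 0], []), ([9, 1, 3, 6, 5, 5, 7, 2, 8, 7, 3, 3, 1, 4, 4, 7, 1, 1, 7, 1], []), ([9, 3, 5, 0, 6, 3, 0, 3, 8, 0, 5, 5, 1, 5, 2, 1, 3, 1, 4, 6], []), ([9, 6, 2, 6, 3, 7, 0, 3, 8,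 1, 4, 7, 2, 0, 0, 0, 2, 1], []), ([9, 7, 2, 7, 7, 1, 1, 3, 8, 0, 6, 0, 2, 2, 4, 0, 0, 7, 2, 4], []), ([9, 5, 0, 7, 0, 2, 1, 3, 8, 5, 1, 6, 0, 3, 4, 2, 5, 1, 2, 1], []), ([9, 1, 1, 6, 4, 2, 1, 3, 8, 4, 0, 5, 0, 0, 6, 5, 0, 7, 2, 2], []), ([9, 6, 0, 0, 5, 2, 1, 3, 8, 7, 3, 0, 4, 1, 4, 3, 4, 3], []), ([9, 7, 7, 2, 1, 3, 1, 3, 8, 2, 2, 1, 1, 5, 3, 6, 0, 4, 4, 2], []), ([9, 7, 2, 7, 4, 4, 1, 3, 8, 3, 6, 0, 6, 6, 5, 1, 1, 5, 6], []), ([9, 1, 3, 1, 4, 6, 1, 3, 8, 0, 4, 1, 3, 6, 3, 3, 4, 1], []), ([9, 0, 4, 3, 6, 6, 1, 3, 8, 6, 0, 2, 1, 1, 6, 6, 0, 2, 1, 6], []), ([9, 1, 1, 6, 5, 1, 3, 3, 8, 7, 2, 2, 0, 4, 7, 0, 0, 6], []), ([9, 5, 0, 7, 3, 4, 3, 3, 8, 1, 3, 7, 7, 1, 6, 6, 4, 6, 0], []),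 ([9, 0, 5, 7, 5, 6, 3, 3, 8, 4, 0, 7, 1, 3, 7, 0, 3, 0, 0, 3], []), ([9, 3, 6, 0, 4, 7, 3, 3, 8, 6, 4, 7, 7, 5, 6, 2, 4, 4, 3, 3], []), ([9, 0, 6, 0, 5, 7, 3, 3, 8, 0, 3, 4, 3, 5, 0, 7, 2, 1, 2], []), ([9, 7, 1, 2, 7, 2, 4, 3, 8, 1, 4, 7, 0, 4, 1, 6, 1, 4], []), ([9, 6, 0, 3, 1, 3, 4, 3, 8, 7, 4, 0, 0, 5, 3, 0, 3, 1, 5, 0], []), ([9, 0, 0, 6, 4, 3, 4, 3, 8, 0, 5, 6, 3, 5, 2, 0, 2, 4, 1, 2], []), ([9, 0, 4, 7, 0, 6, 4, 3, 8, 0, 0, 5, 1, 3, 5, 7, 7, 3, 6, 0], []), ([9, 0, 3, 3, 6, 6, 4, 3, 8, 4, 0, 2, 7, 7, 1, 3, 4, 3, 1, 3], []), ([9, 2, 6, 5, 5, 7, 4, 3, 8, 1, 4, 2, 2, 6, 4, 2, 5, 3, 1, 1], []), ([9, 5, 2, 2, 7, 7, 4, 3, 8, 7, 1, 5, 1, 7, 1, 1, 5, 1, 4, 6], []), ([9, 6, 5, 2, 6,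 2, 5, 3, 8, 7, 4, 6, 1, 3, 6, 3, 4, 7, 1], []), ([9, 5, 0, 4, 6, 2, 5, 3, 8, 5, 2, 1, 3, 4, 2, 6, 4, 7, 0, 0], []), ([9, 1, 7, 2, 7, 2, 5, 3, 8, 7, 2, 2, 7, 5, 2, 2, 7, 7, 0, 2], []), ([9, 1, 4, 4, 6, 5, 5, 3, 8, 6, 4, 7, 1, 6, 0, 5, 3, 7, 5], []), ([9, 4, 6, 6, 0, 6, 5, 3, 8, 2, 7, 7, 0, 2, 0, 5, 0, 4, 7], []), ([9, 4, 6, 3, 6, 6, 5, 3, 8, 5, 2, 2, 1, 2, 6, 5, 5, 1, 6], []), ([9, 4, 0, 7, 4, 7, 5, 3, 8, 3, 0, 3, 4, 3, 5, 1, 5, 6, 6, 6], []), ([9, 5, 5, 7, 4, 7, 5, 3, 8, 5, 6, 4, 1, 6, 0, 3, 6, 2, 0], []), ([9, 6, 1, 7, 0, 2, 6, 3, 8, 0, 6, 4, 0, 2, 7, 5, 2, 4, 1, 3], []), ([9, 6, 6, 6, 2, 6, 6, 3, 8, 6, 6, 3, 4, 2, 5, 6, 4, 1, 5], []), ([9, 4, 0, 3, 7, 1, 7, 3, 8, 2, 5, 2, 0,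 0, 5, 7, 7, 5, 2, 5], []), ([9, 5, 5, 3, 7, 1, 7, 3, 8, 7, 7, 3, 6, 5, 6, 2, 7, 5, 7, 4], []), ([9, 2, 5, 6, 4, 4, 7, 3, 8, 3, 0, 6, 0, 2, 7, 0, 5, 0, 7, 3], []), ([9, 3, 6, 1, 6, 4, 7, 3, 8, 4, 2, 5, 0, 6, 2, 2, 0, 2, 4, 7], []), ([9, 6, 2, 4, 0, 0, 0, 4, 8, 5, 3, 4, 0, 5, 3, 6, 0, 0, 4], []), ([9, 4, 3, 0, 6, 0, 0, 4, 8, 4, 7, 0, 2, 0, 0, 7, 1, 4, 3, 5], []), ([9, 0, 0, 5, 3, 7, 0, 4, 8, 0, 0, 7, 0, 0, 5, 5, 6, 2, 4, 7], []), ([9, 7, 1, 6, 4, 2, 1, 4, 8, 7, 7, 3, 1, 1, 7, 0, 7, 7, 4, 4], []), ([9, 6, 0, 4, 7, 4, 1, 4, 8, 2, 7, 7, 3, 5, 3, 0, 7, 4, 3, 7], []), ([9, 7, 7, 4, 2, 5, 1, 4, 8, 1, 2, 0, 0, 0, 5, 5, 3, 6, 5, 0, 4], []), ([9, 6, 2, 1, 6, 5, 1, 4, 8, 0, 0, 4, 0, 3, 4,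 1, 6, 0, 5, 5], []), ([9, 2, 4, 3, 7, 5, 1, 4, 8, 1, 1, 6, 5, 7, 3, 5, 2, 0, 3, 4], []), ([9, 2, 0, 3, 1, 6, 1, 4, 8, 6, 5, 6, 1, 3, 1, 2, 2, 7, 0, 6], []), ([9, 3, 1, 1, 2, 6, 1, 4, 8, 2, 6, 4, 0, 2, 0, 0, 3, 1, 5, 5], []), ([9, 2, 2, 5, 2, 6, 1, 4, 8, 1, 7, 5, 7, 7, 0, 6, 6, 2, 0], []), ([9, 7, 7, 3, 4, 0, 2, 4, 8, 7, 5, 3, 1, 5, 2, 6, 6, 6], []), ([9, 5, 5, 0, 6, 0, 2, 4, 8, 5, 5, 7, 3, 4, 0, 5, 2, 7, 2, 2], []), ([9, 4, 7, 0, 2, 2, 2, 4, 8, 2, 2, 2, 7, 4, 6, 2, 5, 6, 2], []), ([9, 3, 3, 6, 5, 2, 2, 4, 8, 7, 3, 3, 3, 7, 3, 6, 5, 5, 7, 3], []), ([9, 6, 5, 1, 6, 2, 2, 4, 8, 3, 0, 5, 1, 6, 3, 5, 5, 3, 4, 1], []), ([9, 6, 6, 6, 6, 5, 2, 4, 8, 5, 6, 6, 0, 6, 3, 1, 5, 5, 3, 7], []),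 ([9, 1, 2, 6, 4, 6, 2, 4, 8, 3, 6, 6, 0, 2, 6, 2, 0, 7, 0], []), ([9, 7, 0, 3, 5, 7, 2, 4, 8, 6, 4, 3, 1, 4, 4, 2, 0, 4, 2], []), ([9, 6, 2, 6, 5, 1, 3, 4, 8, 2, 1, 2, 2, 6, 2, 1, 2, 6, 1, 3], []), ([9, 6, 2, 0, 0, 3, 3, 4, 8, 7, 5, 2, 5, 5, 2, 5, 2, 4, 4], []), ([9, 2, 5, 6, 6, 3, 3, 4, 8, 7, 5, 0, 4, 0, 0, 6, 0, 4, 0, 6], []), ([9, 1, 6, 0, 6, 4, 3, 4, 8, 3, 7, 5, 6, 6, 3, 4, 1, 6, 5], []), ([9, 7, 3, 1, 6, 4, 3, 4, 8, 3, 5, 0, 4, 7, 1, 6, 6, 5], []), ([9, 3, 0, 4, 0, 6, 3, 4, 8, 0, 3, 7, 2, 0, 0, 5, 1, 4, 4, 0], []), ([9, 6, 0, 2, 4, 6, 3, 4, 8, 4, 6, 5, 3, 7, 2, 1, 2, 1, 5, 7], []), ([9, 7, 4, 7, 0, 0, 4, 4, 8, 4, 3, 4, 0, 2, 7, 0, 6, 6, 0, 5], []), ([9, 5, 3, 1, 7, 1, 4, 4,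 8, 6, 5, 3, 3, 7, 0, 4, 7, 4, 2, 0], []), ([9, 2, 6, 0, 6, 2, 4, 4, 8, 5, 6, 4, 6, 3, 7, 4, 7, 2, 6, 6], []), ([9, 2, 4, 6, 5, 6, 4, 4, 8, 1, 3, 7, 2, 1, 7, 0, 5, 7, 4], []), ([9, 4, 0, 7, 4, 6, 6, 4, 8, 7, 1, 7, 0, 6, 0, 5, 7, 5, 3, 0], []), ([9, 0, 4, 6, 2, 0, 7, 4, 8, 7, 5, 2, 1, 6, 0, 0, 7, 3, 7, 5], []), ([9, 1, 4, 1, 7, 2, 7, 4, 8, 2, 6, 1, 2, 1, 7, 5, 2, 7, 1, 3], []), ([9, 7, 4, 4, 0, 4, 7, 4, 8, 7, 1, 5, 3, 4, 3, 0, 4, 6, 2, 1], []), ([9, 3, 6, 4, 0, 3, 0, 5, 8, 6, 1, 2, 7, 5, 2, 4, 0, 4, 4, 6], []), ([9, 0, 6, 2, 4, 3, 0, 5, 8, 0, 7, 2, 1, 6, 1, 5, 1, 4, 1, 6], []), ([9, 7, 4, 4, 6, 1, 1, 5, 8, 6, 4, 4, 2, 1, 4, 2, 5, 5, 0, 6], []), ([9, 2, 6, 0, 6, 2, 1, 5, 8, 5, 2,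 5, 0, 0, 4, 6, 4, 7, 2, 1], []), ([9, 2, 4, 6, 5, 6, 1, 5, 8, 7, 7, 7, 4, 0, 4, 2, 5, 2, 1, 2], []), ([9, 5, 7, 7, 5, 6, 1, 5, 8, 1, 3, 4, 0, 6, 0, 0, 7, 7, 2, 7], []), ([9, 6, 4, 6, 0, 0, 2, 5, 8, 3, 6, 3, 1, 5, 2, 2, 7, 2, 5, 7], []), ([9, 4, 6, 3, 1, 1, 2, 5, 8, 5, 1, 1, 5, 5, 6, 0, 3, 4, 4, 2], []), ([9, 5, 1, 1, 7, 1, 2, 5, 8, 4, 2, 5, 0, 6, 1, 1, 3, 1, 6, 5], []), ([9, 6, 6, 0, 0, 5, 2, 5, 8, 5, 6, 1, 3, 4, 1, 4, 4, 6, 4], []), ([9, 1, 4, 7, 2, 5, 2, 5, 8, 4, 1, 7, 7, 3, 6, 1, 3, 1, 4], []), ([9, 1, 4, 7, 3, 7, 2, 5, 8, 7, 7, 5, 3, 4, 7, 0, 7, 1, 6], []), ([9, 4, 6, 3, 4, 7, 2, 5, 8, 1, 6, 1, 4, 6, 4, 7, 2, 4, 0, 6], []), ([9, 1, 6, 0, 6, 0, 3, 5, 8, 2, 7, 2, 1, 7, 4, 3,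 7, 2, 4, 0], []), ([9, 7, 3, 1, 6, 0, 3, 5, 8, 6, 5, 0, 3, 0, 7, 0, 6, 3, 0, 0], []), ([9, 6, 5, 0, 4, 1, 3, 5, 8, 0, 2, 5, 1, 7, 2, 0, 5, 3, 3, 1], []), ([9, 7, 5, 7, 4, 3, 3, 5, 8, 2, 6, 0, 0, 4, 1, 5, 7, 7, 3, 3], []), ([9, 6, 4, 1, 5, 3, 3, 5, 8, 0, 0, 2, 6, 4, 3, 0, 5, 5], []), ([9, 1, 4, 0, 6, 6, 5, 5, 8, 1, 4, 0, 2, 6, 5, 2, 5, 7], []), ([9, 3, 1, 3, 0, 0, 6, 5, 8, 0, 7, 7, 5, 7, 5, 2, 1, 5, 5, 2], []), ([9, 5, 3, 3, 3, 1, 6, 5, 8, 3, 7, 4, 3, 7, 5, 6, 3, 3, 3], []), ([9, 3, 6, 4, 0, 4, 6, 5, 8, 1, 3, 4, 2, 4, 7, 7, 5, 1, 7, 3], []), ([9, 7, 4, 7, 2, 4, 6, 5, 8, 6, 4, 3, 5, 5, 6, 6, 3, 5], []), ([9, 0, 6, 2, 4, 4, 6, 5, 8, 7, 3, 7, 1, 1, 6, 6, 3, 6, 1, 3], []), ([9, 3, 0,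 5, 1, 5, 6, 5, 8, 0, 5, 7, 3, 7, 7, 0, 0, 3, 1], []), ([9, 3, 0, 0, 2, 6, 6, 5, 8, 1, 3, 3, 4, 3, 0, 7, 7, 0, 0], []), ([9, 0, 2, 1, 3, 6, 6, 5, 8, 0, 2, 7, 5, 3, 0, 5, 7, 3], []), ([9, 3, 0, 0, 3, 1, 7, 5, 8, 1, 1, 7, 7, 0, 3, 7, 2, 6, 5, 6, 4], []), ([9, 4, 3, 0, 0, 2, 7, 5, 8, 3, 7, 2, 1, 2, 0, 0, 4, 3, 6, 2], []), ([9, 6, 6, 6, 4, 2, 7, 5, 8, 4, 2, 7, 1, 6, 6, 1], []), ([9, 4, 3, 6, 5, 2, 7, 5, 8, 4, 0, 3, 1, 6, 5, 2, 6, 3, 3, 0], []), ([9, 2, 4, 7, 7, 2, 7, 5, 8, 7, 0, 4, 4, 7, 3, 0, 3, 3, 4], []), ([9, 6, 5, 3, 0, 3, 7, 5, 8, 1, 1, 6, 6, 6, 1, 1, 3, 7, 5, 5], []), ([9, 1, 2, 7, 4, 3, 7, 5, 8, 3, 5, 0, 5, 1, 4, 4, 1, 7, 5], []), ([9, 6, 3, 0, 5, 5, 7, 5, 8, 4, 6, 1, 2, 2,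 7, 0, 0, 7, 0, 6], []), ([9, 2, 4, 7, 1, 7, 7, 5, 8, 6, 5, 1, 4, 1, 3, 1, 6, 6, 3], []), ([9, 2, 5, 3, 6, 3, 0, 6, 8, 5, 0, 7, 0, 5, 1, 6, 5, 0], []), ([9, 3, 7, 3, 7, 3, 0, 6, 8, 0, 7, 0, 3, 1, 3, 3, 1, 7, 0, 0], []), ([9, 5, 0, 3, 5, 7, 0, 6, 8, 6, 6, 5, 0, 2, 2, 0, 5, 7, 0, 4], []), ([9, 5, 3, 6, 4, 2, 1, 6, 8, 3, 5, 1, 3, 5, 5, 0, 2, 5, 7], []), ([9, 6, 5, 7, 7, 5, 1, 6, 8, 2, 6, 0, 2, 7, 4, 4, 7, 1, 1, 7], []), ([9, 7, 4, 4, 2, 6, 1, 6, 8, 1, 6, 0, 5, 0, 2, 4, 3, 3, 6, 1, 3], []), ([9, 4, 2, 1, 7, 0, 2, 6, 8, 6, 3, 6, 3, 3, 3, 1, 4, 0, 2, 7], []), ([9, 5, 2, 5, 7, 0, 2, 6, 8, 4, 7, 7, 0, 6, 5, 1, 4, 2], []), ([9, 1, 5, 6, 1, 4, 2, 6, 8, 6, 3, 4, 1, 2, 0, 6, 1, 1, 6, 0], []),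 ([9, 1, 4, 2, 6, 5, 2, 6, 8, 4, 7, 2, 1, 4, 7, 1, 5], []), ([9, 7, 5, 7, 1, 7, 2, 6, 8, 6, 6, 3, 0, 0, 7, 7, 1, 1, 5, 3], []), ([9, 3, 7, 7, 4, 3, 3, 6, 8, 7, 4, 7, 0, 2, 2, 4, 7, 7, 7], []), ([9, 1, 2, 2, 0, 6, 3, 6, 8, 3, 1, 6, 2, 5, 5, 2, 1, 7, 7, 7], []), ([9, 7, 5, 7, 0, 6, 3, 6, 8, 4, 2, 6, 2, 0, 4, 1, 6, 2, 6, 1], []), ([9, 0, 5, 2, 2, 6, 3, 6, 8, 2, 4, 6, 6, 4, 0, 2, 1, 4, 1, 3], []), ([9, 0, 3, 5, 3, 6, 3, 6, 8, 4, 7, 3, 5, 0, 3, 4, 2, 7, 5], []), ([9, 2, 0, 5, 5, 6, 3, 6, 8, 7, 4, 0, 0, 4, 7, 7, 1, 7, 2], []), ([9, 2, 0, 0, 6, 6, 3, 6, 8, 5, 5, 0, 0, 3, 6, 5, 2, 5, 6, 6], []), ([9, 1, 7, 0, 5, 3, 4, 6, 8, 2, 0, 2, 0, 4, 7, 1, 6, 6, 5, 5], []), ([9, 7, 3, 6, 0, 6, 4, 6,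 8, 2, 4, 0, 0, 6, 6, 1, 1, 2, 7, 7], []), ([9, 7, 2, 7, 1, 6, 4, 6, 8, 0, 7, 3, 7, 0, 5, 1, 3, 7, 3, 5], []), ([9, 4, 2, 2, 5, 6, 4, 6, 8, 0, 6, 3, 3, 5, 6, 5, 1, 3, 5, 1], []), ([9, 5, 6, 5, 1, 5, 5, 6, 8, 3, 5, 0, 2, 1, 3, 4, 4, 7, 2, 6], []), ([9, 7, 0, 7, 3, 5, 5, 6, 8, 0, 4, 6, 2, 0, 5, 6, 6, 0, 5, 5, 1], []), ([9, 4, 0, 0, 7, 5, 5, 6, 8, 1, 2, 2, 4, 1, 6, 1, 5, 3, 6, 4], []), ([9, 6, 4, 7, 0, 6, 5, 6, 8, 7, 3, 0, 0, 6, 4, 3, 7, 5, 2, 4], []), ([9, 5, 5, 1, 1, 6, 5, 6, 8, 4, 1, 7, 7, 1, 6, 3, 1, 5, 2, 5], []), ([9, 3, 7, 5, 2, 6, 5, 6, 8, 3, 4, 3, 1, 5, 7, 2, 4, 6, 1, 6], []), ([9, 4, 7, 5, 3, 6, 5, 6, 8, 4, 2, 7, 7, 4, 4, 2, 5, 7], []), ([9, 0, 0, 3, 0, 0, 6, 6, 8, 1, 2,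 6, 6, 6, 1, 5, 3, 1], []), ([9, 3, 3, 4, 3, 1, 6, 6, 8, 6, 6, 4, 0, 7, 4, 6, 3, 0, 0, 0], []), ([9, 5, 3, 1, 5, 2, 6, 6, 8, 7, 7, 7, 3, 4, 0, 2, 4, 6], []), ([9, 2, 0, 2, 0, 3, 6, 6, 8, 6, 4, 4, 1, 4, 2, 1, 6, 2, 5, 2], []), ([9, 5, 0, 4, 3, 5, 6, 6, 8, 5, 3, 4, 6, 1, 7, 0, 7, 2, 7, 7, 1], []), ([9, 1, 4, 3, 5, 0, 0, 7, 8, 4, 3, 0, 0, 3, 1, 2, 0, 3, 6], []), ([9, 0, 0, 6, 5, 2, 0, 7, 8, 0, 4, 2, 2, 2, 5, 3, 6, 4, 1], []), ([9, 6, 6, 1, 2, 5, 0, 7, 8, 4, 4, 0, 0, 2, 4, 3, 3, 0, 0, 7], []), ([9, 2, 7, 3, 1, 6, 0, 7, 8, 2, 0, 5, 3, 4, 6, 3, 1, 5, 7, 1], []), ([9, 0, 4, 7, 5, 7, 0, 7, 8, 0, 7, 1, 3, 6, 3, 4, 6, 1, 2], []), ([9, 2, 0, 3, 4, 1, 1, 7, 8, 2, 5, 2, 5, 0, 5, 1, 2, 6], []),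 ([9, 2, 5, 2, 0, 2, 1, 7, 8, 4, 0, 3, 0, 3, 3, 4, 4, 1, 2, 6], []), ([9, 3, 3, 3, 1, 3, 1, 7, 8, 3, 5, 0, 2, 1, 5, 1, 1, 2, 6], []), ([9, 5, 2, 7, 5, 3, 1, 7, 8, 5, 6, 1, 1, 1, 6, 1, 5, 3, 4, 3], []), ([9, 3, 6, 2, 4, 4, 1, 7, 8, 4, 1, 7, 7, 1, 1, 4, 3, 1], []), ([9, 5, 0, 5, 6, 5, 1, 7, 8, 7, 7, 0, 4, 3, 6, 4, 4, 6, 4, 1], []), ([9, 0, 4, 1, 4, 1, 2, 7, 8, 0, 7, 3, 0, 0, 6, 1, 4, 4, 6, 0], []), ([9, 4, 6, 4, 4, 1, 2, 7, 8, 7, 1, 6, 1, 1, 6, 3, 3, 0, 7, 5], []), ([9, 3, 4, 0, 0, 5, 2, 7, 8, 4, 4, 0, 3, 4, 0, 5, 2, 5, 6], []), ([9, 3, 0, 6, 4, 0, 3, 7, 8, 0, 6, 5, 5, 1, 2, 2, 0, 4, 6, 0, 7], []), ([9, 6, 5, 2, 7, 0, 3, 7, 8, 2, 0, 7, 0, 3, 1, 3, 3, 6, 6, 2], []), ([9, 5, 0, 4, 7,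 0, 3, 7, 8, 4, 7, 7, 5, 6, 5, 6, 4, 0, 7, 0], []), ([9, 5, 2, 2, 1, 1, 3, 7, 8, 5, 5, 3, 4, 3, 4, 4, 3, 4, 6], []), ([9, 0, 0, 6, 3, 1, 3, 7, 8, 7, 2, 2, 2, 5, 0, 4, 7, 3, 4], []), ([9, 0, 2, 4, 6, 4, 3, 7, 8, 5, 5, 1, 1, 4, 2, 0, 3, 4, 7], []), ([9, 5, 1, 1, 1, 5, 3, 7, 8, 5, 1, 1, 7, 2, 4, 1, 5, 2, 4], []), ([9, 2, 1, 6, 2, 7, 3, 7, 8, 0, 3, 1, 1, 1, 3, 6, 5, 0], []), ([9, 5, 2, 0, 4, 7, 3, 7, 8, 1, 6, 5, 3, 4, 0, 5, 6, 4, 3, 1], []), ([9, 1, 1, 2, 4, 0, 4, 7, 8, 5, 3, 3, 1, 4, 1, 5, 1, 6], []), ([9, 5, 3, 3, 7, 0, 4, 7, 8, 0, 5, 2, 4, 4, 2, 7, 0, 4, 1, 2], []), ([9, 6, 6, 4, 3, 1, 4, 7, 8, 3, 4, 1, 4, 4, 0, 4, 0, 2, 7], []), ([9, 1, 4, 3, 4, 1, 4, 7, 8, 0, 0, 0, 2, 4, 4, 2,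 1, 3, 6], []), ([9, 4, 2, 0, 5, 1, 4, 7, 8, 4, 7, 4, 0, 0, 2, 4, 4, 1, 3, 4], []), ([9, 0, 0, 5, 6, 1, 4, 7, 8, 2, 1, 6, 1, 4, 3, 0, 0, 2, 1, 6], []), ([9, 3, 7, 3, 0, 2, 4, 7, 8, 5, 7, 4, 4, 6, 6, 2, 7, 5, 6, 1], []), ([9, 4, 6, 2, 1, 2, 4, 7, 8, 4, 4, 6, 2, 0, 0, 7, 7, 7, 0, 0], []), ([9, 6, 2, 1, 6, 3, 4, 7, 8, 4, 6, 5, 2, 7, 0, 4, 4, 2, 2, 1], []), ([9, 0, 0, 2, 7, 3, 4, 7, 8, 6, 4, 4, 3, 6, 2, 5, 7, 7, 2, 4], []), ([9, 2, 4, 3, 7, 3, 4, 7, 8, 0, 6, 5, 2, 7, 2, 0, 7, 5, 6], []), ([9, 7, 0, 4, 6, 6, 4, 7, 8, 6, 0, 0, 6, 5, 5, 6, 3, 1, 7, 3], []), ([9, 1, 6, 0, 7, 7, 4, 7, 8, 0, 3, 3, 0, 0, 6, 5, 1, 1], []), ([9, 4, 2, 2, 4, 0, 5, 7, 8, 4, 4, 1, 2, 5, 7, 3, 1, 1], []), ([9, 6,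 6, 6, 3, 1, 5, 7, 8, 0, 5, 7, 1, 5, 1, 4, 3, 7, 2, 7], []), ([9, 3, 5, 2, 0, 3, 5, 7, 8, 5, 1, 3, 1, 2, 5, 2, 4, 0, 6], []), ([9, 1, 2, 5, 0, 3, 5, 7, 8, 2, 4, 1, 2, 4, 3, 4, 0, 3, 3, 6], []), ([9, 7, 4, 7, 1, 6, 5, 7, 8, 0, 2, 0, 2, 4, 1, 4, 3, 0, 6, 5], []), ([9, 3, 7, 2, 2, 6, 5, 7, 8, 1, 5, 2, 1, 1, 7, 2, 2, 2, 0], []), ([9, 4, 3, 1, 1, 7, 5, 7, 8, 3, 0, 4, 4, 7, 1, 4, 0, 7, 0, 4], []), ([9, 6, 1, 4, 3, 0, 7, 7, 8, 6, 4, 3, 0, 5, 1, 1, 2, 4, 1, 2], []), ([9, 4, 3, 4, 1, 1, 7, 7, 8, 6, 0, 0, 3, 0, 2, 2, 4, 3, 6], []), ([9, 3, 1, 4, 4, 2, 7, 7, 8, 4, 6, 4, 0, 2, 6, 6, 0, 0, 0, 3], []), ([9, 3, 6, 0, 5, 2, 7, 7, 8, 4, 3, 6, 0, 6, 1, 2, 1, 5, 6, 0], []), ([9, 1, 4, 7, 2, 4, 7,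 7, 8, 5, 6, 3, 1, 2, 0, 6, 6, 3, 3], []), ([9, 3, 4, 3, 0, 5, 7, 7, 8, 2, 2, 0, 0, 2, 7, 1, 5, 2, 2], []), ([9, 6, 5, 0, 2, 5, 7, 7, 8, 6, 3, 1, 5, 1, 5, 5, 0, 5, 2], []), ([9, 6, 4, 0, 2, 7, 7, 7, 8, 6, 6, 0, 2, 1, 2, 5, 3, 1, 1, 4], []), ([9, 2, 7, 7, 3, 7, 7, 7, 8, 4, 0, 5, 7, 4, 3, 5, 2, 7, 7], []), ([9, 4, 6, 3, 5, 7, 7, 7, 8, 0, 7, 7, 0, 6, 3, 5], []), ([9, 5, 3, 4, 7, 7, 7, 7, 8, 6, 2, 4, 4, 0, 2, 7, 1, 7, 7, 4], []), ([9, 1, 2, 7, 7, 7, 7, 7, 8, 1, 3, 0, 0, 7, 2, 6, 3, 5, 5, 3], []), ([6, 9, 6, 9], []), ([6, 6, 9, 7, 8, 8, 7, 9], []), ([6, 6, 6, 9, 9, 7, 8, 6, 8, 7, 9, 9], []), ([0, 8, 0, 8, 0, 8, 0, 8, 0, 8, 0, 8], []), ([6, 6, 6, 6, 9, 7, 7, 7, 8, 6, 6, 8, 7, 7, 7, 9],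 []), ([0, 7, 4, 0, 7, 4, 6, 9, 0, 7, 4, 0, 7, 4, 8, 7], []), ([0, 5, 5, 2, 5, 2, 4, 8, 1, 4, 9, 6, 5, 0, 9, 2], []), ([0, 0, 3, 7, 7, 9, 7, 7, 5, 5, 5, 9, 1, 5, 2, 7], []), ([0, 2, 7, 5, 8, 5, 5, 0, 3, 9, 9, 0, 7, 0, 6, 3], []), ([0, 1], []), ([1, 0], []), ([2, 3], []), ([3, 2], []), ([4, 5], []), ([5, 4], []), ([6, 7], []), ([7, 6], []), ([8, 9], []), ([9, 8], [])]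

theorem words_mem : ∀ v ∈ words.toList, (v.2 = true → v.1 ∈ relL) ∧ (v.2 = false → v.1 ∈ subL) := by
  decide +kernel

/-- the seed words are in the seed list -/
noncomputable def seedChk (w : ℕ) : Bool :=
  match WT.get words w with
  | some (wd, true) => decide ((wd, Ev w) ∈ seedL)
  | _ => true

theorem seed_mem : ∀ w < 555, seedChk w = true := by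
  decide +kernel

end Cfsg.Agent.Lib.H6.Co2M.CB
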