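import Cfsg.Agent.Lib.H6.Co2M.CB.Rows0
import Cfsg.Agent.Lib.H6.Co2M.CB.Rows1
import Cfsg.Agent.Lib.H6.Co2M.CB.Rows2
import Cfsg.Agent.Lib.H6.Co2M.CB.Rows3

set_option autoImplicit false
set_option maxRecDepth 100000
set_option Elab.async false

/-! # Final table of the monomial coset enumeration (generated) -/

namespace Cfsg.Agent.Lib.H6.Co2M.CB

open Cfsg.Agent.Lib.H17.CosetCert (BT WT)
open Cfsg.Agent.Lib.H17.MonoCert

/-- all rows -/
def rows : List ℕ := rows0 ++ (rows1 ++ (rows2 ++ (rows3 ++ (rows4 ++ (rows5 ++ (rows6 ++ (rows7 ++ (rows8 ++ (rows9 ++ (rows10 ++ (rows11 ++ (rows12 ++ (rows13 ++ (rows14 ++ (rows15 ++ (rows16 ++ (rows17 ++ (rows18 ++ (rows19 ++ (rows20 ++ (rows21 ++ (rows22 ++ (rows23 ++ (rows24 ++ (rows25 ++ (rows26 ++ (rows27 ++ (rows28 ++ (rows29 ++ (rows30 ++ (rows31 ++ (rows32 ++ (rows33 ++ (rows34 ++ (rows35 ++ (rows36 ++ (rows37 ++ (rows38 ++ (rows39 ++ (rows40 ++ (rows41 ++ (rows42 ++ (rows43 ++ (rows44 ++ (rows45 ++ (rows46 ++ (rows47)))))))))))))))))))))))))))))))))))))))))))))))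

theorem rows_ok : checkRows F 10 1048576 471040 rows 0 = true :=
  checkRows_append_of F 10 1048576 471040 _ _ 0 1000 1000 rows0_ok rows0_len rfl (checkRows_append_of F 10 1048576 471040 _ _ 1000 1000 2000 rows1_ok rows1_len rfl (checkRows_append_of F 10 1048576 471040 _ _ 2000 1000 3000 rows2_ok rows2_len rfl (checkRows_append_of F 10 1048576 471040 _ _ 3000 1000 4000 rows3_ok rows3_len rfl (checkRows_append_of F 10 1048576 471040 _ _ 4000 1000 5000 rows4_ok rows4_len rfl (checkRows_append_of F 10 1048576 471040 _ _ 5000 1000 6000 rows5_ok rows5_len rfl (checkRows_append_of F 10 1048576 471040 _ _ 6000 1000 7000 rows6_ok rows6_len rfl (checkRows_append_of F 10 1048576 471040 _ _ 7000 1000 8000 rows7_ok rows7_len rfl (checkRows_append_of F 10 1048576 471040 _ _ 8000 1000 9000 rows8_ok rows8_len rfl (checkRows_append_of F 10 1048576 471040 _ _ 9000 1000 10000 rows9_ok rows9_len rfl (checkRows_append_of F 10 1048576 471040 _ _ 10000 1000 11000 rows10_ok rows10_len rfl (checkRows_append_of F 10 1048576 471040 _ _ 11000 1000 12000 rows11_ok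 rows11_len rfl (checkRows_append_of F 10 1048576 471040 _ _ 12000 1000 13000 rows12_ok rows12_len rfl (checkRows_append_of F 10 1048576 471040 _ _ 13000 1000 14000 rows13_ok rows13_len rfl (checkRows_append_of F 10 1048576 471040 _ _ 14000 1000 15000 rows14_ok rows14_len rfl (checkRows_append_of F 10 1048576 471040 _ _ 15000 1000 16000 rows15_ok rows15_len rfl (checkRows_append_of F 10 1048576 471040 _ _ 16000 1000 17000 rows16_ok rows16_len rfl (checkRows_append_of F 10 1048576 471040 _ _ 17000 1000 18000 rows17_ok rows17_len rfl (checkRows_append_of F 10 1048576 471040 _ _ 18000 1000 19000 rows18_ok rows18_len rfl (checkRows_append_of F 10 1048576 471040 _ _ 19000 1000 20000 rows19_ok rows19_len rfl (checkRows_append_of F 10 1048576 471040 _ _ 20000 1000 21000 rows20_ok rows20_len rfl (checkRows_append_of F 10 1048576 471040 _ _ 21000 1000 22000 rows21_ok rows21_len rfl (checkRows_append_of F 10 1048576 471040 _ _ 22000 1000 23000 rows22_ok rows22_len rfl (checkRows_append_of F 10 1048576 471040 _ _ 23000 1000 24000 rows23_ok rows23_len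 rfl (checkRows_append_of F 10 1048576 471040 _ _ 24000 1000 25000 rows24_ok rows24_len rfl (checkRows_append_of F 10 1048576 471040 _ _ 25000 1000 26000 rows25_ok rows25_len rfl (checkRows_append_of F 10 1048576 471040 _ _ 26000 1000 27000 rows26_ok rows26_len rfl (checkRows_append_of F 10 1048576 471040 _ _ 27000 1000 28000 rows27_ok rows27_len rfl (checkRows_append_of F 10 1048576 471040 _ _ 28000 1000 29000 rows28_ok rows28_len rfl (checkRows_append_of F 10 1048576 471040 _ _ 29000 1000 30000 rows29_ok rows29_len rfl (checkRows_append_of F 10 1048576 471040 _ _ 30000 1000 31000 rows30_ok rows30_len rfl (checkRows_append_of F 10 1048576 471040 _ _ 31000 1000 32000 rows31_ok rows31_len rfl (checkRows_append_of F 10 1048576 471040 _ _ 32000 1000 33000 rows32_ok rows32_len rfl (checkRows_append_of F 10 1048576 471040 _ _ 33000 1000 34000 rows33_ok rows33_len rfl (checkRows_append_of F 10 1048576 471040 _ _ 34000 1000 35000 rows34_ok rows34_len rfl (checkRows_append_of F 10 1048576 471040 _ _ 35000 1000 36000 rows35_ok rows35_len rfl (checkRows_append_of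 F 10 1048576 471040 _ _ 36000 1000 37000 rows36_ok rows36_len rfl (checkRows_append_of F 10 1048576 471040 _ _ 37000 1000 38000 rows37_ok rows37_len rfl (checkRows_append_of F 10 1048576 471040 _ _ 38000 1000 39000 rows38_ok rows38_len rfl (checkRows_append_of F 10 1048576 471040 _ _ 39000 1000 40000 rows39_ok rows39_len rfl (checkRows_append_of F 10 1048576 471040 _ _ 40000 1000 41000 rows40_ok rows40_len rfl (checkRows_append_of F 10 1048576 471040 _ _ 41000 1000 42000 rows41_ok rows41_len rfl (checkRows_append_of F 10 1048576 471040 _ _ 42000 1000 43000 rows42_ok rows42_len rfl (checkRows_append_of F 10 1048576 471040 _ _ 43000 1000 44000 rows43_ok rows43_len rfl (checkRows_append_of F 10 1048576 471040 _ _ 44000 1000 45000 rows44_ok rows44_len rfl (checkRows_append_of F 10 1048576 471040 _ _ 45000 1000 46000 rows45_ok rows45_len rfl (checkRows_append_of F 10 1048576 471040 _ _ 46000 1000 47000 rows46_ok rows46_len rfl (rows47_ok)))))))))))))))))))))))))))))))))))))))))))))))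

theorem rows_length : rows.length = 47104 := by
  unfold rows
  simp only [List.length_append, rows0_len, rows1_len, rows2_len, rows3_len, rows4_len, rows5_len, rows6_len, rows7_len, rows8_len, rows9_len, rows10_len, rows11_len, rows12_len, rows13_len, rows14_len, rows15_len, rows16_len, rows17_len, rows18_len, rows19_len, rows20_len, rows21_len, rows22_len, rows23_len, rows24_len, rows25_len, rows26_len, rows27_len, rows28_len, rows29_len, rows30_len, rows31_len, rows32_len, rows33_len, rows34_len, rows35_len, rows36_len, rows37_len, rows38_len, rows39_len, rows40_len, rows41_len, rows42_len, rows43_len, rows44_len, rows45_len, rows46_len, rows47_len]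

end Cfsg.Agent.Lib.H6.Co2M.CB
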