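import Cfsg.Agent.Lib.H6.Co2M.CB.StepsA
import Cfsg.Agent.Lib.H6.Co2M.CB.StepsB
import Cfsg.Agent.Lib.H6.Co2M.CB.StepsC
import Cfsg.Agent.Lib.H6.Co2M.CB.StepsD
import Cfsg.Agent.Lib.H6.Co2M.CB.StepsE
import Cfsg.Agent.Lib.H6.Co2M.CB.StepsF
import Cfsg.Agent.Lib.H6.Co2M.CB.StepsG
import Cfsg.Agent.Lib.H6.Co2M.CB.StepsH
import Cfsg.Agent.Lib.H6.Co2M.CB.StepsI
import Cfsg.Agent.Lib.H6.Co2M.CB.StepsJ
import Cfsg.Agent.Lib.H6.Co2M.CB.StepsK
import Cfsg.Agent.Lib.H6.Co2M.CB.StepsL
import Cfsg.Agent.Lib.H6.Co2M.CB.StepsM
import Cfsg.Agent.Lib.H6.Co2M.CB.StepsN
import Cfsg.Agent.Lib.H6.Co2M.CB.StepsO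
import Cfsg.Agent.Lib.H6.Co2M.CB.StepsP
import Cfsg.Agent.Lib.H6.Co2M.CB.StepsQ
import Cfsg.Agent.Lib.H6.Co2M.CB.StepsR
import Cfsg.Agent.Lib.H6.Co2M.CB.StepsS
import Cfsg.Agent.Lib.H6.Co2M.CB.StepsT
import Cfsg.Agent.Lib.H6.Co2M.CB.Rows

set_option autoImplicit false
set_option maxRecDepth 100000
set_option Elab.async false

/-! # Running the monomial certificate (generated) -/

namespace Cfsg.Agent.Lib.H6.Co2M.CB

open Cfsg.Agent.Lib.H17.CosetCert (BT WT)
open Cfsg.Agent.Lib.H17.MonoCert

variable {G Q A : Type*} [Group G] [MulAction G Q] [Group A] [MulAction A Q]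
  [SMulCommClass G A Q] (tw : List ℤ → A) (γ : ℕ → G)

theorem run (hfree : ∀ (α β : A) (q : Q), α • q = β • q → α = β)
    (htw : TwOK ladd (List.replicate 0 0) leq tw) (q0 : Q) (hw : WordsOK Ev tw γ q0 words 555) :
    Inv F Ev tw γ q0 words 471040 47104 555 := by
  have h0 := inv_zero F Ev tw γ q0 words 555 hw
  have h1 := checkSteps_sound ladd (List.replicate 0 0) leq F Ev 10 1048576 tw γ hfree htw q0 words 555 hw steps0 0 1 555 1500 630 555 h0 chk0
  have h2 := checkSteps_sound ladd (List.replicate 0 0) leq F Ev 10 1048576 tw γ hfree htw q0 words 555 hw steps1 1500 630 555 3000 885 555 h1 chk1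
  have h3 := checkSteps_sound ladd (List.replicate 0 0) leq F Ev 10 1048576 tw γ hfree htw q0 words 555 hw steps2 3000 885 555 4500 1153 555 h2 chk2
  have h4 := checkSteps_sound ladd (List.replicate 0 0) leq F Ev 10 1048576 tw γ hfree htw q0 words 555 hw steps3 4500 1153 555 6000 1541 555 h3 chk3
  have h5 := checkSteps_sound ladd (List.replicate 0 0) leq F Ev 10 1048576 tw γ hfree htw q0 words 555 hw steps4 6000 1541 555 7500 1777 555 h4 chk4
  have h6 := checkSteps_sound ladd (List.replicate 0 0) leq F Ev 10 1048576 tw γ hfree htw q0 words 555 hw steps5 7500 1777 555 9000 2110 555 h5 chk5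
  have h7 := checkSteps_sound ladd (List.replicate 0 0) leq F Ev 10 1048576 tw γ hfree htw q0 words 555 hw steps6 9000 2110 555 10500 2453 555 h6 chk6
  have h8 := checkSteps_sound ladd (List.replicate 0 0) leq F Ev 10 1048576 tw γ hfree htw q0 words 555 hw steps7 10500 2453 555 12000 2836 555 h7 chk7
  have h9 := checkSteps_sound ladd (List.replicate 0 0) leq F Ev 10 1048576 tw γ hfree htw q0 words 555 hw steps8 12000 2836 555 13500 3152 555 h8 chk8
  have h10 := checkSteps_sound ladd (List.replicate 0 0) leq F Ev 10 1048576 tw γ hfree htw q0 words 555 hw steps9 13500 3152 555 15000 3499 555 h9 chk9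
  have h11 := checkSteps_sound ladd (List.replicate 0 0) leq F Ev 10 1048576 tw γ hfree htw q0 words 555 hw steps10 15000 3499 555 16500 3824 555 h10 chk10
  have h12 := checkSteps_sound ladd (List.replicate 0 0) leq F Ev 10 1048576 tw γ hfree htw q0 words 555 hw steps11 16500 3824 555 18000 4214 555 h11 chk11
  have h13 := checkSteps_sound ladd (List.replicate 0 0) leq F Ev 10 1048576 tw γ hfree htw q0 words 555 hw steps12 18000 4214 555 19500 4590 555 h12 chk12
  have h14 := checkSteps_sound ladd (List.replicate 0 0) leq F Ev 10 1048576 tw γ hfree htw q0 words 555 hw steps13 19500 4590 555 21000 4940 555 h13 chk13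
  have h15 := checkSteps_sound ladd (List.replicate 0 0) leq F Ev 10 1048576 tw γ hfree htw q0 words 555 hw steps14 21000 4940 555 22500 5315 555 h14 chk14
  have h16 := checkSteps_sound ladd (List.replicate 0 0) leq F Ev 10 1048576 tw γ hfree htw q0 words 555 hw steps15 22500 5315 555 24000 5794 555 h15 chk15
  have h17 := checkSteps_sound ladd (List.replicate 0 0) leq F Ev 10 1048576 tw γ hfree htw q0 words 555 hw steps16 24000 5794 555 25500 6163 555 h16 chk16
  have h18 := checkSteps_sound ladd (List.replicate 0 0) leq F Ev 10 1048576 tw γ hfree htw q0 words 555 hw steps17 25500 6163 555 27000 6867 555 h17 chk17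
  have h19 := checkSteps_sound ladd (List.replicate 0 0) leq F Ev 10 1048576 tw γ hfree htw q0 words 555 hw steps18 27000 6867 555 28500 7410 555 h18 chk18
  have h20 := checkSteps_sound ladd (List.replicate 0 0) leq F Ev 10 1048576 tw γ hfree htw q0 words 555 hw steps19 28500 7410 555 30000 7859 555 h19 chk19
  have h21 := checkSteps_sound ladd (List.replicate 0 0) leq F Ev 10 1048576 tw γ hfree htw q0 words 555 hw steps20 30000 7859 555 31500 8512 555 h20 chk20
  have h22 := checkSteps_sound ladd (List.replicate 0 0) leq F Ev 10 1048576 tw γ hfree htw q0 words 555 hw steps21 31500 8512 555 33000 8923 555 h21 chk21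
  have h23 := checkSteps_sound ladd (List.replicate 0 0) leq F Ev 10 1048576 tw γ hfree htw q0 words 555 hw steps22 33000 8923 555 34500 8923 555 h22 chk22
  have h24 := checkSteps_sound ladd (List.replicate 0 0) leq F Ev 10 1048576 tw γ hfree htw q0 words 555 hw steps23 34500 8923 555 36000 8923 555 h23 chk23
  have h25 := checkSteps_sound ladd (List.replicate 0 0) leq F Ev 10 1048576 tw γ hfree htw q0 words 555 hw steps24 36000 8923 555 37500 8923 555 h24 chk24
  have h26 := checkSteps_sound ladd (List.replicate 0 0) leq F Ev 10 1048576 tw γ hfree htw q0 words 555 hw steps25 37500 8923 555 39000 8923 555 h25 chk25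
  have h27 := checkSteps_sound ladd (List.replicate 0 0) leq F Ev 10 1048576 tw γ hfree htw q0 words 555 hw steps26 39000 8923 555 40500 8923 555 h26 chk26
  have h28 := checkSteps_sound ladd (List.replicate 0 0) leq F Ev 10 1048576 tw γ hfree htw q0 words 555 hw steps27 40500 8923 555 42000 8923 555 h27 chk27
  have h29 := checkSteps_sound ladd (List.replicate 0 0) leq F Ev 10 1048576 tw γ hfree htw q0 words 555 hw steps28 42000 8923 555 43500 8923 555 h28 chk28
  have h30 := checkSteps_sound ladd (List.replicate 0 0) leq F Ev 10 1048576 tw γ hfree htw q0 words 555 hw steps29 43500 8923 555 45000 8923 555 h29 chk29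
  have h31 := checkSteps_sound ladd (List.replicate 0 0) leq F Ev 10 1048576 tw γ hfree htw q0 words 555 hw steps30 45000 8923 555 46500 9025 555 h30 chk30
  have h32 := checkSteps_sound ladd (List.replicate 0 0) leq F Ev 10 1048576 tw γ hfree htw q0 words 555 hw steps31 46500 9025 555 48000 9197 555 h31 chk31
  have h33 := checkSteps_sound ladd (List.replicate 0 0) leq F Ev 10 1048576 tw γ hfree htw q0 words 555 hw steps32 48000 9197 555 49500 9399 555 h32 chk32
  have h34 := checkSteps_sound ladd (List.replicate 0 0) leq F Ev 10 1048576 tw γ hfree htw q0 words 555 hw steps33 49500 9399 555 51000 9548 555 h33 chk33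
  have h35 := checkSteps_sound ladd (List.replicate 0 0) leq F Ev 10 1048576 tw γ hfree htw q0 words 555 hw steps34 51000 9548 555 52500 9988 555 h34 chk34
  have h36 := checkSteps_sound ladd (List.replicate 0 0) leq F Ev 10 1048576 tw γ hfree htw q0 words 555 hw steps35 52500 9988 555 54000 10290 555 h35 chk35
  have h37 := checkSteps_sound ladd (List.replicate 0 0) leq F Ev 10 1048576 tw γ hfree htw q0 words 555 hw steps36 54000 10290 555 55500 10486 555 h36 chk36
  have h38 := checkSteps_sound ladd (List.replicate 0 0) leq F Ev 10 1048576 tw γ hfree htw q0 words 555 hw steps37 55500 10486 555 57000 10629 555 h37 chk37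
  have h39 := checkSteps_sound ladd (List.replicate 0 0) leq F Ev 10 1048576 tw γ hfree htw q0 words 555 hw steps38 57000 10629 555 58500 10838 555 h38 chk38
  have h40 := checkSteps_sound ladd (List.replicate 0 0) leq F Ev 10 1048576 tw γ hfree htw q0 words 555 hw steps39 58500 10838 555 60000 11105 555 h39 chk39
  have h41 := checkSteps_sound ladd (List.replicate 0 0) leq F Ev 10 1048576 tw γ hfree htw q0 words 555 hw steps40 60000 11105 555 61500 11492 555 h40 chk40
  have h42 := checkSteps_sound ladd (List.replicate 0 0) leq F Ev 10 1048576 tw γ hfree htw q0 words 555 hw steps41 61500 11492 555 63000 11805 555 h41 chk41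
  have h43 := checkSteps_sound ladd (List.replicate 0 0) leq F Ev 10 1048576 tw γ hfree htw q0 words 555 hw steps42 63000 11805 555 64500 11976 555 h42 chk42
  have h44 := checkSteps_sound ladd (List.replicate 0 0) leq F Ev 10 1048576 tw γ hfree htw q0 words 555 hw steps43 64500 11976 555 66000 12146 555 h43 chk43
  have h45 := checkSteps_sound ladd (List.replicate 0 0) leq F Ev 10 1048576 tw γ hfree htw q0 words 555 hw steps44 66000 12146 555 67500 12318 555 h44 chk44
  have h46 := checkSteps_sound ladd (List.replicate 0 0) leq F Ev 10 1048576 tw γ hfree htw q0 words 555 hw steps45 67500 12318 555 69000 12472 555 h45 chk45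
  have h47 := checkSteps_sound ladd (List.replicate 0 0) leq F Ev 10 1048576 tw γ hfree htw q0 words 555 hw steps46 69000 12472 555 70500 12629 555 h46 chk46
  have h48 := checkSteps_sound ladd (List.replicate 0 0) leq F Ev 10 1048576 tw γ hfree htw q0 words 555 hw steps47 70500 12629 555 72000 12800 555 h47 chk47
  have h49 := checkSteps_sound ladd (List.replicate 0 0) leq F Ev 10 1048576 tw γ hfree htw q0 words 555 hw steps48 72000 12800 555 73500 12991 555 h48 chk48
  have h50 := checkSteps_sound ladd (List.replicate 0 0) leq F Ev 10 1048576 tw γ hfree htw q0 words 555 hw steps49 73500 12991 555 75000 13193 555 h49 chk49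
  have h51 := checkSteps_sound ladd (List.replicate 0 0) leq F Ev 10 1048576 tw γ hfree htw q0 words 555 hw steps50 75000 13193 555 76500 13445 555 h50 chk50
  have h52 := checkSteps_sound ladd (List.replicate 0 0) leq F Ev 10 1048576 tw γ hfree htw q0 words 555 hw steps51 76500 13445 555 78000 13623 555 h51 chk51
  have h53 := checkSteps_sound ladd (List.replicate 0 0) leq F Ev 10 1048576 tw γ hfree htw q0 words 555 hw steps52 78000 13623 555 79500 13786 555 h52 chk52
  have h54 := checkSteps_sound ladd (List.replicate 0 0) leq F Ev 10 1048576 tw γ hfree htw q0 words 555 hw steps53 79500 13786 555 81000 13942 555 h53 chk53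
  have h55 := checkSteps_sound ladd (List.replicate 0 0) leq F Ev 10 1048576 tw γ hfree htw q0 words 555 hw steps54 81000 13942 555 82500 14097 555 h54 chk54
  have h56 := checkSteps_sound ladd (List.replicate 0 0) leq F Ev 10 1048576 tw γ hfree htw q0 words 555 hw steps55 82500 14097 555 84000 14242 555 h55 chk55
  have h57 := checkSteps_sound ladd (List.replicate 0 0) leq F Ev 10 1048576 tw γ hfree htw q0 words 555 hw steps56 84000 14242 555 85500 14399 555 h56 chk56
  have h58 := checkSteps_sound ladd (List.replicate 0 0) leq F Ev 10 1048576 tw γ hfree htw q0 words 555 hw steps57 85500 14399 555 87000 14583 555 h57 chk57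
  have h59 := checkSteps_sound ladd (List.replicate 0 0) leq F Ev 10 1048576 tw γ hfree htw q0 words 555 hw steps58 87000 14583 555 88500 14754 555 h58 chk58
  have h60 := checkSteps_sound ladd (List.replicate 0 0) leq F Ev 10 1048576 tw γ hfree htw q0 words 555 hw steps59 88500 14754 555 90000 14915 555 h59 chk59
  have h61 := checkSteps_sound ladd (List.replicate 0 0) leq F Ev 10 1048576 tw γ hfree htw q0 words 555 hw steps60 90000 14915 555 91500 15121 555 h60 chk60
  have h62 := checkSteps_sound ladd (List.replicate 0 0) leq F Ev 10 1048576 tw γ hfree htw q0 words 555 hw steps61 91500 15121 555 93000 15319 555 h61 chk61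
  have h63 := checkSteps_sound ladd (List.replicate 0 0) leq F Ev 10 1048576 tw γ hfree htw q0 words 555 hw steps62 93000 15319 555 94500 15476 555 h62 chk62
  have h64 := checkSteps_sound ladd (List.replicate 0 0) leq F Ev 10 1048576 tw γ hfree htw q0 words 555 hw steps63 94500 15476 555 96000 15632 555 h63 chk63
  have h65 := checkSteps_sound ladd (List.replicate 0 0) leq F Ev 10 1048576 tw γ hfree htw q0 words 555 hw steps64 96000 15632 555 97500 15829 555 h64 chk64
  have h66 := checkSteps_sound ladd (List.replicate 0 0) leq F Ev 10 1048576 tw γ hfree htw q0 words 555 hw steps65 97500 15829 555 99000 16011 555 h65 chk65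
  have h67 := checkSteps_sound ladd (List.replicate 0 0) leq F Ev 10 1048576 tw γ hfree htw q0 words 555 hw steps66 99000 16011 555 100500 16172 555 h66 chk66
  have h68 := checkSteps_sound ladd (List.replicate 0 0) leq F Ev 10 1048576 tw γ hfree htw q0 words 555 hw steps67 100500 16172 555 102000 16329 555 h67 chk67
  have h69 := checkSteps_sound ladd (List.replicate 0 0) leq F Ev 10 1048576 tw γ hfree htw q0 words 555 hw steps68 102000 16329 555 103500 16511 555 h68 chk68
  have h70 := checkSteps_sound ladd (List.replicate 0 0) leq F Ev 10 1048576 tw γ hfree htw q0 words 555 hw steps69 103500 16511 555 105000 16710 555 h69 chk69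
  have h71 := checkSteps_sound ladd (List.replicate 0 0) leq F Ev 10 1048576 tw γ hfree htw q0 words 555 hw steps70 105000 16710 555 106500 16875 555 h70 chk70
  have h72 := checkSteps_sound ladd (List.replicate 0 0) leq F Ev 10 1048576 tw γ hfree htw q0 words 555 hw steps71 106500 16875 555 108000 17045 555 h71 chk71
  have h73 := checkSteps_sound ladd (List.replicate 0 0) leq F Ev 10 1048576 tw γ hfree htw q0 words 555 hw steps72 108000 17045 555 109500 17239 555 h72 chk72
  have h74 := checkSteps_sound ladd (List.replicate 0 0) leq F Ev 10 1048576 tw γ hfree htw q0 words 555 hw steps73 109500 17239 555 111000 17403 555 h73 chk73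
  have h75 := checkSteps_sound ladd (List.replicate 0 0) leq F Ev 10 1048576 tw γ hfree htw q0 words 555 hw steps74 111000 17403 555 112500 17572 555 h74 chk74
  have h76 := checkSteps_sound ladd (List.replicate 0 0) leq F Ev 10 1048576 tw γ hfree htw q0 words 555 hw steps75 112500 17572 555 114000 17741 555 h75 chk75
  have h77 := checkSteps_sound ladd (List.replicate 0 0) leq F Ev 10 1048576 tw γ hfree htw q0 words 555 hw steps76 114000 17741 555 115500 17932 555 h76 chk76
  have h78 := checkSteps_sound ladd (List.replicate 0 0) leq F Ev 10 1048576 tw γ hfree htw q0 words 555 hw steps77 115500 17932 555 117000 18123 555 h77 chk77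
  have h79 := checkSteps_sound ladd (List.replicate 0 0) leq F Ev 10 1048576 tw γ hfree htw q0 words 555 hw steps78 117000 18123 555 118500 18290 555 h78 chk78
  have h80 := checkSteps_sound ladd (List.replicate 0 0) leq F Ev 10 1048576 tw γ hfree htw q0 words 555 hw steps79 118500 18290 555 120000 18438 555 h79 chk79
  have h81 := checkSteps_sound ladd (List.replicate 0 0) leq F Ev 10 1048576 tw γ hfree htw q0 words 555 hw steps80 120000 18438 555 121500 18621 555 h80 chk80
  have h82 := checkSteps_sound ladd (List.replicate 0 0) leq F Ev 10 1048576 tw γ hfree htw q0 words 555 hw steps81 121500 18621 555 123000 18621 555 h81 chk81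
  have h83 := checkSteps_sound ladd (List.replicate 0 0) leq F Ev 10 1048576 tw γ hfree htw q0 words 555 hw steps82 123000 18621 555 124500 18692 555 h82 chk82
  have h84 := checkSteps_sound ladd (List.replicate 0 0) leq F Ev 10 1048576 tw γ hfree htw q0 words 555 hw steps83 124500 18692 555 126000 18866 555 h83 chk83
  have h85 := checkSteps_sound ladd (List.replicate 0 0) leq F Ev 10 1048576 tw γ hfree htw q0 words 555 hw steps84 126000 18866 555 127500 19002 555 h84 chk84
  have h86 := checkSteps_sound ladd (List.replicate 0 0) leq F Ev 10 1048576 tw γ hfree htw q0 words 555 hw steps85 127500 19002 555 129000 19163 555 h85 chk85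
  have h87 := checkSteps_sound ladd (List.replicate 0 0) leq F Ev 10 1048576 tw γ hfree htw q0 words 555 hw steps86 129000 19163 555 130500 19364 555 h86 chk86
  have h88 := checkSteps_sound ladd (List.replicate 0 0) leq F Ev 10 1048576 tw γ hfree htw q0 words 555 hw steps87 130500 19364 555 132000 19521 555 h87 chk87
  have h89 := checkSteps_sound ladd (List.replicate 0 0) leq F Ev 10 1048576 tw γ hfree htw q0 words 555 hw steps88 132000 19521 555 133500 19702 555 h88 chk88
  have h90 := checkSteps_sound ladd (List.replicate 0 0) leq F Ev 10 1048576 tw γ hfree htw q0 words 555 hw steps89 133500 19702 555 135000 19873 555 h89 chk89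
  have h91 := checkSteps_sound ladd (List.replicate 0 0) leq F Ev 10 1048576 tw γ hfree htw q0 words 555 hw steps90 135000 19873 555 136500 19955 555 h90 chk90
  have h92 := checkSteps_sound ladd (List.replicate 0 0) leq F Ev 10 1048576 tw γ hfree htw q0 words 555 hw steps91 136500 19955 555 138000 20112 555 h91 chk91
  have h93 := checkSteps_sound ladd (List.replicate 0 0) leq F Ev 10 1048576 tw γ hfree htw q0 words 555 hw steps92 138000 20112 555 139500 20311 555 h92 chk92
  have h94 := checkSteps_sound ladd (List.replicate 0 0) leq F Ev 10 1048576 tw γ hfree htw q0 words 555 hw steps93 139500 20311 555 141000 20489 555 h93 chk93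
  have h95 := checkSteps_sound ladd (List.replicate 0 0) leq F Ev 10 1048576 tw γ hfree htw q0 words 555 hw steps94 141000 20489 555 142500 20604 555 h94 chk94
  have h96 := checkSteps_sound ladd (List.replicate 0 0) leq F Ev 10 1048576 tw γ hfree htw q0 words 555 hw steps95 142500 20604 555 144000 20758 555 h95 chk95
  have h97 := checkSteps_sound ladd (List.replicate 0 0) leq F Ev 10 1048576 tw γ hfree htw q0 words 555 hw steps96 144000 20758 555 145500 20875 555 h96 chk96
  have h98 := checkSteps_sound ladd (List.replicate 0 0) leq F Ev 10 1048576 tw γ hfree htw q0 words 555 hw steps97 145500 20875 555 147000 21018 555 h97 chk97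
  have h99 := checkSteps_sound ladd (List.replicate 0 0) leq F Ev 10 1048576 tw γ hfree htw q0 words 555 hw steps98 147000 21018 555 148500 21171 555 h98 chk98
  have h100 := checkSteps_sound ladd (List.replicate 0 0) leq F Ev 10 1048576 tw γ hfree htw q0 words 555 hw steps99 148500 21171 555 150000 21378 555 h99 chk99
  have h101 := checkSteps_sound ladd (List.replicate 0 0) leq F Ev 10 1048576 tw γ hfree htw q0 words 555 hw steps100 150000 21378 555 151500 21643 555 h100 chk100
  have h102 := checkSteps_sound ladd (List.replicate 0 0) leq F Ev 10 1048576 tw γ hfree htw q0 words 555 hw steps101 151500 21643 555 153000 21835 555 h101 chk101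
  have h103 := checkSteps_sound ladd (List.replicate 0 0) leq F Ev 10 1048576 tw γ hfree htw q0 words 555 hw steps102 153000 21835 555 154500 21982 555 h102 chk102
  have h104 := checkSteps_sound ladd (List.replicate 0 0) leq F Ev 10 1048576 tw γ hfree htw q0 words 555 hw steps103 154500 21982 555 156000 22149 555 h103 chk103
  have h105 := checkSteps_sound ladd (List.replicate 0 0) leq F Ev 10 1048576 tw γ hfree htw q0 words 555 hw steps104 156000 22149 555 157500 22283 555 h104 chk104
  have h106 := checkSteps_sound ladd (List.replicate 0 0) leq F Ev 10 1048576 tw γ hfree htw q0 words 555 hw steps105 157500 22283 555 159000 22407 555 h105 chk105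
  have h107 := checkSteps_sound ladd (List.replicate 0 0) leq F Ev 10 1048576 tw γ hfree htw q0 words 555 hw steps106 159000 22407 555 160500 22546 555 h106 chk106
  have h108 := checkSteps_sound ladd (List.replicate 0 0) leq F Ev 10 1048576 tw γ hfree htw q0 words 555 hw steps107 160500 22546 555 162000 22708 555 h107 chk107
  have h109 := checkSteps_sound ladd (List.replicate 0 0) leq F Ev 10 1048576 tw γ hfree htw q0 words 555 hw steps108 162000 22708 555 163500 22835 555 h108 chk108
  have h110 := checkSteps_sound ladd (List.replicate 0 0) leq F Ev 10 1048576 tw γ hfree htw q0 words 555 hw steps109 163500 22835 555 165000 22977 555 h109 chk109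
  have h111 := checkSteps_sound ladd (List.replicate 0 0) leq F Ev 10 1048576 tw γ hfree htw q0 words 555 hw steps110 165000 22977 555 166500 23149 555 h110 chk110
  have h112 := checkSteps_sound ladd (List.replicate 0 0) leq F Ev 10 1048576 tw γ hfree htw q0 words 555 hw steps111 166500 23149 555 168000 23285 555 h111 chk111
  have h113 := checkSteps_sound ladd (List.replicate 0 0) leq F Ev 10 1048576 tw γ hfree htw q0 words 555 hw steps112 168000 23285 555 169500 23415 555 h112 chk112
  have h114 := checkSteps_sound ladd (List.replicate 0 0) leq F Ev 10 1048576 tw γ hfree htw q0 words 555 hw steps113 169500 23415 555 171000 23539 555 h113 chk113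
  have h115 := checkSteps_sound ladd (List.replicate 0 0) leq F Ev 10 1048576 tw γ hfree htw q0 words 555 hw steps114 171000 23539 555 172500 23663 555 h114 chk114
  have h116 := checkSteps_sound ladd (List.replicate 0 0) leq F Ev 10 1048576 tw γ hfree htw q0 words 555 hw steps115 172500 23663 555 174000 23809 555 h115 chk115
  have h117 := checkSteps_sound ladd (List.replicate 0 0) leq F Ev 10 1048576 tw γ hfree htw q0 words 555 hw steps116 174000 23809 555 175500 23943 555 h116 chk116
  have h118 := checkSteps_sound ladd (List.replicate 0 0) leq F Ev 10 1048576 tw γ hfree htw q0 words 555 hw steps117 175500 23943 555 177000 24073 555 h117 chk117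
  have h119 := checkSteps_sound ladd (List.replicate 0 0) leq F Ev 10 1048576 tw γ hfree htw q0 words 555 hw steps118 177000 24073 555 178500 24214 555 h118 chk118
  have h120 := checkSteps_sound ladd (List.replicate 0 0) leq F Ev 10 1048576 tw γ hfree htw q0 words 555 hw steps119 178500 24214 555 180000 24384 555 h119 chk119
  have h121 := checkSteps_sound ladd (List.replicate 0 0) leq F Ev 10 1048576 tw γ hfree htw q0 words 555 hw steps120 180000 24384 555 181500 24519 555 h120 chk120
  have h122 := checkSteps_sound ladd (List.replicate 0 0) leq F Ev 10 1048576 tw γ hfree htw q0 words 555 hw steps121 181500 24519 555 183000 24708 555 h121 chk121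
  have h123 := checkSteps_sound ladd (List.replicate 0 0) leq F Ev 10 1048576 tw γ hfree htw q0 words 555 hw steps122 183000 24708 555 184500 24840 555 h122 chk122
  have h124 := checkSteps_sound ladd (List.replicate 0 0) leq F Ev 10 1048576 tw γ hfree htw q0 words 555 hw steps123 184500 24840 555 186000 24960 555 h123 chk123
  have h125 := checkSteps_sound ladd (List.replicate 0 0) leq F Ev 10 1048576 tw γ hfree htw q0 words 555 hw steps124 186000 24960 555 187500 25120 555 h124 chk124
  have h126 := checkSteps_sound ladd (List.replicate 0 0) leq F Ev 10 1048576 tw γ hfree htw q0 words 555 hw steps125 187500 25120 555 189000 25293 555 h125 chk125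
  have h127 := checkSteps_sound ladd (List.replicate 0 0) leq F Ev 10 1048576 tw γ hfree htw q0 words 555 hw steps126 189000 25293 555 190500 25563 555 h126 chk126
  have h128 := checkSteps_sound ladd (List.replicate 0 0) leq F Ev 10 1048576 tw γ hfree htw q0 words 555 hw steps127 190500 25563 555 192000 25706 555 h127 chk127
  have h129 := checkSteps_sound ladd (List.replicate 0 0) leq F Ev 10 1048576 tw γ hfree htw q0 words 555 hw steps128 192000 25706 555 193500 25872 555 h128 chk128
  have h130 := checkSteps_sound ladd (List.replicate 0 0) leq F Ev 10 1048576 tw γ hfree htw q0 words 555 hw steps129 193500 25872 555 195000 25996 555 h129 chk129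
  have h131 := checkSteps_sound ladd (List.replicate 0 0) leq F Ev 10 1048576 tw γ hfree htw q0 words 555 hw steps130 195000 25996 555 196500 26156 555 h130 chk130
  have h132 := checkSteps_sound ladd (List.replicate 0 0) leq F Ev 10 1048576 tw γ hfree htw q0 words 555 hw steps131 196500 26156 555 198000 26281 555 h131 chk131
  have h133 := checkSteps_sound ladd (List.replicate 0 0) leq F Ev 10 1048576 tw γ hfree htw q0 words 555 hw steps132 198000 26281 555 199500 26422 555 h132 chk132
  have h134 := checkSteps_sound ladd (List.replicate 0 0) leq F Ev 10 1048576 tw γ hfree htw q0 words 555 hw steps133 199500 26422 555 201000 26561 555 h133 chk133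
  have h135 := checkSteps_sound ladd (List.replicate 0 0) leq F Ev 10 1048576 tw γ hfree htw q0 words 555 hw steps134 201000 26561 555 202500 26681 555 h134 chk134
  have h136 := checkSteps_sound ladd (List.replicate 0 0) leq F Ev 10 1048576 tw γ hfree htw q0 words 555 hw steps135 202500 26681 555 204000 26799 555 h135 chk135
  have h137 := checkSteps_sound ladd (List.replicate 0 0) leq F Ev 10 1048576 tw γ hfree htw q0 words 555 hw steps136 204000 26799 555 205500 26918 555 h136 chk136
  have h138 := checkSteps_sound ladd (List.replicate 0 0) leq F Ev 10 1048576 tw γ hfree htw q0 words 555 hw steps137 205500 26918 555 207000 27063 555 h137 chk137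
  have h139 := checkSteps_sound ladd (List.replicate 0 0) leq F Ev 10 1048576 tw γ hfree htw q0 words 555 hw steps138 207000 27063 555 208500 27178 555 h138 chk138
  have h140 := checkSteps_sound ladd (List.replicate 0 0) leq F Ev 10 1048576 tw γ hfree htw q0 words 555 hw steps139 208500 27178 555 210000 27312 555 h139 chk139
  have h141 := checkSteps_sound ladd (List.replicate 0 0) leq F Ev 10 1048576 tw γ hfree htw q0 words 555 hw steps140 210000 27312 555 211500 27427 555 h140 chk140
  have h142 := checkSteps_sound ladd (List.replicate 0 0) leq F Ev 10 1048576 tw γ hfree htw q0 words 555 hw steps141 211500 27427 555 213000 27554 555 h141 chk141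
  have h143 := checkSteps_sound ladd (List.replicate 0 0) leq F Ev 10 1048576 tw γ hfree htw q0 words 555 hw steps142 213000 27554 555 214500 27687 555 h142 chk142
  have h144 := checkSteps_sound ladd (List.replicate 0 0) leq F Ev 10 1048576 tw γ hfree htw q0 words 555 hw steps143 214500 27687 555 216000 27813 555 h143 chk143
  have h145 := checkSteps_sound ladd (List.replicate 0 0) leq F Ev 10 1048576 tw γ hfree htw q0 words 555 hw steps144 216000 27813 555 217500 27978 555 h144 chk144
  have h146 := checkSteps_sound ladd (List.replicate 0 0) leq F Ev 10 1048576 tw γ hfree htw q0 words 555 hw steps145 217500 27978 555 219000 28161 555 h145 chk145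
  have h147 := checkSteps_sound ladd (List.replicate 0 0) leq F Ev 10 1048576 tw γ hfree htw q0 words 555 hw steps146 219000 28161 555 220500 28305 555 h146 chk146
  have h148 := checkSteps_sound ladd (List.replicate 0 0) leq F Ev 10 1048576 tw γ hfree htw q0 words 555 hw steps147 220500 28305 555 222000 28462 555 h147 chk147
  have h149 := checkSteps_sound ladd (List.replicate 0 0) leq F Ev 10 1048576 tw γ hfree htw q0 words 555 hw steps148 222000 28462 555 223500 28587 555 h148 chk148
  have h150 := checkSteps_sound ladd (List.replicate 0 0) leq F Ev 10 1048576 tw γ hfree htw q0 words 555 hw steps149 223500 28587 555 225000 28719 555 h149 chk149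
  have h151 := checkSteps_sound ladd (List.replicate 0 0) leq F Ev 10 1048576 tw γ hfree htw q0 words 555 hw steps150 225000 28719 555 226500 28885 555 h150 chk150
  have h152 := checkSteps_sound ladd (List.replicate 0 0) leq F Ev 10 1048576 tw γ hfree htw q0 words 555 hw steps151 226500 28885 555 228000 29019 555 h151 chk151
  have h153 := checkSteps_sound ladd (List.replicate 0 0) leq F Ev 10 1048576 tw γ hfree htw q0 words 555 hw steps152 228000 29019 555 229500 29216 555 h152 chk152
  have h154 := checkSteps_sound ladd (List.replicate 0 0) leq F Ev 10 1048576 tw γ hfree htw q0 words 555 hw steps153 229500 29216 555 231000 29367 555 h153 chk153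
  have h155 := checkSteps_sound ladd (List.replicate 0 0) leq F Ev 10 1048576 tw γ hfree htw q0 words 555 hw steps154 231000 29367 555 232500 29558 555 h154 chk154
  have h156 := checkSteps_sound ladd (List.replicate 0 0) leq F Ev 10 1048576 tw γ hfree htw q0 words 555 hw steps155 232500 29558 555 234000 29722 555 h155 chk155
  have h157 := checkSteps_sound ladd (List.replicate 0 0) leq F Ev 10 1048576 tw γ hfree htw q0 words 555 hw steps156 234000 29722 555 235500 29842 555 h156 chk156
  have h158 := checkSteps_sound ladd (List.replicate 0 0) leq F Ev 10 1048576 tw γ hfree htw q0 words 555 hw steps157 235500 29842 555 237000 29967 555 h157 chk157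
  have h159 := checkSteps_sound ladd (List.replicate 0 0) leq F Ev 10 1048576 tw γ hfree htw q0 words 555 hw steps158 237000 29967 555 238500 30069 555 h158 chk158
  have h160 := checkSteps_sound ladd (List.replicate 0 0) leq F Ev 10 1048576 tw γ hfree htw q0 words 555 hw steps159 238500 30069 555 240000 30176 555 h159 chk159
  have h161 := checkSteps_sound ladd (List.replicate 0 0) leq F Ev 10 1048576 tw γ hfree htw q0 words 555 hw steps160 240000 30176 555 241500 30292 555 h160 chk160
  have h162 := checkSteps_sound ladd (List.replicate 0 0) leq F Ev 10 1048576 tw γ hfree htw q0 words 555 hw steps161 241500 30292 555 243000 30403 555 h161 chk161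
  have h163 := checkSteps_sound ladd (List.replicate 0 0) leq F Ev 10 1048576 tw γ hfree htw q0 words 555 hw steps162 243000 30403 555 244500 30524 555 h162 chk162
  have h164 := checkSteps_sound ladd (List.replicate 0 0) leq F Ev 10 1048576 tw γ hfree htw q0 words 555 hw steps163 244500 30524 555 246000 30664 555 h163 chk163
  have h165 := checkSteps_sound ladd (List.replicate 0 0) leq F Ev 10 1048576 tw γ hfree htw q0 words 555 hw steps164 246000 30664 555 247500 30834 555 h164 chk164
  have h166 := checkSteps_sound ladd (List.replicate 0 0) leq F Ev 10 1048576 tw γ hfree htw q0 words 555 hw steps165 247500 30834 555 249000 30987 555 h165 chk165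
  have h167 := checkSteps_sound ladd (List.replicate 0 0) leq F Ev 10 1048576 tw γ hfree htw q0 words 555 hw steps166 249000 30987 555 250500 31128 555 h166 chk166
  have h168 := checkSteps_sound ladd (List.replicate 0 0) leq F Ev 10 1048576 tw γ hfree htw q0 words 555 hw steps167 250500 31128 555 252000 31247 555 h167 chk167
  have h169 := checkSteps_sound ladd (List.replicate 0 0) leq F Ev 10 1048576 tw γ hfree htw q0 words 555 hw steps168 252000 31247 555 253500 31418 555 h168 chk168
  have h170 := checkSteps_sound ladd (List.replicate 0 0) leq F Ev 10 1048576 tw γ hfree htw q0 words 555 hw steps169 253500 31418 555 255000 31620 555 h169 chk169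
  have h171 := checkSteps_sound ladd (List.replicate 0 0) leq F Ev 10 1048576 tw γ hfree htw q0 words 555 hw steps170 255000 31620 555 256500 31786 555 h170 chk170
  have h172 := checkSteps_sound ladd (List.replicate 0 0) leq F Ev 10 1048576 tw γ hfree htw q0 words 555 hw steps171 256500 31786 555 258000 31965 555 h171 chk171
  have h173 := checkSteps_sound ladd (List.replicate 0 0) leq F Ev 10 1048576 tw γ hfree htw q0 words 555 hw steps172 258000 31965 555 259500 32147 555 h172 chk172
  have h174 := checkSteps_sound ladd (List.replicate 0 0) leq F Ev 10 1048576 tw γ hfree htw q0 words 555 hw steps173 259500 32147 555 261000 32294 555 h173 chk173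
  have h175 := checkSteps_sound ladd (List.replicate 0 0) leq F Ev 10 1048576 tw γ hfree htw q0 words 555 hw steps174 261000 32294 555 262500 32431 555 h174 chk174
  have h176 := checkSteps_sound ladd (List.replicate 0 0) leq F Ev 10 1048576 tw γ hfree htw q0 words 555 hw steps175 262500 32431 555 264000 32578 555 h175 chk175
  have h177 := checkSteps_sound ladd (List.replicate 0 0) leq F Ev 10 1048576 tw γ hfree htw q0 words 555 hw steps176 264000 32578 555 265500 32784 555 h176 chk176
  have h178 := checkSteps_sound ladd (List.replicate 0 0) leq F Ev 10 1048576 tw γ hfree htw q0 words 555 hw steps177 265500 32784 555 267000 32929 555 h177 chk177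
  have h179 := checkSteps_sound ladd (List.replicate 0 0) leq F Ev 10 1048576 tw γ hfree htw q0 words 555 hw steps178 267000 32929 555 268500 33041 555 h178 chk178
  have h180 := checkSteps_sound ladd (List.replicate 0 0) leq F Ev 10 1048576 tw γ hfree htw q0 words 555 hw steps179 268500 33041 555 270000 33149 555 h179 chk179
  have h181 := checkSteps_sound ladd (List.replicate 0 0) leq F Ev 10 1048576 tw γ hfree htw q0 words 555 hw steps180 270000 33149 555 271500 33254 555 h180 chk180
  have h182 := checkSteps_sound ladd (List.replicate 0 0) leq F Ev 10 1048576 tw γ hfree htw q0 words 555 hw steps181 271500 33254 555 273000 33384 555 h181 chk181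
  have h183 := checkSteps_sound ladd (List.replicate 0 0) leq F Ev 10 1048576 tw γ hfree htw q0 words 555 hw steps182 273000 33384 555 274500 33496 555 h182 chk182
  have h184 := checkSteps_sound ladd (List.replicate 0 0) leq F Ev 10 1048576 tw γ hfree htw q0 words 555 hw steps183 274500 33496 555 276000 33610 555 h183 chk183
  have h185 := checkSteps_sound ladd (List.replicate 0 0) leq F Ev 10 1048576 tw γ hfree htw q0 words 555 hw steps184 276000 33610 555 277500 33717 555 h184 chk184
  have h186 := checkSteps_sound ladd (List.replicate 0 0) leq F Ev 10 1048576 tw γ hfree htw q0 words 555 hw steps185 277500 33717 555 279000 33830 555 h185 chk185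
  have h187 := checkSteps_sound ladd (List.replicate 0 0) leq F Ev 10 1048576 tw γ hfree htw q0 words 555 hw steps186 279000 33830 555 280500 33939 555 h186 chk186
  have h188 := checkSteps_sound ladd (List.replicate 0 0) leq F Ev 10 1048576 tw γ hfree htw q0 words 555 hw steps187 280500 33939 555 282000 34058 555 h187 chk187
  have h189 := checkSteps_sound ladd (List.replicate 0 0) leq F Ev 10 1048576 tw γ hfree htw q0 words 555 hw steps188 282000 34058 555 283500 34178 555 h188 chk188
  have h190 := checkSteps_sound ladd (List.replicate 0 0) leq F Ev 10 1048576 tw γ hfree htw q0 words 555 hw steps189 283500 34178 555 285000 34305 555 h189 chk189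
  have h191 := checkSteps_sound ladd (List.replicate 0 0) leq F Ev 10 1048576 tw γ hfree htw q0 words 555 hw steps190 285000 34305 555 286500 34499 555 h190 chk190
  have h192 := checkSteps_sound ladd (List.replicate 0 0) leq F Ev 10 1048576 tw γ hfree htw q0 words 555 hw steps191 286500 34499 555 288000 34614 555 h191 chk191
  have h193 := checkSteps_sound ladd (List.replicate 0 0) leq F Ev 10 1048576 tw γ hfree htw q0 words 555 hw steps192 288000 34614 555 289500 34751 555 h192 chk192
  have h194 := checkSteps_sound ladd (List.replicate 0 0) leq F Ev 10 1048576 tw γ hfree htw q0 words 555 hw steps193 289500 34751 555 291000 34866 555 h193 chk193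
  have h195 := checkSteps_sound ladd (List.replicate 0 0) leq F Ev 10 1048576 tw γ hfree htw q0 words 555 hw steps194 291000 34866 555 292500 34989 555 h194 chk194
  have h196 := checkSteps_sound ladd (List.replicate 0 0) leq F Ev 10 1048576 tw γ hfree htw q0 words 555 hw steps195 292500 34989 555 294000 35102 555 h195 chk195
  have h197 := checkSteps_sound ladd (List.replicate 0 0) leq F Ev 10 1048576 tw γ hfree htw q0 words 555 hw steps196 294000 35102 555 295500 35207 555 h196 chk196
  have h198 := checkSteps_sound ladd (List.replicate 0 0) leq F Ev 10 1048576 tw γ hfree htw q0 words 555 hw steps197 295500 35207 555 297000 35324 555 h197 chk197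
  have h199 := checkSteps_sound ladd (List.replicate 0 0) leq F Ev 10 1048576 tw γ hfree htw q0 words 555 hw steps198 297000 35324 555 298500 35439 555 h198 chk198
  have h200 := checkSteps_sound ladd (List.replicate 0 0) leq F Ev 10 1048576 tw γ hfree htw q0 words 555 hw steps199 298500 35439 555 300000 35551 555 h199 chk199
  have h201 := checkSteps_sound ladd (List.replicate 0 0) leq F Ev 10 1048576 tw γ hfree htw q0 words 555 hw steps200 300000 35551 555 301500 35660 555 h200 chk200
  have h202 := checkSteps_sound ladd (List.replicate 0 0) leq F Ev 10 1048576 tw γ hfree htw q0 words 555 hw steps201 301500 35660 555 303000 35778 555 h201 chk201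
  have h203 := checkSteps_sound ladd (List.replicate 0 0) leq F Ev 10 1048576 tw γ hfree htw q0 words 555 hw steps202 303000 35778 555 304500 35890 555 h202 chk202
  have h204 := checkSteps_sound ladd (List.replicate 0 0) leq F Ev 10 1048576 tw γ hfree htw q0 words 555 hw steps203 304500 35890 555 306000 36013 555 h203 chk203
  have h205 := checkSteps_sound ladd (List.replicate 0 0) leq F Ev 10 1048576 tw γ hfree htw q0 words 555 hw steps204 306000 36013 555 307500 36136 555 h204 chk204
  have h206 := checkSteps_sound ladd (List.replicate 0 0) leq F Ev 10 1048576 tw γ hfree htw q0 words 555 hw steps205 307500 36136 555 309000 36252 555 h205 chk205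
  have h207 := checkSteps_sound ladd (List.replicate 0 0) leq F Ev 10 1048576 tw γ hfree htw q0 words 555 hw steps206 309000 36252 555 310500 36367 555 h206 chk206
  have h208 := checkSteps_sound ladd (List.replicate 0 0) leq F Ev 10 1048576 tw γ hfree htw q0 words 555 hw steps207 310500 36367 555 312000 36481 555 h207 chk207
  have h209 := checkSteps_sound ladd (List.replicate 0 0) leq F Ev 10 1048576 tw γ hfree htw q0 words 555 hw steps208 312000 36481 555 313500 36585 555 h208 chk208
  have h210 := checkSteps_sound ladd (List.replicate 0 0) leq F Ev 10 1048576 tw γ hfree htw q0 words 555 hw steps209 313500 36585 555 315000 36713 555 h209 chk209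
  have h211 := checkSteps_sound ladd (List.replicate 0 0) leq F Ev 10 1048576 tw γ hfree htw q0 words 555 hw steps210 315000 36713 555 316500 36829 555 h210 chk210
  have h212 := checkSteps_sound ladd (List.replicate 0 0) leq F Ev 10 1048576 tw γ hfree htw q0 words 555 hw steps211 316500 36829 555 318000 36942 555 h211 chk211
  have h213 := checkSteps_sound ladd (List.replicate 0 0) leq F Ev 10 1048576 tw γ hfree htw q0 words 555 hw steps212 318000 36942 555 319500 37068 555 h212 chk212
  have h214 := checkSteps_sound ladd (List.replicate 0 0) leq F Ev 10 1048576 tw γ hfree htw q0 words 555 hw steps213 319500 37068 555 321000 37184 555 h213 chk213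
  have h215 := checkSteps_sound ladd (List.replicate 0 0) leq F Ev 10 1048576 tw γ hfree htw q0 words 555 hw steps214 321000 37184 555 322500 37295 555 h214 chk214
  have h216 := checkSteps_sound ladd (List.replicate 0 0) leq F Ev 10 1048576 tw γ hfree htw q0 words 555 hw steps215 322500 37295 555 324000 37410 555 h215 chk215
  have h217 := checkSteps_sound ladd (List.replicate 0 0) leq F Ev 10 1048576 tw γ hfree htw q0 words 555 hw steps216 324000 37410 555 325500 37510 555 h216 chk216
  have h218 := checkSteps_sound ladd (List.replicate 0 0) leq F Ev 10 1048576 tw γ hfree htw q0 words 555 hw steps217 325500 37510 555 327000 37636 555 h217 chk217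
  have h219 := checkSteps_sound ladd (List.replicate 0 0) leq F Ev 10 1048576 tw γ hfree htw q0 words 555 hw steps218 327000 37636 555 328500 37780 555 h218 chk218
  have h220 := checkSteps_sound ladd (List.replicate 0 0) leq F Ev 10 1048576 tw γ hfree htw q0 words 555 hw steps219 328500 37780 555 330000 37891 555 h219 chk219
  have h221 := checkSteps_sound ladd (List.replicate 0 0) leq F Ev 10 1048576 tw γ hfree htw q0 words 555 hw steps220 330000 37891 555 331500 37904 555 h220 chk220
  have h222 := checkSteps_sound ladd (List.replicate 0 0) leq F Ev 10 1048576 tw γ hfree htw q0 words 555 hw steps221 331500 37904 555 333000 37945 555 h221 chk221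
  have h223 := checkSteps_sound ladd (List.replicate 0 0) leq F Ev 10 1048576 tw γ hfree htw q0 words 555 hw steps222 333000 37945 555 334500 38051 555 h222 chk222
  have h224 := checkSteps_sound ladd (List.replicate 0 0) leq F Ev 10 1048576 tw γ hfree htw q0 words 555 hw steps223 334500 38051 555 336000 38122 555 h223 chk223
  have h225 := checkSteps_sound ladd (List.replicate 0 0) leq F Ev 10 1048576 tw γ hfree htw q0 words 555 hw steps224 336000 38122 555 337500 38234 555 h224 chk224
  have h226 := checkSteps_sound ladd (List.replicate 0 0) leq F Ev 10 1048576 tw γ hfree htw q0 words 555 hw steps225 337500 38234 555 339000 38327 555 h225 chk225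
  have h227 := checkSteps_sound ladd (List.replicate 0 0) leq F Ev 10 1048576 tw γ hfree htw q0 words 555 hw steps226 339000 38327 555 340500 38421 555 h226 chk226
  have h228 := checkSteps_sound ladd (List.replicate 0 0) leq F Ev 10 1048576 tw γ hfree htw q0 words 555 hw steps227 340500 38421 555 342000 38512 555 h227 chk227
  have h229 := checkSteps_sound ladd (List.replicate 0 0) leq F Ev 10 1048576 tw γ hfree htw q0 words 555 hw steps228 342000 38512 555 343500 38613 555 h228 chk228
  have h230 := checkSteps_sound ladd (List.replicate 0 0) leq F Ev 10 1048576 tw γ hfree htw q0 words 555 hw steps229 343500 38613 555 345000 38707 555 h229 chk229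
  have h231 := checkSteps_sound ladd (List.replicate 0 0) leq F Ev 10 1048576 tw γ hfree htw q0 words 555 hw steps230 345000 38707 555 346500 38819 555 h230 chk230
  have h232 := checkSteps_sound ladd (List.replicate 0 0) leq F Ev 10 1048576 tw γ hfree htw q0 words 555 hw steps231 346500 38819 555 348000 38901 555 h231 chk231
  have h233 := checkSteps_sound ladd (List.replicate 0 0) leq F Ev 10 1048576 tw γ hfree htw q0 words 555 hw steps232 348000 38901 555 349500 39006 555 h232 chk232
  have h234 := checkSteps_sound ladd (List.replicate 0 0) leq F Ev 10 1048576 tw γ hfree htw q0 words 555 hw steps233 349500 39006 555 351000 39101 555 h233 chk233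
  have h235 := checkSteps_sound ladd (List.replicate 0 0) leq F Ev 10 1048576 tw γ hfree htw q0 words 555 hw steps234 351000 39101 555 352500 39195 555 h234 chk234
  have h236 := checkSteps_sound ladd (List.replicate 0 0) leq F Ev 10 1048576 tw γ hfree htw q0 words 555 hw steps235 352500 39195 555 354000 39302 555 h235 chk235
  have h237 := checkSteps_sound ladd (List.replicate 0 0) leq F Ev 10 1048576 tw γ hfree htw q0 words 555 hw steps236 354000 39302 555 355500 39399 555 h236 chk236
  have h238 := checkSteps_sound ladd (List.replicate 0 0) leq F Ev 10 1048576 tw γ hfree htw q0 words 555 hw steps237 355500 39399 555 357000 39499 555 h237 chk237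
  have h239 := checkSteps_sound ladd (List.replicate 0 0) leq F Ev 10 1048576 tw γ hfree htw q0 words 555 hw steps238 357000 39499 555 358500 39596 555 h238 chk238
  have h240 := checkSteps_sound ladd (List.replicate 0 0) leq F Ev 10 1048576 tw γ hfree htw q0 words 555 hw steps239 358500 39596 555 360000 39699 555 h239 chk239
  have h241 := checkSteps_sound ladd (List.replicate 0 0) leq F Ev 10 1048576 tw γ hfree htw q0 words 555 hw steps240 360000 39699 555 361500 39802 555 h240 chk240
  have h242 := checkSteps_sound ladd (List.replicate 0 0) leq F Ev 10 1048576 tw γ hfree htw q0 words 555 hw steps241 361500 39802 555 363000 39903 555 h241 chk241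
  have h243 := checkSteps_sound ladd (List.replicate 0 0) leq F Ev 10 1048576 tw γ hfree htw q0 words 555 hw steps242 363000 39903 555 364500 40001 555 h242 chk242
  have h244 := checkSteps_sound ladd (List.replicate 0 0) leq F Ev 10 1048576 tw γ hfree htw q0 words 555 hw steps243 364500 40001 555 366000 40104 555 h243 chk243
  have h245 := checkSteps_sound ladd (List.replicate 0 0) leq F Ev 10 1048576 tw γ hfree htw q0 words 555 hw steps244 366000 40104 555 367500 40212 555 h244 chk244
  have h246 := checkSteps_sound ladd (List.replicate 0 0) leq F Ev 10 1048576 tw γ hfree htw q0 words 555 hw steps245 367500 40212 555 369000 40308 555 h245 chk245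
  have h247 := checkSteps_sound ladd (List.replicate 0 0) leq F Ev 10 1048576 tw γ hfree htw q0 words 555 hw steps246 369000 40308 555 370500 40413 555 h246 chk246
  have h248 := checkSteps_sound ladd (List.replicate 0 0) leq F Ev 10 1048576 tw γ hfree htw q0 words 555 hw steps247 370500 40413 555 372000 40519 555 h247 chk247
  have h249 := checkSteps_sound ladd (List.replicate 0 0) leq F Ev 10 1048576 tw γ hfree htw q0 words 555 hw steps248 372000 40519 555 373500 40628 555 h248 chk248
  have h250 := checkSteps_sound ladd (List.replicate 0 0) leq F Ev 10 1048576 tw γ hfree htw q0 words 555 hw steps249 373500 40628 555 375000 40738 555 h249 chk249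
  have h251 := checkSteps_sound ladd (List.replicate 0 0) leq F Ev 10 1048576 tw γ hfree htw q0 words 555 hw steps250 375000 40738 555 376500 40839 555 h250 chk250
  have h252 := checkSteps_sound ladd (List.replicate 0 0) leq F Ev 10 1048576 tw γ hfree htw q0 words 555 hw steps251 376500 40839 555 378000 40954 555 h251 chk251
  have h253 := checkSteps_sound ladd (List.replicate 0 0) leq F Ev 10 1048576 tw γ hfree htw q0 words 555 hw steps252 378000 40954 555 379500 41076 555 h252 chk252
  have h254 := checkSteps_sound ladd (List.replicate 0 0) leq F Ev 10 1048576 tw γ hfree htw q0 words 555 hw steps253 379500 41076 555 381000 41210 555 h253 chk253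
  have h255 := checkSteps_sound ladd (List.replicate 0 0) leq F Ev 10 1048576 tw γ hfree htw q0 words 555 hw steps254 381000 41210 555 382500 41346 555 h254 chk254
  have h256 := checkSteps_sound ladd (List.replicate 0 0) leq F Ev 10 1048576 tw γ hfree htw q0 words 555 hw steps255 382500 41346 555 384000 41459 555 h255 chk255
  have h257 := checkSteps_sound ladd (List.replicate 0 0) leq F Ev 10 1048576 tw γ hfree htw q0 words 555 hw steps256 384000 41459 555 385500 41566 555 h256 chk256
  have h258 := checkSteps_sound ladd (List.replicate 0 0) leq F Ev 10 1048576 tw γ hfree htw q0 words 555 hw steps257 385500 41566 555 387000 41669 555 h257 chk257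
  have h259 := checkSteps_sound ladd (List.replicate 0 0) leq F Ev 10 1048576 tw γ hfree htw q0 words 555 hw steps258 387000 41669 555 388500 41776 555 h258 chk258
  have h260 := checkSteps_sound ladd (List.replicate 0 0) leq F Ev 10 1048576 tw γ hfree htw q0 words 555 hw steps259 388500 41776 555 390000 41875 555 h259 chk259
  have h261 := checkSteps_sound ladd (List.replicate 0 0) leq F Ev 10 1048576 tw γ hfree htw q0 words 555 hw steps260 390000 41875 555 391500 41976 555 h260 chk260
  have h262 := checkSteps_sound ladd (List.replicate 0 0) leq F Ev 10 1048576 tw γ hfree htw q0 words 555 hw steps261 391500 41976 555 393000 42081 555 h261 chk261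
  have h263 := checkSteps_sound ladd (List.replicate 0 0) leq F Ev 10 1048576 tw γ hfree htw q0 words 555 hw steps262 393000 42081 555 394500 42188 555 h262 chk262
  have h264 := checkSteps_sound ladd (List.replicate 0 0) leq F Ev 10 1048576 tw γ hfree htw q0 words 555 hw steps263 394500 42188 555 396000 42301 555 h263 chk263
  have h265 := checkSteps_sound ladd (List.replicate 0 0) leq F Ev 10 1048576 tw γ hfree htw q0 words 555 hw steps264 396000 42301 555 397500 42398 555 h264 chk264
  have h266 := checkSteps_sound ladd (List.replicate 0 0) leq F Ev 10 1048576 tw γ hfree htw q0 words 555 hw steps265 397500 42398 555 399000 42500 555 h265 chk265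
  have h267 := checkSteps_sound ladd (List.replicate 0 0) leq F Ev 10 1048576 tw γ hfree htw q0 words 555 hw steps266 399000 42500 555 400500 42614 555 h266 chk266
  have h268 := checkSteps_sound ladd (List.replicate 0 0) leq F Ev 10 1048576 tw γ hfree htw q0 words 555 hw steps267 400500 42614 555 402000 42712 555 h267 chk267
  have h269 := checkSteps_sound ladd (List.replicate 0 0) leq F Ev 10 1048576 tw γ hfree htw q0 words 555 hw steps268 402000 42712 555 403500 42813 555 h268 chk268
  have h270 := checkSteps_sound ladd (List.replicate 0 0) leq F Ev 10 1048576 tw γ hfree htw q0 words 555 hw steps269 403500 42813 555 405000 42911 555 h269 chk269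
  have h271 := checkSteps_sound ladd (List.replicate 0 0) leq F Ev 10 1048576 tw γ hfree htw q0 words 555 hw steps270 405000 42911 555 406500 43011 555 h270 chk270
  have h272 := checkSteps_sound ladd (List.replicate 0 0) leq F Ev 10 1048576 tw γ hfree htw q0 words 555 hw steps271 406500 43011 555 408000 43114 555 h271 chk271
  have h273 := checkSteps_sound ladd (List.replicate 0 0) leq F Ev 10 1048576 tw γ hfree htw q0 words 555 hw steps272 408000 43114 555 409500 43218 555 h272 chk272
  have h274 := checkSteps_sound ladd (List.replicate 0 0) leq F Ev 10 1048576 tw γ hfree htw q0 words 555 hw steps273 409500 43218 555 411000 43313 555 h273 chk273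
  have h275 := checkSteps_sound ladd (List.replicate 0 0) leq F Ev 10 1048576 tw γ hfree htw q0 words 555 hw steps274 411000 43313 555 412500 43425 555 h274 chk274
  have h276 := checkSteps_sound ladd (List.replicate 0 0) leq F Ev 10 1048576 tw γ hfree htw q0 words 555 hw steps275 412500 43425 555 414000 43541 555 h275 chk275
  have h277 := checkSteps_sound ladd (List.replicate 0 0) leq F Ev 10 1048576 tw γ hfree htw q0 words 555 hw steps276 414000 43541 555 415500 43651 555 h276 chk276
  have h278 := checkSteps_sound ladd (List.replicate 0 0) leq F Ev 10 1048576 tw γ hfree htw q0 words 555 hw steps277 415500 43651 555 417000 43762 555 h277 chk277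
  have h279 := checkSteps_sound ladd (List.replicate 0 0) leq F Ev 10 1048576 tw γ hfree htw q0 words 555 hw steps278 417000 43762 555 418500 43859 555 h278 chk278
  have h280 := checkSteps_sound ladd (List.replicate 0 0) leq F Ev 10 1048576 tw γ hfree htw q0 words 555 hw steps279 418500 43859 555 420000 43957 555 h279 chk279
  have h281 := checkSteps_sound ladd (List.replicate 0 0) leq F Ev 10 1048576 tw γ hfree htw q0 words 555 hw steps280 420000 43957 555 421500 44051 555 h280 chk280
  have h282 := checkSteps_sound ladd (List.replicate 0 0) leq F Ev 10 1048576 tw γ hfree htw q0 words 555 hw steps281 421500 44051 555 423000 44144 555 h281 chk281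
  have h283 := checkSteps_sound ladd (List.replicate 0 0) leq F Ev 10 1048576 tw γ hfree htw q0 words 555 hw steps282 423000 44144 555 424500 44242 555 h282 chk282
  have h284 := checkSteps_sound ladd (List.replicate 0 0) leq F Ev 10 1048576 tw γ hfree htw q0 words 555 hw steps283 424500 44242 555 426000 44339 555 h283 chk283
  have h285 := checkSteps_sound ladd (List.replicate 0 0) leq F Ev 10 1048576 tw γ hfree htw q0 words 555 hw steps284 426000 44339 555 427500 44434 555 h284 chk284
  have h286 := checkSteps_sound ladd (List.replicate 0 0) leq F Ev 10 1048576 tw γ hfree htw q0 words 555 hw steps285 427500 44434 555 429000 44529 555 h285 chk285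
  have h287 := checkSteps_sound ladd (List.replicate 0 0) leq F Ev 10 1048576 tw γ hfree htw q0 words 555 hw steps286 429000 44529 555 430500 44631 555 h286 chk286
  have h288 := checkSteps_sound ladd (List.replicate 0 0) leq F Ev 10 1048576 tw γ hfree htw q0 words 555 hw steps287 430500 44631 555 432000 44740 555 h287 chk287
  have h289 := checkSteps_sound ladd (List.replicate 0 0) leq F Ev 10 1048576 tw γ hfree htw q0 words 555 hw steps288 432000 44740 555 433500 44837 555 h288 chk288
  have h290 := checkSteps_sound ladd (List.replicate 0 0) leq F Ev 10 1048576 tw γ hfree htw q0 words 555 hw steps289 433500 44837 555 435000 44929 555 h289 chk289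
  have h291 := checkSteps_sound ladd (List.replicate 0 0) leq F Ev 10 1048576 tw γ hfree htw q0 words 555 hw steps290 435000 44929 555 436500 45018 555 h290 chk290
  have h292 := checkSteps_sound ladd (List.replicate 0 0) leq F Ev 10 1048576 tw γ hfree htw q0 words 555 hw steps291 436500 45018 555 438000 45117 555 h291 chk291
  have h293 := checkSteps_sound ladd (List.replicate 0 0) leq F Ev 10 1048576 tw γ hfree htw q0 words 555 hw steps292 438000 45117 555 439500 45214 555 h292 chk292
  have h294 := checkSteps_sound ladd (List.replicate 0 0) leq F Ev 10 1048576 tw γ hfree htw q0 words 555 hw steps293 439500 45214 555 441000 45311 555 h293 chk293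
  have h295 := checkSteps_sound ladd (List.replicate 0 0) leq F Ev 10 1048576 tw γ hfree htw q0 words 555 hw steps294 441000 45311 555 442500 45399 555 h294 chk294
  have h296 := checkSteps_sound ladd (List.replicate 0 0) leq F Ev 10 1048576 tw γ hfree htw q0 words 555 hw steps295 442500 45399 555 444000 45491 555 h295 chk295
  have h297 := checkSteps_sound ladd (List.replicate 0 0) leq F Ev 10 1048576 tw γ hfree htw q0 words 555 hw steps296 444000 45491 555 445500 45582 555 h296 chk296
  have h298 := checkSteps_sound ladd (List.replicate 0 0) leq F Ev 10 1048576 tw γ hfree htw q0 words 555 hw steps297 445500 45582 555 447000 45684 555 h297 chk297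
  have h299 := checkSteps_sound ladd (List.replicate 0 0) leq F Ev 10 1048576 tw γ hfree htw q0 words 555 hw steps298 447000 45684 555 448500 45774 555 h298 chk298
  have h300 := checkSteps_sound ladd (List.replicate 0 0) leq F Ev 10 1048576 tw γ hfree htw q0 words 555 hw steps299 448500 45774 555 450000 45873 555 h299 chk299
  have h301 := checkSteps_sound ladd (List.replicate 0 0) leq F Ev 10 1048576 tw γ hfree htw q0 words 555 hw steps300 450000 45873 555 451500 45969 555 h300 chk300
  have h302 := checkSteps_sound ladd (List.replicate 0 0) leq F Ev 10 1048576 tw γ hfree htw q0 words 555 hw steps301 451500 45969 555 453000 46062 555 h301 chk301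
  have h303 := checkSteps_sound ladd (List.replicate 0 0) leq F Ev 10 1048576 tw γ hfree htw q0 words 555 hw steps302 453000 46062 555 454500 46156 555 h302 chk302
  have h304 := checkSteps_sound ladd (List.replicate 0 0) leq F Ev 10 1048576 tw γ hfree htw q0 words 555 hw steps303 454500 46156 555 456000 46248 555 h303 chk303
  have h305 := checkSteps_sound ladd (List.replicate 0 0) leq F Ev 10 1048576 tw γ hfree htw q0 words 555 hw steps304 456000 46248 555 457500 46336 555 h304 chk304
  have h306 := checkSteps_sound ladd (List.replicate 0 0) leq F Ev 10 1048576 tw γ hfree htw q0 words 555 hw steps305 457500 46336 555 459000 46419 555 h305 chk305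
  have h307 := checkSteps_sound ladd (List.replicate 0 0) leq F Ev 10 1048576 tw γ hfree htw q0 words 555 hw steps306 459000 46419 555 460500 46503 555 h306 chk306
  have h308 := checkSteps_sound ladd (List.replicate 0 0) leq F Ev 10 1048576 tw γ hfree htw q0 words 555 hw steps307 460500 46503 555 462000 46587 555 h307 chk307
  have h309 := checkSteps_sound ladd (List.replicate 0 0) leq F Ev 10 1048576 tw γ hfree htw q0 words 555 hw steps308 462000 46587 555 463500 46670 555 h308 chk308
  have h310 := checkSteps_sound ladd (List.replicate 0 0) leq F Ev 10 1048576 tw γ hfree htw q0 words 555 hw steps309 463500 46670 555 465000 46757 555 h309 chk309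
  have h311 := checkSteps_sound ladd (List.replicate 0 0) leq F Ev 10 1048576 tw γ hfree htw q0 words 555 hw steps310 465000 46757 555 466500 46845 555 h310 chk310
  have h312 := checkSteps_sound ladd (List.replicate 0 0) leq F Ev 10 1048576 tw γ hfree htw q0 words 555 hw steps311 466500 46845 555 468000 46931 555 h311 chk311
  have h313 := checkSteps_sound ladd (List.replicate 0 0) leq F Ev 10 1048576 tw γ hfree htw q0 words 555 hw steps312 468000 46931 555 469500 47019 555 h312 chk312
  have h314 := checkSteps_sound ladd (List.replicate 0 0) leq F Ev 10 1048576 tw γ hfree htw q0 words 555 hw steps313 469500 47019 555 471000 47102 555 h313 chk313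
  have h315 := checkSteps_sound ladd (List.replicate 0 0) leq F Ev 10 1048576 tw γ hfree htw q0 words 555 hw steps314 471000 47102 555 471040 47104 555 h314 chk314
  exact h315

end Cfsg.Agent.Lib.H6.Co2M.CB
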